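import Cfsg.Agent.H436.L34.Nine_m3
import Cfsg.Agent.H5.L34.Lang_m3
import Cfsg.Agent.H865.L34.Abel
import Cfsg.Agent.H939.L64.Base
import Cfsg.Agent.H968.L34.BSet_m3
import Cfsg.Agent.ChevFast.E8
import Cfsg.Agent.ChevFast.Tg
import Cfsg.Agent.Lib.ListFast
import Cfsg.Agent.H413.L16.Nel_m3
import Cfsg.Agent.H81.RankTwo
import Cfsg.Agent.H201.L34.Form_m3
import Cfsg.Agent.H643.L34.Schur_m3
import Cfsg.Agent.H904.L34.UnitZ_m3
import Cfsg.Agent.H942.DF.Frob
import Cfsg.Agent.H198.L34.Frame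
import Mathlib
import Cfsg.Agent.H904.L34.Last_m3
import Cfsg.Agent.FastGrp
import Cfsg.Agent.Prune
set_option linter.all false

section
prune_inst 0x7ffcadfbabf8bfffffff7e7faededffdf9b93fffe6dff9cbffe0e3ff3bdf6b0289c56bad8beb90fe0ed6e21410f87b43fbffceffe86bdc7ffffd5ff41ffbffdfffff350851de8cb40fb80fff83f0778e7f3fffffffffdfffffffffffffffffbeffbfffffffff

-- part: H550/L34/KillFrm
section
prune_inst 0x310005404400000000000500020000202000000000000000c0000000094804000000004000300102800010805008004003000120420000000a003400000000000880000000000004460001000080000000000000000000000000000000000000000000000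
set_option linter.all false
open scoped Cfsg.Agent.FastGrp

-- part: H550/L34/Psi
section
/-!
# S5917, type A: the two types of the module of hermitian matrices at once (helper550)

`Fr` : the frame of type A with the explicit elements of `3² : Q₈` (`H550/L34/Rel`) and a linear map `Φ` of type `b`.
`Psi` : `Φ` or `Φ ∘ transpose`, so that every `h : SL₃(4)` acts by `X ↦ h X h*` through some element of the image of `f`, and
unitary elements through themselves.
-/

set_option autoImplicit false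
set_option maxRecDepth 100000

namespace Cfsg.Agent.H550.L34

open Matrix Cfsg Cfsg.Lie Cfsg.Lie.ChevalleyDatum Cfsg.Agent.H691.L34
open Cfsg.Agent.H939.L64
open Cfsg.Agent.H413.L64
open Cfsg.Agent.H413.L16
open Cfsg.Agent.H876.L64
open Cfsg.Agent.H201.L34

variable {F : Type} [Field F]

/-- entrywise square -/
def bar (X : M3 F) : M3 F := X.map fun a => a ^ 2

theorem ct_eq (X : M3 F) : ct X = (bar X).transpose := rfl

theorem two_of {ω : F} (h : Om ω) : CharP F 2 := by
  have h2 := h.two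
  exact (CharTwo.of_one_ne_zero_of_two_eq_zero one_ne_zero h2)

theorem det_bar {ω : F} (h : Om ω) (X : M3 F) : (bar X).det = X.det ^ 2 := by
  have hc := two_of h
  have e := (RingHom.map_det (frobenius F 2) X).symm
  exact e

theorem it_it (g : G3 F) : it (it g) = g := by
  have e : ∀ g : G3 F, (it g).1 = (g⁻¹).1.transpose := fun _ => rfl
  apply Subtype.ext
  rw [e, ← map_inv, e, inv_inv, transpose_transpose]

/-- the element which acts as `h` -/
theorem exists_sig {ω : F} (h : Om ω) (h4 : ∀ a : F, a ^ 4 = a) (b : Bool) (g : G3 F) : ∃ s : G3 F,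
    (tw b s : M3 F) = (if b then bar g.1 else g.1) ∧ (g.1 * ct g.1 = 1 → s = g) := by
  cases b
  · exact ⟨g, rfl, fun _ => rfl⟩
  · refine ⟨it ⟨bar g.1, by rw [det_bar h, g.2, one_pow]⟩, ?_, ?_⟩
    · exact congrArg Subtype.val (it_it _)
    · intro hu
      have e1 : (g⁻¹ : G3 F) = ⟨ct g.1, by rw [ct_eq, det_transpose, det_bar h, g.2, one_pow]⟩ := by
        apply inv_eq_of_mul_eq_one_right
        exact Subtype.ext hu
      have e2 : (⟨bar g.1, by rw [det_bar h, g.2, one_pow]⟩ : G3 F) = H691.L34.it g := by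
        apply Subtype.ext
        have e3 : (g⁻¹ : G3 F).1 = ct g.1 := congrArg Subtype.val e1
        show bar g.1 = (g⁻¹ : G3 F).1.transpose
        rw [e3]
        exact (transpose_transpose _).symm
      rw [e2]
      exact it_it g

theorem bar_bar (h4 : ∀ a : F, a ^ 4 = a) (X : M3 F) : bar (bar X) = X := by
  ext i j
  show (X i j ^ 2) ^ 2 = X i j
  rw [← pow_mul, h4]

theorem ct_bar (h4 : ∀ a : F, a ^ 4 = a) (X : M3 F) : ct (bar X) = X.transpose := by
  rw [ct_eq, bar_bar h4]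

/-- the corrected linear map -/
noncomputable def Psi (b : Bool) (Φ : Matrix (Fin 3) (Fin 3) KK →ₗ[KK] LK) : Matrix (Fin 3) (Fin 3) KK →ₗ[KK] LK :=
  if b then Φ.comp (Matrix.transposeLinearEquiv (Fin 3) (Fin 3) KK KK).toLinearMap else Φ

theorem Psi_apply (b : Bool) (Φ : Matrix (Fin 3) (Fin 3) KK →ₗ[KK] LK) (X : Matrix (Fin 3) (Fin 3) KK) :
    Psi b Φ X = Φ (if b then X.transpose else X) := by
  cases b <;> rfl

theorem Psi_inj {b : Bool} {Φ : Matrix (Fin 3) (Fin 3) KK →ₗ[KK] LK} (h : Function.Injective Φ) :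
    Function.Injective (Psi b Φ) := by
  intro X Y e
  rw [Psi_apply, Psi_apply] at e
  have e1 := h e
  cases b
  · exact e1
  · exact transpose_injective e1

variable {ω : F} {b : Bool} {Φ : Matrix (Fin 3) (Fin 3) KK →ₗ[KK] LK} {ι : F →+* KK} {f : G3 F →* E2}
  {z : ↥(chevE8.group KK)}

/-- **the action of every element** -/
theorem Psi_act (h : Om ω) (h4 : ∀ a : F, a ^ 4 = a)
    (ha : ∀ (g : G3 F) X, aK (z⁻¹ * em (f g) * z) (Φ X) = Φ ((tw b g : M3 F).map ι * X * (ct (tw b g : M3 F)).map ι))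
    (g : G3 F) : ∃ s : G3 F, (g.1 * ct g.1 = 1 → s = g) ∧
    ∀ X, aK (z⁻¹ * em (f s) * z) (Psi b Φ X) = Psi b Φ (g.1.map ι * X * (ct g.1).map ι) := by
  obtain ⟨s, hs, hu⟩ := exists_sig h h4 b g
  refine ⟨s, hu, fun X => ?_⟩
  rw [Psi_apply, Psi_apply, ha, hs]
  cases b
  · rfl
  · congr 1
    show (bar g.1).map ι * X.transpose * (ct (bar g.1)).map ι = (g.1.map ι * X * (ct g.1).map ι).transpose
    rw [ct_bar h4, transpose_mul, transpose_mul, ct_eq, ← mul_assoc]
    rfl

/-- the Frobenius map -/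
theorem Psi_frob (hzf : z⁻¹ * Cfsg.Agent.H129.TorusUntw.phi chevE8 KK 2 1 z = gz)
    (hf : ∀ X, Φ (X.map fun a => a ^ 2).transpose = aK z⁻¹ (fr (aK z (Φ X)))) (X : Matrix (Fin 3) (Fin 3) KK) :
    Fz (Psi b Φ X) = Psi b Φ (X.map fun a => a ^ 2).transpose := by
  have key : ∀ Y, Fz (Φ Y) = Φ (Y.map fun a => a ^ 2).transpose := by
    intro Y
    rw [hf Y, frobz hzf, aK_inv']
  rw [Psi_apply, Psi_apply, key]
  cases b
  · rfl
  · rfl

end Cfsg.Agent.H550.L34
end

-- part: H550/L34/Core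
section
/-!
# S5917, type A: an abelian submodule of type 9 of square zero is impossible (helper550)

The vectors `n = Psi 1`, `w = Psi D` and their images.
-/

set_option autoImplicit false
set_option maxRecDepth 100000

namespace Cfsg.Agent.H550.L34

open Matrix Cfsg Cfsg.Lie Cfsg.Lie.ChevalleyDatum Cfsg.Agent.H691.L34
open Cfsg.Agent.H939.L64
open Cfsg.Agent.H413.L64
open Cfsg.Agent.H413.L16
open Cfsg.Agent.H876.L64
open Cfsg.Agent.H201.L34
open Cfsg.Agent.H865.L34

variable {F : Type} [Field F]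

/-- the data of a linear map in the frame of type A -/
structure FrA (ω : F) (h : Om ω) (b : Bool) (ι : F →+* KK) (f : G3 F →* E2) (z t1 t2 : ↥(chevE8.group KK))
    (Φ : Matrix (Fin 3) (Fin 3) KK →ₗ[KK] LK) : Prop where
  four : ∀ a : F, a ^ 4 = a
  inj : Function.Injective Φ
  frob : ∀ X, Φ (X.map fun a => a ^ 2).transpose = aK z⁻¹ (fr (aK z (Φ X)))
  act : ∀ (g : G3 F) X, aK (z⁻¹ * em (f g) * z) (Φ X) = Φ ((tw b g : M3 F).map ι * X * (ct (tw b g : M3 F)).map ι)
  zD : z⁻¹ * em (f (gD h)) * z = t1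
  zP : z⁻¹ * em (f (gP h)) * z = t2
  zi : z⁻¹ * em (f (gW h)) * z = gi
  zj : z⁻¹ * em (f (gJ h)) * z = gj
  zf : z⁻¹ * Cfsg.Agent.H129.TorusUntw.phi chevE8 KK 2 1 z = gz

section
variable {ω : F} {h : Om ω} {b : Bool} {ι : F →+* KK} {f : G3 F →* E2} {z t1 t2 : ↥(chevE8.group KK)}
  {Φ : Matrix (Fin 3) (Fin 3) KK →ₗ[KK] LK} (S : FrA ω h b ι f z t1 t2 Φ)
include S

theorem FrA.un {g : G3 F} (hu : g.1 * ct g.1 = 1) (X : Matrix (Fin 3) (Fin 3) KK) :
    aK (z⁻¹ * em (f g) * z) (Psi b Φ X) = Psi b Φ (g.1.map ι * X * (ct g.1).map ι) := by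
  obtain ⟨s, hs, ha⟩ := Psi_act h S.four S.act g
  rw [← ha X, hs hu]

/-- conjugation of matrices over `F` -/
theorem FrA.un' {g : G3 F} (hu : g.1 * ct g.1 = 1) (X : M3 F) :
    aK (z⁻¹ * em (f g) * z) (Psi b Φ (X.map ι)) = Psi b Φ ((g.1 * X * ct g.1).map ι) := by
  rw [S.un hu, Matrix.map_mul, Matrix.map_mul]

theorem FrA.i' (X : M3 F) : aK gi (Psi b Φ (X.map ι)) = Psi b Φ ((mW ω * X * ct (mW ω)).map ι) := by
  rw [← S.zi]
  exact S.un' (WW h) X

theorem FrA.j' (X : M3 F) : aK gj (Psi b Φ (X.map ι)) = Psi b Φ ((mJ ω * X * ct (mJ ω)).map ι) := by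
  rw [← S.zj]
  exact S.un' (JJ h) X

theorem FrA.z' (X : M3 F) : aK gz (Psi b Φ (X.map ι)) = Psi b Φ ((mZ * X * ct mZ).map ι) := by
  have e : gz = z⁻¹ * em (f (gZ h)) * z := by
    rw [← gi_gi, ← S.zi, ← W_W h, map_mul, map_mul]
    group
  rw [e]
  exact S.un' (ZZ h) X

theorem FrA.d' (X : M3 F) : aK t1 (Psi b Φ (X.map ι)) = Psi b Φ ((mD ω * X * ct (mD ω)).map ι) := by
  rw [← S.zD]
  exact S.un' (DD h) X

theorem FrA.p' (X : M3 F) : aK t2 (Psi b Φ (X.map ι)) = Psi b Φ ((mP * X * ct mP).map ι) := by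
  rw [← S.zP]
  exact S.un' (PP h) X

theorem FrA.fz (X : M3 F) : Fz (Psi b Φ (X.map ι)) = Psi b Φ ((ct X).map ι) := by
  rw [Psi_frob S.zf S.frob]
  congr 1
  ext i j
  show (ι (X j i)) ^ 2 = ι (X j i ^ 2)
  rw [map_pow]

/-- two congruent matrices are conjugate -/
theorem FrA.conj (g : G3 F) : ∃ x : ↥(chevE8.group KK), ∀ X : M3 F,
    aK x (Psi b Φ (X.map ι)) = Psi b Φ ((g.1 * X * ct g.1).map ι) := by
  obtain ⟨s, -, ha⟩ := Psi_act h S.four S.act g
  exact ⟨_, fun X => by rw [ha, Matrix.map_mul, Matrix.map_mul]⟩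

/-! ### the vector `n` -/

/-- `n` -/
theorem FrA.n_fix : aK t1 (Psi b Φ ((1 : M3 F).map ι)) = Psi b Φ ((1 : M3 F).map ι) ∧
    aK t2 (Psi b Φ ((1 : M3 F).map ι)) = Psi b Φ ((1 : M3 F).map ι) ∧
    aK gi (Psi b Φ ((1 : M3 F).map ι)) = Psi b Φ ((1 : M3 F).map ι) ∧
    aK gj (Psi b Φ ((1 : M3 F).map ι)) = Psi b Φ ((1 : M3 F).map ι) ∧
    Fz (Psi b Φ ((1 : M3 F).map ι)) = Psi b Φ ((1 : M3 F).map ι) := by
  refine ⟨?_, ?_, ?_, ?_, ?_⟩
  · rw [S.d', mul_one, DD h]
  · rw [S.p', mul_one, PP h]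
  · rw [S.i', mul_one, WW h]
  · rw [S.j', mul_one, JJ h]
  · rw [S.fz]
    congr 2
    have e := DD h
    ext i j
    fin_cases i <;> fin_cases j <;> simp [ct]

/-- `w` -/
theorem FrA.w_fix : aK t1 (Psi b Φ ((mD ω).map ι)) = Psi b Φ ((mD ω).map ι) ∧
    aK t2 (Psi b Φ ((mD ω).map ι)) = ι ω • Psi b Φ ((mD ω).map ι) ∧
    fr (Psi b Φ ((mD ω).map ι)) = Psi b Φ ((mD ω).map ι) := by
  refine ⟨?_, ?_, ?_⟩
  · rw [S.d', cDD h]
  · rw [S.p', cPD h, ← map_smul]
    congr 1
    ext i j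
    show ι (ω * mD ω i j) = ι ω * ι (mD ω i j)
    rw [map_mul]
  · have e1 := S.fz (mD ω)
    rw [ct_D h, ← cZD h, ← S.z'] at e1
    have e2 := congrArg (aK gz⁻¹) e1
    unfold Fz at e2
    rwa [aK_inv', aK_inv'] at e2

theorem FrA.ne {X : M3 F} (hX : X ≠ 0) : Psi b Φ (X.map ι) ≠ 0 := by
  intro e
  apply hX
  have e1 : X.map ι = 0 := Psi_inj S.inj (e.trans (map_zero _).symm)
  ext i j
  have e2 := congrFun (congrFun e1 i) j
  have e3 : ι (X i j) = ι 0 := by
    rw [map_zero]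
    exact e2
  exact ι.injective e3

/-- the sum of the images of `w` -/
theorem FrA.sumQ : Psi b Φ ((mD ω).map ι) + aK gz (Psi b Φ ((mD ω).map ι)) +
    aK gi (Psi b Φ ((mD ω).map ι)) + aK gz (aK gi (Psi b Φ ((mD ω).map ι))) +
    aK gj (Psi b Φ ((mD ω).map ι)) + aK gz (aK gj (Psi b Φ ((mD ω).map ι))) +
    aK gi (aK gj (Psi b Φ ((mD ω).map ι))) + aK gz (aK gi (aK gj (Psi b Φ ((mD ω).map ι)))) =
    Psi b Φ ((mZ + 1 : M3 F).map ι) := by
  rw [S.z', S.i', S.z', S.j', S.z', S.i', S.z', cZD h, cWD h, cJD h, cWA h, cZP h, cZA h, cZB h, ← sum8 h]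
  simp only [← map_add]
  congr 1
  ext i j
  simp only [Matrix.add_apply, Matrix.map_apply, map_add]

theorem FrA.rank1 : ∃ x : ↥(chevE8.group KK), aK x (Psi b Φ ((1 : M3 F).map ι) + Psi b Φ ((mD ω).map ι) +
      aK gz (Psi b Φ ((mD ω).map ι))) =
    Psi b Φ ((mD ω).map ι) + aK gz (Psi b Φ ((mD ω).map ι)) +
    aK gi (Psi b Φ ((mD ω).map ι)) + aK gz (aK gi (Psi b Φ ((mD ω).map ι))) +
    aK gj (Psi b Φ ((mD ω).map ι)) + aK gz (aK gj (Psi b Φ ((mD ω).map ι))) +
    aK gi (aK gj (Psi b Φ ((mD ω).map ι))) + aK gz (aK gi (aK gj (Psi b Φ ((mD ω).map ι)))) := by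
  obtain ⟨x, hx⟩ := S.conj ⟨mG, det_G h⟩
  refine ⟨x, ?_⟩
  rw [S.sumQ, ← hG h, ← hx, S.z', cZD h]
  congr 1
  rw [← map_add, ← map_add]
  congr 1
  ext i j
  simp only [Matrix.add_apply, Matrix.map_apply, map_add]

theorem FrA.rank2 : ∃ x : ↥(chevE8.group KK), aK x (Psi b Φ ((mD ω).map ι) + aK gz (Psi b Φ ((mD ω).map ι))) =
    Psi b Φ ((mD ω).map ι) + aK gz (Psi b Φ ((mD ω).map ι)) +
    aK gi (Psi b Φ ((mD ω).map ι)) + aK gz (aK gi (Psi b Φ ((mD ω).map ι))) := by
  obtain ⟨x, hx⟩ := S.conj ⟨mH, det_H h⟩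
  refine ⟨x, ?_⟩
  have e1 : Psi b Φ ((mD ω).map ι) + aK gz (Psi b Φ ((mD ω).map ι)) = Psi b Φ ((mD ω + mE ω).map ι) := by
    rw [S.z', cZD h, ← map_add]
    congr 1
    ext i j
    simp only [Matrix.add_apply, Matrix.map_apply, map_add]
  have e2 : Psi b Φ ((mD ω + mE ω + mP + mQ).map ι) = Psi b Φ ((mD ω + mE ω).map ι) + Psi b Φ (mP.map ι) +
      Psi b Φ (mQ.map ι) := by
    rw [← map_add, ← map_add]
    congr 1
    ext i j
    simp only [Matrix.add_apply, Matrix.map_apply, map_add]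
  rw [e1, hx, hH h, S.i', cWD h, S.z', cZP h]
  exact e2

end

/-- the adjoint rank is constant on orbits -/
theorem finrank_brM_aK (x : ↥(chevE8.group KK)) (v : LK) :
    Module.finrank KK (LinearMap.range (brM (aK x v))) = Module.finrank KK (LinearMap.range (brM v)) := by
  have hL : ∀ y : ↥(chevE8.group KK), ∀ u : LK, lin y u = aK y u := fun _ _ => rfl
  obtain ⟨e, he⟩ : ∃ e : LK ≃ₗ[KK] LK, ∀ u, e u = aK x u :=
    ⟨{ lin x with
      invFun := aK x⁻¹
      left_inv := fun u => aK_inv' x u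
      right_inv := fun u => aK_inv x u }, fun _ => rfl⟩
  have h1 : LinearMap.range (brM (aK x v)) = (LinearMap.range (brM v)).map (e : LK →ₗ[KK] LK) := by
    ext u
    rw [LinearMap.mem_range, Submodule.mem_map]
    constructor
    · rintro ⟨y, rfl⟩
      refine ⟨brM v (aK x⁻¹ y), ⟨_, rfl⟩, ?_⟩
      show e (brK v (aK x⁻¹ y)) = brK (aK x v) y
      rw [he, aK_brK, aK_inv]
    · rintro ⟨_, ⟨y, rfl⟩, rfl⟩
      refine ⟨aK x y, ?_⟩
      show brK (aK x v) (aK x y) = e (brK v y)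
      rw [he, aK_brK]
  rw [h1]
  exact LinearEquiv.finrank_map_eq e _

end Cfsg.Agent.H550.L34
end

-- part: H550/L34/KillOf
section
/-!
# S5917, type A: assembly of the kill (helper550)

`killA_of` : an abelian submodule of type 9 in the frame of type A is impossible, from the coordinate lemmas `C1`, `C2`, the
squares `SQ`, `NN` (helper865) and the ranks `RK` (helper664). The submodule is not assumed to have square zero.
-/

set_option autoImplicit false
set_option maxRecDepth 100000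

namespace Cfsg.Agent.H550.L34

open Matrix Cfsg Cfsg.Lie Cfsg.Lie.ChevalleyDatum Cfsg.Agent.H691.L34
open Cfsg.Agent.H939.L64
open Cfsg.Agent.H413.L64
open Cfsg.Agent.H413.L16
open Cfsg.Agent.H876.L64
open Cfsg.Agent.H201.L34
open Cfsg.Agent.H865.L34

/-- the sum of the images under `Q₈` -/
noncomputable def sq8 (w : LK) : LK := w + aK gz w + aK gi w + aK gz (aK gi w) + aK gj w + aK gz (aK gj w) +
  aK gi (aK gj w) + aK gz (aK gi (aK gj w))

/-- the adjoint rank -/
noncomputable def rka (v : LK) : ℕ := Module.finrank KK (LinearMap.range (brM v))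

/-- the ranks (helper664) -/
def RK : Prop := ∀ dm, (dm = 7 ∨ dm = 9 ∨ dm = 18) → ∀ m ∈ SOL.getD dm [], m ≠ 0 →
  rka (nd dm + T m + aK gz (T m)) ≠ rka (sq8 (T m)) ∨
  rka (T m + aK gz (T m)) ≠ rka (T m + aK gz (T m) + aK gi (T m) + aK gz (aK gi (T m)))

variable {F : Type} [Field F]

theorem killA_of {ω : F} {h : Om ω} {b : Bool} {ι : F →+* KK} {f : G3 F →* E2} {z t1 t2 : ↥(chevE8.group KK)}
    {Φ : Matrix (Fin 3) (Fin 3) KK →ₗ[KK] LK} (S : FrA ω h b ι f z t1 t2 Φ) (hab : ∀ X Y, brK (Φ X) (Φ Y) = 0)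
    (C1 : ∀ v : LK, aK t1 v = v → aK t2 v = ι ω • v → fr v = v → ∃ m, m < 2 ^ 27 ∧ v = T m)
    (C2 : ∀ v : LK, aK t1 v = v → aK t2 v = v → aK gi v = v → aK gj v = v → Fz v = v → ∃ dm, dm < 32 ∧ v = nd dm)
    (SQ : ∀ dm m, dm ≠ 0 → dm < 32 → m ∈ SOL.getD dm [] → H201.L34.sq (T m) = 0)
    (NN : ∀ dm, dm < 32 → H201.L34.sq (nd dm) = 0 → dm = 0 ∨ dm = 7 ∨ dm = 9 ∨ dm = 18) (hRK : RK) : False := by
  obtain ⟨n1, n2, n3, n4, n5⟩ := S.n_fix
  obtain ⟨w1, w2, w3⟩ := S.w_fix
  obtain ⟨m, hm, em⟩ := C1 _ w1 w2 w3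
  obtain ⟨dm, hdm, en⟩ := C2 _ n1 n2 n3 n4 n5
  have hab' : ∀ X Y, brK (Psi b Φ X) (Psi b Φ Y) = 0 := by
    intro X Y
    rw [Psi_apply, Psi_apply]
    exact hab _ _
  have hn0 : Psi b Φ ((1 : M3 F).map ι) ≠ 0 := S.ne one_ne_zero
  have hw0 : Psi b Φ ((mD ω).map ι) ≠ 0 := by
    apply S.ne
    intro e
    have e1 : (mD ω) 0 0 = (0 : M3 F) 0 0 := by rw [e]
    exact one_ne_zero e1
  have T0 : T 0 = 0 := by
    have e : ∀ t, kb ((0 : ℕ).testBit t) = 0 := fun t => by rw [Nat.zero_testBit, kb_false]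
    show ((List.range 27).map _).sum = 0
    apply List.sum_eq_zero
    intro x hx
    rw [List.mem_map] at hx
    obtain ⟨t, -, rfl⟩ := hx
    show kb ((0 : ℕ).testBit t) • _ = 0
    rw [e, zero_smul]
  have nd0 : nd 0 = 0 := by
    have e : ∀ t, kb ((0 : ℕ).testBit t) = 0 := fun t => by rw [Nat.zero_testBit, kb_false]
    show ((List.range 5).map _).sum = 0
    apply List.sum_eq_zero
    intro x hx
    rw [List.mem_map] at hx
    obtain ⟨t, -, rfl⟩ := hx
    show kb ((0 : ℕ).testBit t) • _ = 0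
    rw [e, zero_smul]
  have hm0 : m ≠ 0 := by
    rintro rfl
    rw [T0] at em
    exact hw0 em
  have hdm0 : dm ≠ 0 := by
    rintro rfl
    rw [nd0] at en
    exact hn0 en
  have c0 : brK (nd dm) (T m) = 0 := by
    rw [← en, ← em]
    exact hab' _ _
  have c1 : brK (T m) (aK gz (T m)) = 0 := by
    rw [← em, S.z']
    exact hab' _ _
  have c2 : brK (T m) (aK gi (T m)) = 0 := by
    rw [← em, S.i']
    exact hab' _ _
  have c3 : brK (T m) (aK gj (T m)) = 0 := by
    rw [← em, S.j']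
    exact hab' _ _
  have c4 : brK (T m) (aK gi (aK gj (T m))) = 0 := by
    rw [← em, S.j', S.i']
    exact hab' _ _
  have hmem := abel hdm0 hdm hm c0 c1 c2 c3 c4
  have hsw : H201.L34.sq (Psi b Φ ((mD ω).map ι)) = 0 := by
    rw [em]
    exact SQ dm m hdm0 hdm hmem
  -- all squares vanish
  have hsq : ∀ x : ↥(chevE8.group KK), H201.L34.sq (aK x (Psi b Φ ((mD ω).map ι))) = 0 := by
    intro x
    rw [← aK_sq, hsw]
    exact Cfsg.Agent.H876.L64.aK_zero x
  obtain ⟨x, hx⟩ := S.rank1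
  have hsn : H201.L34.sq (Psi b Φ ((1 : M3 F).map ι)) = 0 := by
    have e1 : H201.L34.sq (aK x (Psi b Φ ((1 : M3 F).map ι) + Psi b Φ ((mD ω).map ι) + aK gz (Psi b Φ ((mD ω).map ι)))) = 0 := by
      rw [hx]
      have ez := hsq gz
      have ei := hsq gi
      have ej := hsq gj
      have ezi := hsq (gz * gi)
      have ezj := hsq (gz * gj)
      have eij := hsq (gi * gj)
      have ezij := hsq (gz * (gi * gj))
      simp only [aK_mul] at ezi ezj eij ezij
      simp only [S.z', S.i', S.j'] at ez ei ej ezi ezj eij ezij ⊢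
      have key : ∀ {X Y : Matrix (Fin 3) (Fin 3) KK}, H201.L34.sq (Psi b Φ X) = 0 → H201.L34.sq (Psi b Φ Y) = 0 →
          H201.L34.sq (Psi b Φ (X + Y)) = 0 := by
        intro X Y h1 h2
        rw [map_add, sq_add_comm (hab' X Y), h1, h2, add_zero]
      simp only [← map_add]
      exact key (key (key (key (key (key (key hsw ez) ei) ezi) ej) ezj) eij) ezij
    rw [← aK_sq] at e1
    have e2 := congrArg (aK x⁻¹) e1
    rw [aK_inv'] at e2
    have e3 : aK x⁻¹ (0 : LK) = 0 := Cfsg.Agent.H876.L64.aK_zero _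
    rw [e3] at e2
    have ez := hsq gz
    rw [S.z'] at ez e2
    rw [sq_add_comm, sq_add_comm (hab' _ _), hsw, ez, add_zero, add_zero] at e2
    · exact e2
    · rw [← map_add]
      exact hab' _ _
  rw [en] at hsn
  have h3 : dm = 7 ∨ dm = 9 ∨ dm = 18 := (NN dm hdm hsn).resolve_left hdm0
  rcases hRK dm h3 m hmem hm0 with hr | hr
  · apply hr
    unfold rka sq8
    rw [← em, ← en, ← hx]
    exact (finrank_brM_aK x _).symm
  · apply hr
    obtain ⟨y, hy⟩ := S.rank2
    unfold rka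
    rw [← em, ← hy]
    exact (finrank_brM_aK y _).symm

end Cfsg.Agent.H550.L34
end

-- part: H865/L34/Abel2
section
/-!
# S5917 (`L₃(4)` in `E₈(2)`), type A: squares (helper865)

* `sq_T` : the commuting tensors have square zero;
* `nd_nil` : `sq (nd dm) = 0` only for `dm = 0, 7, 9, 18`.
-/

set_option autoImplicit false
set_option maxRecDepth 100000

namespace Cfsg.Agent.H865.L34

open Cfsg Cfsg.Lie Cfsg.Lie.ChevalleyDatum
open Cfsg.Agent.ChevalleyStructure.Columns (car cor)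
open Cfsg.Agent.H939.L64
open Cfsg.Agent.H413.L64
open Cfsg.Agent.H413.L16
open Cfsg.Agent.H876.L64
open Cfsg.Agent.H201.L34

/-- the pairs of a list -/
def pr : List ℕ → List (ℕ × ℕ)
  | [] => []
  | a :: l => (l.map fun b => (a, b)) ++ pr l

theorem mem_pr : ∀ {l : List ℕ} {p : ℕ × ℕ}, p ∈ pr l → p.1 ∈ l ∧ p.2 ∈ l
  | [], p, h => by simp [pr] at h
  | a :: l, p, h => by
    unfold pr at h
    rw [List.mem_append, List.mem_map] at h
    rcases h with ⟨b, hb, rfl⟩ | h
    · exact ⟨List.mem_cons_self, List.mem_cons_of_mem _ hb⟩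
    · exact ⟨List.mem_cons_of_mem _ (mem_pr h).1, List.mem_cons_of_mem _ (mem_pr h).2⟩

theorem sq_lsum (F : ℕ → LK) : ∀ (l : List ℕ), (∀ a ∈ l, H201.L34.sq (F a) = 0) →
    H201.L34.sq ((l.map F).sum) = ((pr l).map fun p => brK (F p.1) (F p.2)).sum
  | [], _ => by
    rw [List.map_nil, List.sum_nil, sq_zero]
    rfl
  | a :: l, h => by
    rw [List.map_cons, List.sum_cons, sq_add, sq_lsum F l fun b hb => h b (List.mem_cons_of_mem _ hb),
      h a List.mem_cons_self, zero_add, br_sum_r]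
    rw [show pr (a :: l) = (l.map fun b => (a, b)) ++ pr l from rfl, List.map_append, List.sum_append, List.map_map, add_comm]
    rfl

theorem lk_ext {v : LK} (h1 : ∀ u < 240, co u v = 0) (h2 : ∀ i < 8, cc i v = 0) : v = 0 := by
  funext a
  rcases a with a | a
  · have h := h2 a (lt_of_lt_of_eq a.2 rk8)
    unfold cc at h
    rw [dif_pos a.2] at h
    exact h
  · have h := h1 a (lt_of_lt_of_eq a.2 nr)
    unfold co at h
    rw [dif_pos a.2] at h
    exact h

theorem SV_ok : SVl = (pr (List.range 27)).map fun p => tg (it0 p.1) (it0 p.2) := by (rewrite [Cfsg.Agent.ChevFast.Tg.tg]; decide +kernel)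

theorem opp_all : ((List.range 27).all fun t => (List.range 27).all fun s => !Nat.beq (it0 s) (239 - it0 t)) = true := by
  decide +kernel

theorem not_opp {t s : ℕ} (ht : t ∈ List.range 27) (hs : s ∈ List.range 27) : it0 s ≠ 239 - it0 t := by
  intro h
  have h1 := List.all_eq_true.1 (List.all_eq_true.1 opp_all t ht) s hs
  rw [h, Nat.beq_refl] at h1
  exact absurd h1 (by decide)

/-- the equation of the root `u` of the square -/
def eS (u : ℕ) : List ℕ := ((List.zip (pr (List.range 27)) SVl).filter fun q => Nat.beq q.2 u).map fun q => 2 ^ q.1.1 ||| 2 ^ q.1.2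

private noncomputable def _root_.Cfsg.Agent.LsF.f70705b_0 : {f // @Cfsg.Agent.H865.L34.pr = f} := ⟨_, by first | (delta Cfsg.Agent.H865.L34.pr List.brecOn List.brecOn.go Cfsg.Agent.H865.L34.pr._f; rewrite [Cfsg.Agent.LsF.lappend_pat, Cfsg.Agent.LsF.map_eq]; (try delta Cfsg.Agent.H865.L34.pr.match_1); (try delta List.casesOn); first | dsimp -zeta only | exact rfl) | exact rfl⟩
private noncomputable def _root_.Cfsg.Agent.LsF.f70705b_1 : {f // @Cfsg.Agent.H865.L34.eS = f} := ⟨_, by first | (delta Cfsg.Agent.H865.L34.eS; rewrite [Cfsg.Agent.LsF.f70705b_0.2, Cfsg.Agent.LsF.npow_pat, Cfsg.Agent.LsF.nor_pat, Cfsg.Agent.LsF.map_eq, Cfsg.Agent.LsF.filter_eq, Cfsg.Agent.LsF.zip_eq, Cfsg.Agent.LsF.range_eq]; exact rfl) | exact rfl⟩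
theorem eS_all : ((List.range 240).all fun u => (SQl.any fun a => decide (a.2 = eS u)) || decide (eS u = [])) = true := by
  ((try (rewrite [Cfsg.Agent.LsF.f70705b_1.2, Cfsg.Agent.LsF.or_eq, Cfsg.Agent.LsF.instDecEq_eq, Cfsg.Agent.LsF.all_eq, Cfsg.Agent.LsF.any_eq, Cfsg.Agent.LsF.range_eq, Cfsg.Agent.LsF.dListEq_eq, Cfsg.Agent.LsF.decide_eq])); decide +kernel)

theorem eS_spec (m u : ℕ) : eq1 m (eS u) = xf (pr (List.range 27)) fun p => (m.testBit p.1 && m.testBit p.2) &&
    decide (tg (it0 p.1) (it0 p.2) = u) := by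
  unfold eS eq1
  rw [SV_ok, zip_map, xf_map, ← xf_filter, xf_map]
  refine xf_congr fun p _ => ?_
  rw [beq_pair]
  congr 1
  rw [Bool.eq_iff_iff, Nat.beq_eq, decide_eq_true_eq]

/-- **the commuting tensors have square zero** -/
theorem sq_T {dm m : ℕ} (h : m ∈ SOL.getD dm []) : H201.L34.sq (T m) = 0 := by
  have hsol : ∀ a ∈ SQl, eq1 m a.2 = false := by
    intro a ha
    have hl : SOL.getD dm [] ∈ SOL := by
      by_cases hd : dm < SOL.length
      · rw [List.getD_eq_getElem _ _ hd]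
        exact List.getElem_mem hd
      · rw [List.getD_eq_default _ _ (Nat.le_of_not_lt hd)] at h
        simp at h
    have h1 := List.all_eq_true.1 (List.all_eq_true.1 (List.all_eq_true.1 SOL_sq _ hl) m h) a ha
    simpa using h1
  have key : H201.L34.sq (T m) = ((pr (List.range 27)).map fun p =>
      brK (kb (m.testBit p.1) • er (it0 p.1)) (kb (m.testBit p.2) • er (it0 p.2))).sum := by
    unfold T Tf
    refine sq_lsum (fun t => kb (m.testBit t) • er (it0 t)) _ fun a _ => ?_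
    rw [sq_smul, sq_er, smul_zero]
  rw [key]
  refine lk_ext ?_ ?_
  · intro u hu
    rw [co_sum u _ _ (fun p => (m.testBit p.1 && m.testBit p.2) && decide (tg (it0 p.1) (it0 p.2) = u))]
    · rw [← eS_spec]
      have h1 := List.all_eq_true.1 eS_all u (List.mem_range.2 hu)
      rw [Bool.or_eq_true] at h1
      rcases h1 with h1 | h1
      · obtain ⟨a, ha, h2⟩ := List.any_eq_true.1 h1
        rw [← of_decide_eq_true h2, hsol a ha, kb_false]
      · rw [of_decide_eq_true h1]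
        exact kb_false
    · intro p hp
      have hp1 := mem_pr hp
      rw [br_smul_l, br_smul_r, co_smul, co_smul, co_br (it0_lt hp1.1) (it0_lt hp1.2) hu, kb_and, kb_and, mul_assoc]
  · intro i hi
    rw [cc_sum i _ _ (fun _ => false)]
    · rw [xf_false fun _ _ => rfl, kb_false]
    · intro p hp
      have hp1 := mem_pr hp
      rw [br_smul_l, br_smul_r, cc_smul, cc_smul, br_rr (it0_lt hp1.1) (it0_lt hp1.2) (not_opp hp1.1 hp1.2), cc_er, mul_zero,
        mul_zero, kb_false]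

/-! ### the masks -/

theorem T_zero : T 0 = 0 := by
  unfold T Tf
  refine lk_ext (fun u hu => ?_) fun i hi => ?_
  · rw [co_sum u _ _ (fun _ => false), xf_false fun _ _ => rfl, kb_false]
    intro t _
    rw [Nat.zero_testBit, kb_false, zero_smul, co_zero]
  · rw [cc_sum i _ _ (fun _ => false), xf_false fun _ _ => rfl, kb_false]
    intro t _
    rw [Nat.zero_testBit, kb_false, zero_smul, cc_zero]

theorem T_xor (a b : ℕ) : T (Nat.xor a b) = T a + T b := by
  unfold T Tf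
  induction List.range 27 with
  | nil => rw [List.map_nil, List.map_nil, List.map_nil, List.sum_nil, add_zero]
  | cons t l ih =>
    rw [List.map_cons, List.map_cons, List.map_cons, List.sum_cons, List.sum_cons, List.sum_cons, ih]
    have h : (Nat.xor a b).testBit t = xor (a.testBit t) (b.testBit t) := Nat.testBit_xor a b t
    rw [h, kb_xor, add_smul]
    abel

theorem T_pow {u : ℕ} (hu : u ∈ List.range 27) : T (2 ^ u) = er (it0 u) := by
  have h : T (2 ^ u) + er (it0 u) = 0 := by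
    refine lk_ext (fun v hv1 => ?_) fun i hi => ?_
    · rw [co_add, co_er hv1]
      unfold T Tf
      rw [co_sum v _ _ (fun t => decide (it0 t = v) && decide (t = u))]
      · rw [xf_eq_of_mem List.nodup_range hu, ← kb_xor, Bool.xor_self, kb_false]
      · intro t ht
        rw [co_smul, co_er hv1, kb_and, mul_comm]
        congr 2
        rw [Nat.testBit_two_pow]
        exact decide_eq_decide.2 eq_comm
    · rw [cc_add, cc_er, add_zero]
      unfold T Tf
      rw [cc_sum i _ _ (fun _ => false), xf_false fun _ _ => rfl, kb_false]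
      intro t _
      rw [cc_smul, cc_er, mul_zero, kb_false]
  exact eq_of_add_zero h

theorem kb_smul_T (b : Bool) (a : ℕ) : kb b • T a = T (cond b a 0) := by
  cases b
  · rw [kb_false, zero_smul]; exact T_zero.symm
  · rw [kb_true, one_smul]; rfl

theorem T_foldr {α : Type} (l : List α) (f : α → ℕ) (v : α → LK) (h : ∀ a ∈ l, v a = T (f a)) :
    (l.map v).sum = T (l.foldr (fun a x => Nat.xor (f a) x) 0) := by
  induction l with
  | nil => rw [List.map_nil, List.sum_nil]; exact T_zero.symm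
  | cons a l ih =>
    rw [List.map_cons, List.sum_cons, List.foldr_cons, T_xor, ih fun b hb => h b (List.mem_cons_of_mem _ hb),
      h a List.mem_cons_self]

/-- the mask of a root -/
def ixm (v : ℕ) : ℕ := (List.range 27).foldr (fun u a => cond (Nat.beq (it0 u) v) (2 ^ u) a) 0

/-- the column of the basis element -/
def colB (n t : ℕ) : ℕ := Nat.xor (cond ((HC.getD n 0).testBit t) (2 ^ t) 0)
  ((NT.getD (27 * n + t) []).foldr (fun v x => Nat.xor (ixm v) x) 0)

/-- the column of `dm` -/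
def coln (dm t : ℕ) : ℕ := (List.range 5).foldr (fun n x => Nat.xor (cond (dm.testBit n) (colB n t) 0) x) 0

theorem ixm_all : (NT.all fun l => l.all fun v => (Nat.beq v 240 && Nat.beq (ixm v) 0) ||
    (List.range 27).any fun u => Nat.beq (ixm v) (2 ^ u) && Nat.beq (it0 u) v) = true := by decide +kernel

theorem er_ixm {n t : ℕ} (hn : n ∈ List.range 5) (ht : t ∈ List.range 27) {v : ℕ} (hv1 : v ∈ NT.getD (27 * n + t) []) :
    er v = T (ixm v) := by
  have hn' := List.mem_range.1 hn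
  have ht' := List.mem_range.1 ht
  have hlen : NT.length = 135 := by decide +kernel
  have hl : NT.getD (27 * n + t) [] ∈ NT := by
    rw [List.getD_eq_getElem _ _ (by omega)]
    exact List.getElem_mem _
  have h1 := List.all_eq_true.1 (List.all_eq_true.1 ixm_all _ hl) v hv1
  rw [Bool.or_eq_true, Bool.and_eq_true, Nat.beq_eq, Nat.beq_eq] at h1
  rcases h1 with ⟨h1, h2⟩ | h1
  · rw [h1, er_ge le_rfl, ← h1, h2, T_zero]
  · obtain ⟨u, hu, h2⟩ := List.any_eq_true.1 h1
    rw [Bool.and_eq_true, Nat.beq_eq, Nat.beq_eq] at h2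
    rw [h2.1, T_pow hu, h2.2]

theorem oppE_all : ((List.range 5).all fun n => (ER.getD n []).all fun r => (List.range 27).all fun t =>
    !Nat.beq (it0 t) (239 - r)) = true := by decide +kernel

theorem lsum_smul {α : Type} (l : List α) (f : α → Bool) (v : LK) : (l.map fun a => kb (f a) • v).sum = kb (xf l f) • v := by
  induction l with
  | nil => rw [List.map_nil, List.sum_nil, xf_nil, kb_false, zero_smul]
  | cons a l ih => rw [List.map_cons, List.sum_cons, ih, xf_cons, kb_xor, add_smul]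

theorem br_nb_er {n t : ℕ} (hn : n ∈ List.range 5) (ht : t ∈ List.range 27) :
    brK (nb n) (er (it0 t)) = T (colB n t) := by
  have h2 := of_decide_eq_true (List.all_eq_true.1 (List.all_eq_true.1 HC_ok n hn) t ht)
  have h3 := of_decide_eq_true (List.all_eq_true.1 (List.all_eq_true.1 NT_ok n hn) t ht)
  unfold nb colB
  rw [br_add_l, br_sum_l, br_sum_l, T_xor]
  congr 1
  · have e : ((HL.getD n []).map fun a => brK (hr a) (er (it0 t))) =
        (HL.getD n []).map fun a => kb (ch a (it0 t)) • er (it0 t) :=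
      List.map_congr_left fun r _ => br_hr_er r (it0_lt ht)
    rw [e, lsum_smul, ← h2, ← T_pow ht, kb_smul_T]
  · rw [← T_foldr _ ixm er fun v hv1 => er_ixm hn ht hv1, h3, List.map_map]
    congr 1
    refine List.map_congr_left fun r hr1 => ?_
    have h4 := List.all_eq_true.1 (List.all_eq_true.1 (List.all_eq_true.1 oppE_all n hn) r hr1) t ht
    show _ = er (tg r (it0 t))
    refine br_rr ((mem_lists hn).2 r hr1) (it0_lt ht) ?_
    intro h5
    rw [h5, Nat.beq_refl] at h4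
    exact absurd h4 (by decide)

theorem br_nd_er {dm t : ℕ} (ht : t ∈ List.range 27) : brK (nd dm) (er (it0 t)) = T (coln dm t) := by
  unfold nd coln
  rw [br_sum_l]
  refine T_foldr _ _ _ fun n hn => ?_
  rw [br_smul_l, br_nb_er hn ht, kb_smul_T]

private noncomputable def _root_.Cfsg.Agent.LsF.f70705b_2 : {f // @Cfsg.Agent.H865.L34.it0 = f} := ⟨_, by first | (delta Cfsg.Agent.H865.L34.it0; rewrite [Cfsg.Agent.LsF.getD_eq]; exact rfl) | exact rfl⟩
private noncomputable def _root_.Cfsg.Agent.LsF.f70705b_3 : {f // @Cfsg.Agent.H865.L34.ixm = f} := ⟨_, by first | (delta Cfsg.Agent.H865.L34.ixm; rewrite [Cfsg.Agent.LsF.f70705b_2.2, Cfsg.Agent.LsF.npow_pat, Cfsg.Agent.LsF.cond_eq, Cfsg.Agent.LsF.foldr_eq, Cfsg.Agent.LsF.range_eq]; exact rfl) | exact rfl⟩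
private noncomputable def _root_.Cfsg.Agent.LsF.f70705b_4 : {f // @Cfsg.Agent.H865.L34.colB = f} := ⟨_, by first | (delta Cfsg.Agent.H865.L34.colB; rewrite [Cfsg.Agent.LsF.f70705b_3.2, Cfsg.Agent.LsF.nadd_pat, Cfsg.Agent.LsF.nmul_pat, Cfsg.Agent.LsF.npow_pat, Cfsg.Agent.LsF.cond_eq, Cfsg.Agent.LsF.testBit_eq, Cfsg.Agent.LsF.foldr_eq, Cfsg.Agent.LsF.getD_eq]; exact rfl) | exact rfl⟩
private noncomputable def _root_.Cfsg.Agent.LsF.f70705b_5 : {f // @Cfsg.Agent.H865.L34.coln = f} := ⟨_, by first | (delta Cfsg.Agent.H865.L34.coln; rewrite [Cfsg.Agent.LsF.f70705b_4.2, Cfsg.Agent.LsF.cond_eq, Cfsg.Agent.LsF.testBit_eq, Cfsg.Agent.LsF.foldr_eq, Cfsg.Agent.LsF.range_eq]; exact rfl) | exact rfl⟩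
theorem coln_lt : ((List.range 32).all fun dm => (List.range 27).all fun t => Nat.blt (coln dm t) (2 ^ 27)) = true := by
  ((try (rewrite [Cfsg.Agent.LsF.f70705b_5.2, Cfsg.Agent.LsF.npow_pat, Cfsg.Agent.LsF.all_eq, Cfsg.Agent.LsF.range_eq])); decide +kernel)

theorem nil_chk : ((List.range 32).all fun dm => ([0, 7, 9, 18] : List ℕ).any (fun s => Nat.beq s dm) ||
    (List.range 27).any fun t => (List.range 27).any fun u => pty (Nat.land (coln dm t) (rowd dm u))) = true := by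
  decide +kernel

/-- **the nilpotent `d`** -/
theorem nd_nil {dm : ℕ} (h : dm < 32) (hs : H201.L34.sq (nd dm) = 0) : dm = 0 ∨ dm = 7 ∨ dm = 9 ∨ dm = 18 := by
  have h1 := List.all_eq_true.1 nil_chk dm (List.mem_range.2 h)
  rw [Bool.or_eq_true] at h1
  rcases h1 with h1 | h1
  · obtain ⟨s, hs1, h2⟩ := List.any_eq_true.1 h1
    rw [Nat.beq_eq] at h2
    subst h2
    simpa using hs1
  · exfalso
    obtain ⟨t, ht, h2⟩ := List.any_eq_true.1 h1
    obtain ⟨u, hu, h3⟩ := List.any_eq_true.1 h2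
    have h4 := br_sq (nd dm) (er (it0 t))
    rw [hs, br_zero_l, br_nd_er ht] at h4
    have h5 : coln dm t < 2 ^ 27 := Nat.blt_eq.mp (List.all_eq_true.1 (List.all_eq_true.1 coln_lt dm (List.mem_range.2 h)) t ht)
    have h6 := co_ndT (dm := dm) h5 hu
    rw [← h4, co_zero, h3, kb_true] at h6
    exact zero_ne_one h6

end Cfsg.Agent.H865.L34
end

-- part: H865/L34/Coord
section
/-!
# S5917 (`L₃(4)` in `E₈(2)`), type A: coordinates in the frame (helper865)

* `coord_T` : `t1 v = v`, `t2 v = ω v`, `fr v = v` give `v = T m`;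
* `coord_nd` : `v` fixed by `t1, t2, gi, gj, Fz` is `nd dm`; `coord_nb` : the same over `KK`.
-/

set_option autoImplicit false
set_option maxRecDepth 100000

namespace Cfsg.Agent.H865.L34

open CoxeterSystem Cfsg Cfsg.Lie Cfsg.Lie.ChevalleyDatum
open Cfsg.Agent.ChevalleyStructure Cfsg.Agent.ChevalleyStructure.Elts Cfsg.Agent.ChevalleyStructure.CoxeterGeom
  Cfsg.Agent.ChevalleyStructure.CoxeterGeomTypes Cfsg.Agent.ChevalleyStructure.NPerm
open Cfsg.Agent.ChevalleyStructure.LieAbs Cfsg.Agent.ChevalleyStructure.LieAut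
open Cfsg.Agent.ChevalleyStructure.Columns (car cor)
open Cfsg.Agent.ChevalleyStructure.RootVec (rt)
open Cfsg.Agent.Tits.Roots Cfsg.Agent.Tits.Core Cfsg.Agent.Nodes Cfsg.Agent.Nodes.Reps Cfsg.Agent.Nodes.BNOf
  Cfsg.Agent.Nodes.RGDChev Cfsg.Agent.Nodes.Bruhat Cfsg.Agent.Nodes.SubComb Cfsg.Agent.Nodes.Coroot
open Cfsg.Agent.KFacts.RgdField Cfsg.Agent.KFacts.RgdChevCoord Cfsg.Agent.BpExc.TorCent Cfsg.Agent.BpExc.TorChev
open Cfsg.Agent.GpExc.Field Cfsg.Agent.BpExc.Tow Cfsg.Agent.BpExc.TowChev Cfsg.Agent.BpExc.Fr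
  Cfsg.Agent.BpExc.LangFr Cfsg.Agent.LangThm Cfsg.Agent.BpExc Cfsg.Agent.H129.TorusMain Cfsg.Agent.H129.TorusUntw
open Cfsg.Agent.H129.TorusChar (cX cX_pow cX_one cX_inj isMC_cX cX_root cX_rp cX_mul ch_sigma exists_cX)
open Cfsg.Agent.H720.TorusReal Cfsg.Agent.H897
open Cfsg.Agent.H897.T5Frame (bc rc bf_eq)
open Cfsg.Agent.H897.T5UntwRow (A8)
open Cfsg.Agent.BpExc.RowsUntw (e8T)
open Cfsg.Agent.H939.L64
open Cfsg.Agent.H413.L64
open Cfsg.Agent.H413.L16
open Cfsg.Agent.H876.L64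
open Cfsg.Agent.H201.L34

theorem co_tor {t : ↥(chevE8.group KK)} (ht : t ∈ TT chevE8 KK) {s : ℕ} (hs : s < 240) {χ : KK}
    (h : aK t (er s) = χ • er s) (v : LK) : co s (aK t v) = χ * co s v := by
  have hs' : s < chevE8.nroots := by rw [nr]; exact hs
  have h1 := congrFun h (Sum.inr ⟨s, hs'⟩)
  rw [aK_tor ht, Pi.smul_apply, smul_eq_mul, er_of hs', Pi.single_eq_same, mul_one, mul_one] at h1
  unfold co
  rw [dif_pos hs', dif_pos hs', aK_tor ht, h1]

theorem cc_tor {t : ↥(chevE8.group KK)} (ht : t ∈ TT chevE8 KK) (i : ℕ) (v : LK) : cc i (aK t v) = cc i v := by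
  unfold cc
  split_ifs with h
  · rw [aK_tor ht]
    exact one_mul _
  · rfl

theorem cw_spec {s : ℕ} (hs : s < 240) : w1 s = (cw s / 3 : ℕ) ∧ w2 s = (cw s % 3 : ℕ) ∧ cw s < 9 :=
  of_decide_eq_true (List.all_eq_true.1 cw_tab s (List.mem_range.2 hs))

/-- the coordinates of a weight vector -/
theorem co_wt {t : ↥(chevE8.group KK)} {ω : KK} (ht : t ∈ TT chevE8 KK) (hω : IsPrimitiveRoot ω 3) {s : ℕ} (hs : s < 240)
    {w : ZMod 3} (hw : aK t (er s) = ω ^ w.val • er s) {a : ℕ} (ha : a < 3) {v : LK} (hv1 : aK t v = ω ^ a • v)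
    (h0 : co s v ≠ 0) : w.val = a := by
  have h1 := co_tor ht hs hw v
  rw [hv1, co_smul] at h1
  have h2 := mul_right_cancel₀ h0 h1
  exact (hω.pow_inj ha (ZMod.val_lt w) h2).symm

theorem lsum_single {α : Type} [DecidableEq α] {l : List α} (hl : l.Nodup) (c : α → KK) {a : α} (ha : a ∈ l) :
    (l.map fun b => c b * kb (decide (b = a))).sum = c a := by
  induction l with
  | nil => simp at ha
  | cons b l ih =>
    rw [List.nodup_cons] at hl
    rw [List.map_cons, List.sum_cons]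
    by_cases h : b = a
    · subst h
      rw [decide_eq_true rfl, kb_true, mul_one]
      have e : (l.map fun x => c x * kb (decide (x = b))) = l.map fun _ => (0 : KK) := by
        refine List.map_congr_left fun x hx => ?_
        rw [decide_eq_false (fun h3 : x = b => hl.1 (h3 ▸ hx)), kb_false, mul_zero]
      rw [e]
      simp
    · rw [decide_eq_false h, kb_false, mul_zero, zero_add]
      exact ih hl.2 (by simpa [Ne.symm h] using ha)

theorem co_lsum {α : Type} (u : ℕ) (l : List α) (F : α → LK) : co u ((l.map F).sum) = (l.map fun a => co u (F a)).sum := by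
  induction l with
  | nil => rw [List.map_nil, List.sum_nil, co_zero]; rfl
  | cons a l ih => rw [List.map_cons, List.sum_cons, co_add, ih]; rfl

theorem cc_lsum {α : Type} (u : ℕ) (l : List α) (F : α → LK) : cc u ((l.map F).sum) = (l.map fun a => cc u (F a)).sum := by
  induction l with
  | nil => rw [List.map_nil, List.sum_nil, cc_zero]; rfl
  | cons a l ih => rw [List.map_cons, List.sum_cons, cc_add, ih]; rfl

/-! ### the tensors -/

/-- the mask of a Boolean function -/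
def mk (b : ℕ → Bool) : ℕ → ℕ
  | 0 => 0
  | n + 1 => mk b n ||| cond (b n) (2 ^ n) 0

theorem mk_lt (b : ℕ → Bool) : ∀ n, mk b n < 2 ^ n
  | 0 => by show 0 < 1; norm_num
  | n + 1 => by
    unfold mk
    apply Nat.or_lt_two_pow
    · exact lt_trans (mk_lt b n) (Nat.pow_lt_pow_right (by norm_num) (Nat.lt_succ_self n))
    · cases b n
      · exact Nat.pow_pos (by norm_num)
      · exact Nat.pow_lt_pow_right (by norm_num) (Nat.lt_succ_self n)

theorem mk_bit (b : ℕ → Bool) : ∀ n t, t < n → (mk b n).testBit t = b t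
  | 0, t, h => absurd h (Nat.not_lt_zero _)
  | n + 1, t, h => by
    unfold mk
    rw [Nat.testBit_or]
    rcases Nat.lt_succ_iff_lt_or_eq.1 h with h1 | h1
    · rw [mk_bit b n t h1]
      have h2 : (cond (b n) (2 ^ n) 0).testBit t = false := by
        cases b n
        · exact Nat.zero_testBit t
        · show (2 ^ n).testBit t = false
          rw [Nat.testBit_two_pow, decide_eq_false (by omega)]
      rw [h2, Bool.or_false]
    · subst h1
      rw [Nat.testBit_eq_false_of_lt (mk_lt b t), Bool.false_or]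
      cases b t
      · exact Nat.zero_testBit t
      · show (2 ^ t).testBit t = true
        rw [Nat.testBit_two_pow_self]

theorem kb_of_sq {c : KK} (h : c ^ 2 = c) : ∃ b : Bool, c = kb b := by
  have h1 : c * (c - 1) = 0 := by ring_nf; rw [h]; ring
  rcases mul_eq_zero.1 h1 with h2 | h2
  · exact ⟨false, by rw [h2, kb_false]⟩
  · exact ⟨true, by rw [kb_true]; exact sub_eq_zero.1 h2⟩

private noncomputable def _root_.Cfsg.Agent.LsF.f70705b_6 : {f // @Cfsg.Agent.H201.L34.cw = f} := ⟨_, by first | (delta Cfsg.Agent.H201.L34.cw; rewrite [Cfsg.Agent.LsF.getD_eq]; exact rfl) | exact rfl⟩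
theorem it0_all : ((List.range 240).all fun s => !Nat.beq (cw s) 1 || (List.range 27).any fun t => Nat.beq (it0 t) s) = true := by
  ((try (rewrite [Cfsg.Agent.LsF.f70705b_6.2, Cfsg.Agent.LsF.f70705b_2.2, Cfsg.Agent.LsF.or_eq, Cfsg.Agent.LsF.not_eq, Cfsg.Agent.LsF.all_eq, Cfsg.Agent.LsF.any_eq, Cfsg.Agent.LsF.range_eq])); decide +kernel)

/-- **the weight vectors** -/
theorem coord_T' {t1 t2 : ↥(chevE8.group KK)} {ω : KK} (ht1 : t1 ∈ TT chevE8 KK) (ht2 : t2 ∈ TT chevE8 KK)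
    (hω : IsPrimitiveRoot ω 3) (hv1 : ∀ i, cX e8T t1 (sr i) = ω ^ (V1 i).val) (hv2 : ∀ i, cX e8T t2 (sr i) = ω ^ (V2 i).val)
    {v : LK} (h1 : aK t1 v = v) (h2 : aK t2 v = ω • v) :
    v = ((List.range 27).map fun t => co (it0 t) v • er (it0 t)).sum := by
  have hcw : ∀ s < 240, co s v ≠ 0 → cw s = 1 := by
    intro s hs h0
    obtain ⟨e1, e2, e3⟩ := cw_spec hs
    have g1 := co_wt ht1 hω hs (aK_t1 ht1 hω hv1 hs) (a := 0) (by norm_num) (by rw [pow_zero, one_smul]; exact h1) h0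
    have g2 := co_wt ht2 hω hs (aK_t2 ht2 hω hv2 hs) (a := 1) (by norm_num) (by rw [pow_one]; exact h2) h0
    rw [e1, ZMod.val_natCast] at g1
    rw [e2, ZMod.val_natCast] at g2
    omega
  have h : v + ((List.range 27).map fun t => co (it0 t) v • er (it0 t)).sum = 0 := by
    refine lk_ext (fun u hu => ?_) fun i hi => ?_
    · rw [co_add, co_lsum]
      by_cases h0 : ∃ t ∈ List.range 27, it0 t = u
      · obtain ⟨t, ht, rfl⟩ := h0
        have e : ((List.range 27).map fun a => co (it0 t) (co (it0 a) v • er (it0 a))) =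
            (List.range 27).map fun a => co (it0 a) v * kb (decide (a = t)) := by
          refine List.map_congr_left fun a ha => ?_
          rw [co_smul, co_er (it0_lt ht)]
          congr 2
          exact decide_eq_decide.2 ⟨fun h => it0_inj ha ht h, fun h => by rw [h]⟩
        rw [e, lsum_single List.nodup_range (fun a => co (it0 a) v) ht]
        rw [← two_mul, two_zero, zero_mul]
      · have e : ((List.range 27).map fun a => co u (co (it0 a) v • er (it0 a))) = (List.range 27).map fun _ => (0 : KK) := by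
          refine List.map_congr_left fun a ha => ?_
          rw [co_smul, co_er hu, decide_eq_false (fun h => h0 ⟨a, ha, h⟩), kb_false, mul_zero]
        have e2 : ((List.range 27).map fun _ => (0 : KK)).sum = 0 := by simp
        rw [e, e2, add_zero]
        by_contra h3
        have h4 := hcw u hu h3
        have h5 := List.all_eq_true.1 it0_all u (List.mem_range.2 hu)
        rw [h4] at h5
        have h6 : ((List.range 27).any fun t => Nat.beq (it0 t) u) = true := by simpa using h5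
        obtain ⟨t, ht, h7⟩ := List.any_eq_true.1 h6
        exact h0 ⟨t, ht, Nat.eq_of_beq_eq_true h7⟩
    · rw [cc_add, cc_lsum]
      have e : ((List.range 27).map fun a => cc i (co (it0 a) v • er (it0 a))) = (List.range 27).map fun _ => (0 : KK) := by
        refine List.map_congr_left fun a ha => ?_
        rw [cc_smul, cc_er, mul_zero]
      have e2 : ((List.range 27).map fun _ => (0 : KK)).sum = 0 := by simp
      rw [e, e2, add_zero]
      have h3 := cc_tor ht2 i v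
      rw [h2, cc_smul] at h3
      have h4 : (ω - 1) * cc i v = 0 := by rw [sub_mul, one_mul, h3, sub_self]
      rcases mul_eq_zero.1 h4 with h5 | h5
      · exact absurd (sub_eq_zero.1 h5) (hω.ne_one (by norm_num))
      · exact h5
  exact eq_of_add_zero h

/-- **the rational weight vectors** -/
theorem coord_T {t1 t2 : ↥(chevE8.group KK)} {ω : KK} (ht1 : t1 ∈ TT chevE8 KK) (ht2 : t2 ∈ TT chevE8 KK)
    (hω : IsPrimitiveRoot ω 3) (hv1 : ∀ i, cX e8T t1 (sr i) = ω ^ (V1 i).val) (hv2 : ∀ i, cX e8T t2 (sr i) = ω ^ (V2 i).val)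
    {v : LK} (h1 : aK t1 v = v) (h2 : aK t2 v = ω • v) (h3 : fr v = v) : ∃ m < 2 ^ 27, v = T m := by
  have h4 := coord_T' ht1 ht2 hω hv1 hv2 h1 h2
  have h5 : ∀ s, ∃ b : Bool, co s v = kb b := by
    intro s
    apply kb_of_sq
    have h6 : co s (fr v) = co s v ^ 2 := by
      unfold co fr
      split_ifs
      · rfl
      · rw [zero_pow two_ne_zero]
    rw [← h6, h3]
  choose b hb using h5
  refine ⟨mk (fun t => b (it0 t)) 27, mk_lt _ _, ?_⟩
  conv_lhs => rw [h4]
  unfold T Tf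
  congr 1
  refine List.map_congr_left fun t ht => ?_
  rw [mk_bit _ _ _ (List.mem_range.1 ht), hb]

end Cfsg.Agent.H865.L34
end

-- part: H865/L34/Coord2
section
/-!
# S5917 (`L₃(4)` in `E₈(2)`), type A: the fixed vectors of `E`, `Q₈` in the frame (helper865)

* `coord_nb` : `v` fixed by `t1, t2, gi, gj` is `∑ c n • nb n`;
* `coord_nd` : if moreover `Fz v = v`, it is `nd dm`.
-/

set_option autoImplicit false
set_option maxRecDepth 100000

namespace Cfsg.Agent.H865.L34

open CoxeterSystem Cfsg Cfsg.Lie Cfsg.Lie.ChevalleyDatum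
open Cfsg.Agent.ChevalleyStructure Cfsg.Agent.ChevalleyStructure.Elts Cfsg.Agent.ChevalleyStructure.CoxeterGeom
  Cfsg.Agent.ChevalleyStructure.CoxeterGeomTypes Cfsg.Agent.ChevalleyStructure.NPerm
open Cfsg.Agent.ChevalleyStructure.LieAbs Cfsg.Agent.ChevalleyStructure.LieAut
open Cfsg.Agent.ChevalleyStructure.Columns (car cor)
open Cfsg.Agent.ChevalleyStructure.RootVec (rt)
open Cfsg.Agent.Tits.Roots Cfsg.Agent.Tits.Core Cfsg.Agent.Nodes Cfsg.Agent.Nodes.Reps Cfsg.Agent.Nodes.BNOf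
  Cfsg.Agent.Nodes.RGDChev Cfsg.Agent.Nodes.Bruhat Cfsg.Agent.Nodes.SubComb Cfsg.Agent.Nodes.Coroot
open Cfsg.Agent.KFacts.RgdField Cfsg.Agent.KFacts.RgdChevCoord Cfsg.Agent.BpExc.TorCent Cfsg.Agent.BpExc.TorChev
open Cfsg.Agent.GpExc.Field Cfsg.Agent.BpExc.Tow Cfsg.Agent.BpExc.TowChev Cfsg.Agent.BpExc.Fr
  Cfsg.Agent.BpExc.LangFr Cfsg.Agent.LangThm Cfsg.Agent.BpExc Cfsg.Agent.H129.TorusMain Cfsg.Agent.H129.TorusUntw
open Cfsg.Agent.H129.TorusChar (cX cX_pow cX_one cX_inj isMC_cX cX_root cX_rp cX_mul ch_sigma exists_cX)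
open Cfsg.Agent.H720.TorusReal Cfsg.Agent.H897
open Cfsg.Agent.H897.T5Frame (bc rc bf_eq)
open Cfsg.Agent.H897.T5UntwRow (A8)
open Cfsg.Agent.BpExc.RowsUntw (e8T)
open Cfsg.Agent.H939.L64
open Cfsg.Agent.H413.L64
open Cfsg.Agent.H413.L16
open Cfsg.Agent.H876.L64
open Cfsg.Agent.H201.L34

/-- the eight basis roots of the Cartan part -/
def bas : List ℕ := [1, 120, 113, 123, 135, 163, 98, 194]

/-- the dual basis -/
def DI : List ℕ := [48, 64, 16, 248, 4, 8, 71, 2]

/-- the Cartan coordinate `k` of a root `h_r` -/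
def ah (k r : ℕ) : Bool := xf (List.range 8) fun j => (DI.getD j 0).testBit k && decide (cor chevE8 r j % 2 ≠ 0)

/-- the Cartan coordinates in the basis `hr (bas k)` -/
noncomputable def A (k : ℕ) (v : LK) : KK := ((List.range 8).map fun j => kb ((DI.getD j 0).testBit k) * cc j v).sum

theorem A_add (k : ℕ) (v w : LK) : A k (v + w) = A k v + A k w := by
  unfold A
  induction List.range 8 with
  | nil => simp
  | cons j l ih => rw [List.map_cons, List.map_cons, List.map_cons, List.sum_cons, List.sum_cons, List.sum_cons, ih, cc_add]; ring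

theorem A_smul (k : ℕ) (c : KK) (v : LK) : A k (c • v) = c * A k v := by
  unfold A
  induction List.range 8 with
  | nil => simp
  | cons j l ih => rw [List.map_cons, List.map_cons, List.sum_cons, List.sum_cons, ih, cc_smul]; ring

theorem A_zero (k : ℕ) : A k 0 = 0 := by
  have h := A_smul k 0 0
  rwa [zero_smul, zero_mul] at h

theorem A_er (k s : ℕ) : A k (er s) = 0 := by
  unfold A
  have e : ((List.range 8).map fun j => kb ((DI.getD j 0).testBit k) * cc j (er s)) = (List.range 8).map fun _ => (0 : KK) :=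
    List.map_congr_left fun j _ => by rw [cc_er, mul_zero]
  rw [e]
  simp

theorem lsum_kb {α : Type} (l : List α) (F : α → KK) (f : α → Bool) (h : ∀ a ∈ l, F a = kb (f a)) :
    (l.map F).sum = kb (xf l f) := by
  induction l with
  | nil => rw [List.map_nil, List.sum_nil, xf_nil, kb_false]
  | cons a l ih =>
    rw [List.map_cons, List.sum_cons, xf_cons, kb_xor, ih fun b hb => h b (List.mem_cons_of_mem _ hb), h a List.mem_cons_self]

theorem A_hr (k r : ℕ) : A k (hr r) = kb (ah k r) := by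
  unfold A ah
  refine lsum_kb _ _ _ fun j hj => ?_
  rw [kb_and, cc_hr (List.mem_range.1 hj)]

theorem A_lsum {α : Type} (k : ℕ) (l : List α) (F : α → LK) : A k ((l.map F).sum) = (l.map fun a => A k (F a)).sum := by
  induction l with
  | nil => rw [List.map_nil, List.sum_nil, A_zero]; rfl
  | cons a l ih => rw [List.map_cons, List.sum_cons, A_add, ih]; rfl

theorem lsum_swap (l l' : List ℕ) (F : ℕ → ℕ → KK) :
    (l.map fun k => (l'.map fun j => F k j).sum).sum = (l'.map fun j => (l.map fun k => F k j).sum).sum := by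
  induction l with
  | nil => simp
  | cons k l ih =>
    rw [List.map_cons, List.sum_cons, ih, ← List.sum_map_add]
    rfl

theorem lsum_mul {α : Type} (l : List α) (f : α → Bool) (x : KK) : (l.map fun k => kb (f k) * x).sum = x * kb (xf l f) := by
  induction l with
  | nil => rw [List.map_nil, List.sum_nil, xf_nil, kb_false, mul_zero]
  | cons k l ih => rw [List.map_cons, List.sum_cons, ih, xf_cons, kb_xor]; ring

theorem dual_chk : ((List.range 8).all fun i => (List.range 8).all fun j =>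
    decide (xf (List.range 8) (fun k => (DI.getD j 0).testBit k && decide (cor chevE8 (bas.getD k 240) i % 2 ≠ 0)) =
      decide (i = j))) = true := by (delta Cfsg.Agent.ChevalleyStructure.Columns.cor; rewrite [Cfsg.Agent.ChevFast.E8.coroot]; decide +kernel)

/-- the Cartan part -/
noncomputable def cart (v : LK) : LK := ((List.range 8).map fun k => A k v • hr (bas.getD k 240)).sum

theorem cc_cart {i : ℕ} (hi : i < 8) (v : LK) : cc i (cart v) = cc i v := by
  unfold cart A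
  rw [cc_lsum]
  have e : ((List.range 8).map fun k => cc i (((List.range 8).map fun j => kb ((DI.getD j 0).testBit k) * cc j v).sum •
      hr (bas.getD k 240))) = (List.range 8).map fun k => ((List.range 8).map fun j => kb ((DI.getD j 0).testBit k &&
        decide (cor chevE8 (bas.getD k 240) i % 2 ≠ 0)) * cc j v).sum := by
    refine List.map_congr_left fun k _ => ?_
    rw [cc_smul, cc_hr hi]
    induction List.range 8 with
    | nil => simp
    | cons j l ih => rw [List.map_cons, List.map_cons, List.sum_cons, List.sum_cons, add_mul, ih, kb_and]; ring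
  rw [e]
  have e2 : ((List.range 8).map fun k => ((List.range 8).map fun j => kb ((DI.getD j 0).testBit k &&
      decide (cor chevE8 (bas.getD k 240) i % 2 ≠ 0)) * cc j v).sum).sum =
      ((List.range 8).map fun j => cc j v * kb (xf (List.range 8) fun k => (DI.getD j 0).testBit k &&
        decide (cor chevE8 (bas.getD k 240) i % 2 ≠ 0))).sum := by
    rw [lsum_swap]
    congr 1
    exact List.map_congr_left fun j _ => lsum_mul _ _ _
  rw [e2]
  have e3 : ((List.range 8).map fun j => cc j v * kb (xf (List.range 8) fun k => (DI.getD j 0).testBit k &&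
      decide (cor chevE8 (bas.getD k 240) i % 2 ≠ 0))) = (List.range 8).map fun j => cc j v * kb (decide (j = i)) := by
    refine List.map_congr_left fun j hj => ?_
    rw [of_decide_eq_true (List.all_eq_true.1 (List.all_eq_true.1 dual_chk i (List.mem_range.2 hi)) j hj)]
    congr 2
    exact decide_eq_decide.2 eq_comm
  rw [e3]
  exact lsum_single List.nodup_range (fun j => cc j v) (List.mem_range.2 hi)

theorem co_cart (u : ℕ) (v : LK) : co u (cart v) = 0 := by
  unfold cart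
  rw [co_lsum]
  have e : ((List.range 8).map fun k => co u (A k v • hr (bas.getD k 240))) = (List.range 8).map fun _ => (0 : KK) :=
    List.map_congr_left fun k _ => by rw [co_smul, co_hr, mul_zero]
  rw [e]
  simp

/-- **the expansion of a vector** -/
theorem expand (v : LK) : v = cart v + ((List.range 240).map fun s => co s v • er s).sum := by
  have h : v + (cart v + ((List.range 240).map fun s => co s v • er s).sum) = 0 := by
    refine lk_ext (fun u hu => ?_) fun i hi => ?_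
    · rw [co_add, co_add, co_cart, zero_add, co_lsum]
      have e : ((List.range 240).map fun s => co u (co s v • er s)) = (List.range 240).map fun s => co s v * kb (decide (s = u)) :=
        List.map_congr_left fun s _ => by rw [co_smul, co_er hu]
      rw [e, lsum_single List.nodup_range (fun s => co s v) (List.mem_range.2 hu), ← two_mul, two_zero, zero_mul]
    · rw [cc_add, cc_add, cc_cart hi, cc_lsum]
      have e : ((List.range 240).map fun s => cc i (co s v • er s)) = (List.range 240).map fun _ => (0 : KK) :=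
        List.map_congr_left fun s _ => by rw [cc_smul, cc_er, mul_zero]
      have e2 : ((List.range 240).map fun _ => (0 : KK)).sum = 0 := by simp
      rw [e, e2, add_zero, ← two_mul, two_zero, zero_mul]
  exact eq_of_add_zero h

/-- the action of a monomial element on the root coordinates -/
theorem co_act {g : ↥(chevE8.group KK)} {f : ℕ → ℕ} (hf : ∀ s < 240, f s < 240) (hi : ∀ s < 240, ∀ t < 240, f s = f t → s = t)
    (h1 : ∀ s < 240, aK g (er s) = er (f s)) (h2 : ∀ s < 240, aK g (hr s) = hr (f s)) (v : LK) {s : ℕ} (hs : s < 240) :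
    co (f s) (aK g v) = co s v := by
  conv_lhs => rw [expand v]
  unfold cart
  rw [aK_add, aK_lsum, aK_lsum, co_add, co_lsum, co_lsum]
  have hb : ∀ k ∈ List.range 8, bas.getD k 240 < 240 := by decide
  have e1 : ((List.range 8).map fun k => co (f s) (aK g (A k v • hr (bas.getD k 240)))) = (List.range 8).map fun _ => (0 : KK) :=
    List.map_congr_left fun k hk => by rw [aK_smul, co_smul, h2 _ (hb k hk), co_hr, mul_zero]
  have e2 : ((List.range 8).map fun _ => (0 : KK)).sum = 0 := by simp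
  have e3 : ((List.range 240).map fun t => co (f s) (aK g (co t v • er t))) =
      (List.range 240).map fun t => co t v * kb (decide (t = s)) := by
    refine List.map_congr_left fun t ht => ?_
    have ht' := List.mem_range.1 ht
    rw [aK_smul, co_smul, h1 _ ht', co_er (hf s hs)]
    congr 2
    exact decide_eq_decide.2 ⟨fun h => hi t ht' s hs h, fun h => by rw [h]⟩
  rw [e1, e2, zero_add, e3, lsum_single List.nodup_range (fun t => co t v) (List.mem_range.2 hs)]

/-- the action of a monomial element on the Cartan coordinates -/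
theorem A_act {g : ↥(chevE8.group KK)} {f : ℕ → ℕ} (h1 : ∀ s < 240, aK g (er s) = er (f s))
    (h2 : ∀ s < 240, aK g (hr s) = hr (f s)) {l k : ℕ} (hk : k ∈ List.range 8)
    (hc : ((List.range 8).all fun k' => decide (ah l (f (bas.getD k' 240)) = decide (k' = k))) = true) (v : LK) :
    A l (aK g v) = A k v := by
  conv_lhs => rw [expand v]
  unfold cart
  rw [aK_add, aK_lsum, aK_lsum, A_add, A_lsum, A_lsum]
  have hb : ∀ k ∈ List.range 8, bas.getD k 240 < 240 := by decide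
  have e1 : ((List.range 8).map fun k' => A l (aK g (A k' v • hr (bas.getD k' 240)))) =
      (List.range 8).map fun k' => A k' v * kb (decide (k' = k)) := by
    refine List.map_congr_left fun k' hk' => ?_
    rw [aK_smul, A_smul, h2 _ (hb k' hk'), A_hr, of_decide_eq_true (List.all_eq_true.1 hc k' hk')]
  have e3 : ((List.range 240).map fun t => A l (aK g (co t v • er t))) = (List.range 240).map fun _ => (0 : KK) :=
    List.map_congr_left fun t ht => by rw [aK_smul, A_smul, h1 _ (List.mem_range.1 ht), A_er, mul_zero]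
  have e4 : ((List.range 240).map fun _ => (0 : KK)).sum = 0 := by simp
  rw [e1, lsum_single List.nodup_range (fun t => A t v) hk, e3, e4, add_zero]

theorem ah_qi : ((List.range 8).all fun l => (List.range 8).all fun k' =>
    decide (ah l (qi (bas.getD k' 240)) = decide (k' = ([2, 3, 0, 1, 6, 7, 4, 5] : List ℕ).getD l 0))) = true := by
  (delta Cfsg.Agent.ChevalleyStructure.Columns.cor Cfsg.Agent.H865.L34.ah; rewrite [Cfsg.Agent.ChevFast.E8.coroot]; decide +kernel)

theorem ah_qj : ((List.range 8).all fun l => (List.range 8).all fun k' =>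
    decide (ah l (qj (bas.getD k' 240)) = decide (k' = ([4, 5, 6, 7, 0, 1, 2, 3] : List ℕ).getD l 0))) = true := by
  decide +kernel

theorem qi_inj : ∀ s < 240, ∀ t < 240, qi s = qi t → s = t := by
  intro s hs t ht h
  have h1 := qi_qi hs
  rw [h, qi_qi ht] at h1
  omega

theorem qj_inj : ∀ s < 240, ∀ t < 240, qj s = qj t → s = t := by
  intro s hs t ht h
  have h1 := qj_qj hs
  rw [h, qj_qj ht] at h1
  omega

/-- vectors fixed by `Q₈` -/
theorem fix_co {v : LK} (hi : aK gi v = v) (hj : aK gj v = v) {s : ℕ} (hs : s < 240) :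
    co (qi s) v = co s v ∧ co (qj s) v = co s v := by
  constructor
  · have h := co_act (fun s hs => qi_lt hs) qi_inj (fun s hs => aK_gi hs) (fun s hs => aK_gi_hr hs) v hs
    rwa [hi] at h
  · have h := co_act (fun s hs => qj_lt hs) qj_inj (fun s hs => aK_gj hs) (fun s hs => aK_gj_hr hs) v hs
    rwa [hj] at h

theorem fix_A {v : LK} (hi : aK gi v = v) (hj : aK gj v = v) {l : ℕ} (hl : l ∈ List.range 8) :
    A l v = A (([2, 3, 0, 1, 6, 7, 4, 5] : List ℕ).getD l 0) v ∧ A l v = A (([4, 5, 6, 7, 0, 1, 2, 3] : List ℕ).getD l 0) v := by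
  have hm1 : ∀ l ∈ List.range 8, ([2, 3, 0, 1, 6, 7, 4, 5] : List ℕ).getD l 0 ∈ List.range 8 := by decide
  have hm2 : ∀ l ∈ List.range 8, ([4, 5, 6, 7, 0, 1, 2, 3] : List ℕ).getD l 0 ∈ List.range 8 := by decide
  constructor
  · have h := A_act (fun s hs => aK_gi hs) (fun s hs => aK_gi_hr hs) (hm1 l hl) (List.all_eq_true.1 ah_qi l hl) v
    rwa [hi] at h
  · have h := A_act (fun s hs => aK_gj hs) (fun s hs => aK_gj_hr hs) (hm2 l hl) (List.all_eq_true.1 ah_qj l hl) v
    rwa [hj] at h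

theorem fix_neg {v : LK} (hi : aK gi v = v) (hj : aK gj v = v) {s : ℕ} (hs : s < 240) : co (239 - s) v = co s v := by
  rw [← qi_qi hs, (fix_co hi hj (qi_lt hs)).1, (fix_co hi hj hs).1]

/-- the orbit of a root -/
def orb (h : ℕ) : List ℕ := [h, 239 - h, qi h, qi (239 - h), qj h, qj (239 - h), qi (qj h), qi (qj (239 - h))]

theorem fix_orb {v : LK} (hi : aK gi v = v) (hj : aK gj v = v) {h u : ℕ} (hh : h < 240) (hu : u ∈ orb h) :
    co u v = co h v := by
  have h2 : 239 - h < 240 := by omega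
  unfold orb at hu
  simp only [List.mem_cons, List.not_mem_nil, or_false] at hu
  rcases hu with rfl | rfl | rfl | rfl | rfl | rfl | rfl | rfl
  · rfl
  · exact fix_neg hi hj hh
  · exact (fix_co hi hj hh).1
  · rw [(fix_co hi hj h2).1, fix_neg hi hj hh]
  · exact (fix_co hi hj hh).2
  · rw [(fix_co hi hj h2).2, fix_neg hi hj hh]
  · rw [(fix_co hi hj (qj_lt hh)).1, (fix_co hi hj hh).2]
  · rw [(fix_co hi hj (qj_lt h2)).1, (fix_co hi hj h2).2, fix_neg hi hj hh]

/-- the first roots of the basis elements `2, 3, 4` -/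
def hd (n : ℕ) : ℕ := ([0, 0, 0, 1, 120] : List ℕ).getD n 0

/-- the coefficients -/
noncomputable def coef (n : ℕ) (v : LK) : KK := if n < 2 then A n v else co (hd n) v

private noncomputable def _root_.Cfsg.Agent.LsF.f70705b_7 : {f // @Cfsg.Agent.H865.L34.xf = f} := ⟨_, by first | (delta Cfsg.Agent.H865.L34.xf; rewrite [Cfsg.Agent.LsF.foldr_eq, Cfsg.Agent.LsF.bxor_eq]; exact rfl) | exact rfl⟩
private noncomputable def _root_.Cfsg.Agent.LsF.f70705b_8 : {f // @Cfsg.Agent.H201.L34.qi = f} := ⟨_, by first | (delta Cfsg.Agent.H201.L34.qi; rewrite [Cfsg.Agent.LsF.getD_eq]; exact rfl) | exact rfl⟩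
private noncomputable def _root_.Cfsg.Agent.LsF.f70705b_9 : {f // @Cfsg.Agent.H201.L34.qj = f} := ⟨_, by first | (delta Cfsg.Agent.H201.L34.qj; rewrite [Cfsg.Agent.LsF.getD_eq]; exact rfl) | exact rfl⟩
private noncomputable def _root_.Cfsg.Agent.LsF.f70705b_10 : {f // @Cfsg.Agent.H865.L34.orb = f} := ⟨_, by first | (delta Cfsg.Agent.H865.L34.orb; rewrite [Cfsg.Agent.LsF.f70705b_8.2, Cfsg.Agent.LsF.f70705b_9.2, Cfsg.Agent.LsF.nsub_pat]; exact rfl) | exact rfl⟩
private noncomputable def _root_.Cfsg.Agent.LsF.f70705b_11 : {f // @Cfsg.Agent.H865.L34.hd = f} := ⟨_, by first | (delta Cfsg.Agent.H865.L34.hd; rewrite [Cfsg.Agent.LsF.getD_eq]; exact rfl) | exact rfl⟩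
theorem pos_chk : ((List.range 240).all fun u => (!Nat.beq (cw u) 0 && (List.range 5).all fun n =>
    !xf (ER.getD n []) fun r => decide (r = u)) || ([2, 3, 4] : List ℕ).any fun m => ((List.range 5).all fun n =>
      decide ((xf (ER.getD n []) fun r => decide (r = u)) = decide (n = m))) && (orb (hd m)).any fun s => decide (s = u)) = true := by
  ((try (rewrite [Cfsg.Agent.LsF.f70705b_6.2, Cfsg.Agent.LsF.f70705b_7.2, Cfsg.Agent.LsF.f70705b_10.2, Cfsg.Agent.LsF.f70705b_11.2, Cfsg.Agent.LsF.and_eq, Cfsg.Agent.LsF.or_eq, Cfsg.Agent.LsF.not_eq, Cfsg.Agent.LsF.instDecEq_eq, Cfsg.Agent.LsF.all_eq, Cfsg.Agent.LsF.any_eq, Cfsg.Agent.LsF.range_eq, Cfsg.Agent.LsF.getD_eq, Cfsg.Agent.LsF.dBoolEq_eq, Cfsg.Agent.LsF.decide_eq])); decide +kernel)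

theorem co_nb' (u n : ℕ) (hu : u < 240) : co u (nb n) = kb (xf (ER.getD n []) fun r => decide (r = u)) := by
  unfold nb
  rw [co_add, co_lsum, co_sum u (ER.getD n []) _ (fun r => decide (r = u)) fun r _ => co_er hu r]
  have e : ((HL.getD n []).map fun a => co u (hr a)) = (HL.getD n []).map fun _ => (0 : KK) :=
    List.map_congr_left fun r _ => co_hr _ _
  rw [e]
  simp

theorem cc_nb (i n : ℕ) (hi : i < 8) : cc i (nb n) = kb (xf (HL.getD n []) fun r => decide (cor chevE8 r i % 2 ≠ 0)) := by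
  unfold nb
  rw [cc_add, cc_lsum i (ER.getD n []), cc_sum i (HL.getD n []) _ (fun r => decide (cor chevE8 r i % 2 ≠ 0)) fun r _ => cc_hr hi r]
  have e : ((ER.getD n []).map fun a => cc i (er a)) = (ER.getD n []).map fun _ => (0 : KK) :=
    List.map_congr_left fun r _ => cc_er _ _
  rw [e]
  simp

/-- **the vectors fixed by `E`, `Q₈`** -/
theorem coord_nb {t1 t2 : ↥(chevE8.group KK)} {ω : KK} (ht1 : t1 ∈ TT chevE8 KK) (ht2 : t2 ∈ TT chevE8 KK)
    (hω : IsPrimitiveRoot ω 3) (hv1 : ∀ i, cX e8T t1 (sr i) = ω ^ (V1 i).val) (hv2 : ∀ i, cX e8T t2 (sr i) = ω ^ (V2 i).val)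
    {v : LK} (h1 : aK t1 v = v) (h2 : aK t2 v = v) (h3 : aK gi v = v) (h4 : aK gj v = v) :
    v = ((List.range 5).map fun n => coef n v • nb n).sum := by
  have hcw : ∀ s < 240, co s v ≠ 0 → cw s = 0 := by
    intro s hs h0
    obtain ⟨e1, e2, e3⟩ := cw_spec hs
    have g1 := co_wt ht1 hω hs (aK_t1 ht1 hω hv1 hs) (a := 0) (by norm_num) (by rw [pow_zero, one_smul]; exact h1) h0
    have g2 := co_wt ht2 hω hs (aK_t2 ht2 hω hv2 hs) (a := 0) (by norm_num) (by rw [pow_zero, one_smul]; exact h2) h0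
    rw [e1, ZMod.val_natCast] at g1
    rw [e2, ZMod.val_natCast] at g2
    omega
  have h : v + ((List.range 5).map fun n => coef n v • nb n).sum = 0 := by
    refine lk_ext (fun u hu => ?_) fun i hi => ?_
    · rw [co_add, co_lsum]
      have h5 := List.all_eq_true.1 pos_chk u (List.mem_range.2 hu)
      rw [Bool.or_eq_true] at h5
      rcases h5 with h5 | h5
      · rw [Bool.and_eq_true] at h5
        have e : ((List.range 5).map fun n => co u (coef n v • nb n)) = (List.range 5).map fun _ => (0 : KK) := by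
          refine List.map_congr_left fun n hn => ?_
          have h6 := List.all_eq_true.1 h5.2 n hn
          rw [co_smul, co_nb' u n hu]
          have h7 : (xf (ER.getD n []) fun r => decide (r = u)) = false := by simpa using h6
          rw [h7, kb_false, mul_zero]
        rw [e]
        have h6 : co u v = 0 := by
          by_contra h7
          have h8 := hcw u hu h7
          have h9 := h5.1
          rw [h8] at h9
          exact absurd h9 (by decide)
        rw [h6]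
        simp
      · obtain ⟨m, hm, h6⟩ := List.any_eq_true.1 h5
        rw [Bool.and_eq_true] at h6
        have e : ((List.range 5).map fun n => co u (coef n v • nb n)) =
            (List.range 5).map fun n => coef n v * kb (decide (n = m)) := by
          refine List.map_congr_left fun n hn => ?_
          rw [co_smul, co_nb' u n hu, of_decide_eq_true (List.all_eq_true.1 h6.1 n hn)]
        have hm0 : ∀ m ∈ ([2, 3, 4] : List ℕ), m ∈ List.range 5 ∧ ¬ m < 2 ∧ hd m < 240 := by decide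
        obtain ⟨hm5, hm2, hhd⟩ := hm0 m hm
        rw [e, lsum_single List.nodup_range (fun n => coef n v) hm5]
        obtain ⟨s, hs, h7⟩ := List.any_eq_true.1 h6.2
        have h8 := of_decide_eq_true h7
        subst h8
        rw [fix_orb h3 h4 hhd hs]
        unfold coef
        rw [if_neg hm2, ← two_mul, two_zero, zero_mul]
    · rw [cc_add, cc_lsum, ← cc_cart hi v]
      unfold cart
      rw [cc_lsum]
      have e1 : ((List.range 8).map fun k => cc i (A k v • hr (bas.getD k 240))) =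
          (List.range 8).map fun k => A k v * kb (decide (cor chevE8 (bas.getD k 240) i % 2 ≠ 0)) :=
        List.map_congr_left fun k _ => by rw [cc_smul, cc_hr hi]
      have e2 : ((List.range 5).map fun n => cc i (coef n v • nb n)) =
          (List.range 5).map fun n => coef n v * kb (xf (HL.getD n []) fun r => decide (cor chevE8 r i % 2 ≠ 0)) :=
        List.map_congr_left fun n _ => by rw [cc_smul, cc_nb i n hi]
      rw [e1, e2]
      have a2 : A 2 v = A 0 v := (fix_A h3 h4 (l := 0) (by decide)).1.symm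
      have a3 : A 3 v = A 1 v := (fix_A h3 h4 (l := 1) (by decide)).1.symm
      have a4 : A 4 v = A 0 v := (fix_A h3 h4 (l := 0) (by decide)).2.symm
      have a5 : A 5 v = A 1 v := (fix_A h3 h4 (l := 1) (by decide)).2.symm
      have a6 : A 6 v = A 2 v := (fix_A h3 h4 (l := 2) (by decide)).2.symm
      have a7 : A 7 v = A 3 v := (fix_A h3 h4 (l := 3) (by decide)).2.symm
      show (A 0 v * kb (decide (cor chevE8 1 i % 2 ≠ 0)) + (A 1 v * kb (decide (cor chevE8 120 i % 2 ≠ 0)) +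
        (A 2 v * kb (decide (cor chevE8 113 i % 2 ≠ 0)) + (A 3 v * kb (decide (cor chevE8 123 i % 2 ≠ 0)) +
        (A 4 v * kb (decide (cor chevE8 135 i % 2 ≠ 0)) + (A 5 v * kb (decide (cor chevE8 163 i % 2 ≠ 0)) +
        (A 6 v * kb (decide (cor chevE8 98 i % 2 ≠ 0)) + (A 7 v * kb (decide (cor chevE8 194 i % 2 ≠ 0)) + 0)))))))) +
        (coef 0 v * kb (xor (decide (cor chevE8 1 i % 2 ≠ 0)) (xor (decide (cor chevE8 113 i % 2 ≠ 0))
          (xor (decide (cor chevE8 135 i % 2 ≠ 0)) (xor (decide (cor chevE8 98 i % 2 ≠ 0)) false)))) +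
        (coef 1 v * kb (xor (decide (cor chevE8 120 i % 2 ≠ 0)) (xor (decide (cor chevE8 123 i % 2 ≠ 0))
          (xor (decide (cor chevE8 163 i % 2 ≠ 0)) (xor (decide (cor chevE8 194 i % 2 ≠ 0)) false)))) +
        (coef 2 v * kb false + (coef 3 v * kb false + (coef 4 v * kb false + 0))))) = 0
      have c0 : coef 0 v = A 0 v := if_pos (by norm_num)
      have c1 : coef 1 v = A 1 v := if_pos (by norm_num)
      rw [a7, a6, a5, a4, a3, a2, c0, c1]
      simp only [kb_xor, kb_false, mul_zero, add_zero]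
      generalize kb (decide (cor chevE8 1 i % 2 ≠ 0)) = x1
      generalize kb (decide (cor chevE8 113 i % 2 ≠ 0)) = x2
      generalize kb (decide (cor chevE8 135 i % 2 ≠ 0)) = x3
      generalize kb (decide (cor chevE8 98 i % 2 ≠ 0)) = x4
      generalize kb (decide (cor chevE8 120 i % 2 ≠ 0)) = y1
      generalize kb (decide (cor chevE8 123 i % 2 ≠ 0)) = y2
      generalize kb (decide (cor chevE8 163 i % 2 ≠ 0)) = y3
      generalize kb (decide (cor chevE8 194 i % 2 ≠ 0)) = y4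
      have e5 : (2 : KK) = 0 := two_zero
      linear_combination (A 0 v * (x1 + x2 + x3 + x4) + A 1 v * (y1 + y2 + y3 + y4)) * e5
  exact eq_of_add_zero h

theorem fr_of_fix {v : LK} (hi : aK gi v = v) (h : Fz v = v) : fr v = v := by
  have h1 : aK gz v = v := by
    show aK (gi * gi) v = v
    rw [aK_mul, hi, hi]
  have h2 : aK gz (fr v) = aK gz v := by
    rw [h1]
    exact h
  have h3 := congrArg (aK gz⁻¹) h2
  rwa [aK_inv', aK_inv'] at h3

theorem co_fr (s : ℕ) (v : LK) : co s (fr v) = co s v ^ 2 := by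
  unfold co fr
  split_ifs
  · rfl
  · rw [zero_pow two_ne_zero]

theorem cc_fr (s : ℕ) (v : LK) : cc s (fr v) = cc s v ^ 2 := by
  unfold cc fr
  split_ifs
  · rfl
  · rw [zero_pow two_ne_zero]

theorem A_fr (k : ℕ) (v : LK) : A k (fr v) = A k v ^ 2 := by
  unfold A
  induction List.range 8 with
  | nil => simp
  | cons j l ih =>
    rw [List.map_cons, List.map_cons, List.sum_cons, List.sum_cons, add_sq, ih, mul_pow, cc_fr]
    have h3 : kb ((DI.getD j 0).testBit k) ^ 2 = kb ((DI.getD j 0).testBit k) := by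
      cases (DI.getD j 0).testBit k
      · rw [kb_false, zero_pow two_ne_zero]
      · rw [kb_true, one_pow]
    rw [h3, two_zero, zero_mul, zero_mul, add_zero]

/-- **the rational vectors fixed by `E`, `Q₈`** -/
theorem coord_nd {t1 t2 : ↥(chevE8.group KK)} {ω : KK} (ht1 : t1 ∈ TT chevE8 KK) (ht2 : t2 ∈ TT chevE8 KK)
    (hω : IsPrimitiveRoot ω 3) (hv1 : ∀ i, cX e8T t1 (sr i) = ω ^ (V1 i).val) (hv2 : ∀ i, cX e8T t2 (sr i) = ω ^ (V2 i).val)
    {v : LK} (h1 : aK t1 v = v) (h2 : aK t2 v = v) (h3 : aK gi v = v) (h4 : aK gj v = v) (h5 : Fz v = v) :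
    ∃ dm < 32, v = nd dm := by
  have h6 := coord_nb ht1 ht2 hω hv1 hv2 h1 h2 h3 h4
  have h7 := fr_of_fix h3 h5
  have h8 : ∀ n, ∃ b : Bool, coef n v = kb b := by
    intro n
    apply kb_of_sq
    unfold coef
    split_ifs
    · rw [← A_fr, h7]
    · rw [← co_fr, h7]
  choose b hb using h8
  refine ⟨mk b 5, mk_lt b 5, ?_⟩
  conv_lhs => rw [h6]
  unfold nd
  congr 1
  refine List.map_congr_left fun n hn => ?_
  rw [mk_bit b 5 n (List.mem_range.1 hn), hb]

end Cfsg.Agent.H865.L34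
end

-- part: H550/L34/KillA
section
/-!
# S5917, type A: no abelian submodule of type 9 (helper550)
-/

set_option autoImplicit false
set_option maxRecDepth 100000

namespace Cfsg.Agent.H550.L34

open Matrix Cfsg Cfsg.Lie Cfsg.Lie.ChevalleyDatum
open Cfsg.Agent.Tits.Roots Cfsg.Agent.KFacts.RgdChevCoord Cfsg.Agent.BpExc.TorChev Cfsg.Agent.H129.TorusChar
open Cfsg.Agent.BpExc.TowChev Cfsg.Agent.BpExc.FamUntw
open Cfsg.Agent.BpExc.RowsUntw (e8T)
open Cfsg.Agent.H691.L34
open Cfsg.Agent.H939.L64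
open Cfsg.Agent.H413.L16 (brM)
open Cfsg.Agent.H201.L34 (V1 V2 Fz)
open Cfsg.Agent.H865.L34

variable {F : Type} [Field F]

/-- **type A: an abelian submodule of type 9 is impossible** (modulo the ranks) -/
theorem killA_rk {ω : F} {h : Om ω} {b : Bool} {ι : F →+* KK} {f : G3 F →* E2} {z t1 t2 : ↥(chevE8.group KK)}
    {Φ : Matrix (Fin 3) (Fin 3) KK →ₗ[KK] LK} (S : FrA ω h b ι f z t1 t2 Φ) (hab : ∀ X Y, brK (Φ X) (Φ Y) = 0)
    (hι : IsPrimitiveRoot (ι ω) 3) (ht1 : t1 ∈ TT chevE8 KK) (ht2 : t2 ∈ TT chevE8 KK)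
    (hv1 : ∀ i, cX e8T t1 (sr i) = ι ω ^ (V1 i).val) (hv2 : ∀ i, cX e8T t2 (sr i) = ι ω ^ (V2 i).val)
    (hRK : RK) : False :=
  killA_of S hab (fun _ h1 h2 h3 => coord_T ht1 ht2 hι hv1 hv2 h1 h2 h3)
    (fun _ h1 h2 h3 h4 h5 => coord_nd ht1 ht2 hι hv1 hv2 h1 h2 h3 h4 h5)
    (fun _ _ _ _ h1 => sq_T h1) (fun _ h1 h2 => nd_nil h1 h2) hRK

end Cfsg.Agent.H550.L34
end

-- part: H550/L34/Iota
section
/-!
# S5917: an embedding `F → KK` with a given image of `ω` (helper550)
-/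

set_option autoImplicit false

namespace Cfsg.Agent.H550.L34

open Cfsg.Agent.H939.L64

/-- **the embedding** -/
theorem exists_iota {F : Type} [Field F] [Finite F] {ω : F} (h : Om ω) {ζ : KK} (hζ : IsPrimitiveRoot ζ 3) :
    ∃ ι : F →+* KK, ι ω = ζ := by
  haveI hF : CharP F 2 := CharTwo.of_one_ne_zero_of_two_eq_zero one_ne_zero h.two
  letI : Algebra (ZMod 2) F := ZMod.algebra F 2
  haveI : Algebra.IsAlgebraic (ZMod 2) F := inferInstance
  haveI hK : CharP KK 2 := inferInstance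
  obtain ⟨ι⟩ : Nonempty (F →+* KK) := ⟨(IsAlgClosed.lift (R := ZMod 2) (S := F) (M := KK)).toRingHom⟩
  have h2 : (2 : KK) = 0 := CharTwo.two_eq_zero
  have e1 : (ι ω) ^ 2 = ι ω + 1 := by rw [← map_pow, h.eq, map_add, map_one]
  have e2 : ζ ^ 3 = 1 := hζ.pow_eq_one
  have e3 : ζ ≠ 1 := hζ.ne_one (by norm_num)
  have e4 : ζ ^ 2 = ζ + 1 := by
    have h3 : (ζ - 1) * (ζ ^ 2 + ζ + 1) = 0 := by linear_combination e2
    have h4 := (mul_eq_zero.1 h3).resolve_left (sub_ne_zero.2 e3)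
    linear_combination h4 - (ζ + 1) * h2
  have h5 : (ι ω - ζ) * (ι ω - ζ ^ 2) = 0 := by
    have : (ι ω - ζ) * (ι ω - ζ ^ 2) = (ι ω) ^ 2 - (ζ ^ 2 + ζ) * ι ω + ζ ^ 3 := by ring
    rw [this, e1, e2, e4]
    linear_combination (1 - ζ * ι ω) * h2
  rcases mul_eq_zero.1 h5 with h6 | h6
  · exact ⟨ι, sub_eq_zero.1 h6⟩
  · refine ⟨(frobenius KK 2).comp ι, ?_⟩
    show (ι ω) ^ 2 = ζ
    rw [sub_eq_zero.1 h6, ← pow_mul, show 2 * 2 = 3 + 1 from rfl, pow_succ, e2, one_mul]

end Cfsg.Agent.H550.L34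
end

-- part: H550/L34/KillFrm
section
/-!
# S5917, type A: the kill in the frame of helper939 (helper550)
-/

set_option autoImplicit false
set_option maxRecDepth 100000

namespace Cfsg.Agent.H550.L34

open Matrix Cfsg Cfsg.Lie Cfsg.Lie.ChevalleyDatum
open Cfsg.Agent.H691.L34
open Cfsg.Agent.H939.L64
open Cfsg.Agent.H437.L34 (fg rho)
open Cfsg.Agent.H888.L34.Model (P3)
open Cfsg.Agent.H939.L34

/-- **type A: there is no abelian submodule of type 9** (modulo the ranks) -/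
theorem killA_frm {F : Type} [Field F] [Fintype F] (hF : Fintype.card F = 4) {H : Subgroup E2} {f : P3 F →* E2}
    {z : ↥(chevE8.group KK)} {ζ : KK} {g1 g2 qi qj : G3 F} (S : FsitA H f z ζ g1 g2 qi qj) {b : Bool}
    {W : Submodule (ZMod 2) L2} (hW : IsNine (rho f) b W) (hab : ∀ x ∈ W, ∀ y ∈ W, br2 x y = 0) (hRK : RK) : False := by
  obtain ⟨ω, h, rfl, rfl, rfl, rfl⟩ := S.uq
  obtain ⟨ι, hι⟩ := exists_iota h S.prim
  obtain ⟨Φ, i1, -, -, i4, -, i6, i7⟩ := Cfsg.Agent.H436.L34.exists_Phi_frame hF ι (fg f) (ρ := rho f)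
    (fun _ _ => rfl) hW z
  have S' : FrA ω h b ι (fg f) z (z⁻¹ * em (fg f (gD h)) * z) (z⁻¹ * em (fg f (gP h)) * z) Φ :=
    { four := fun a => by rw [← hF]; exact FiniteField.pow_card a
      inj := i1
      frob := i4
      act := i6
      zD := rfl
      zP := rfl
      zi := S.zi
      zj := S.zj
      zf := S.zm }
  refine killA_rk S' (i7 hab) (by rw [hι]; exact S.prim) S.m1 S.m2 ?_ ?_ hRK
  · rw [hι]; exact S.v1
  · rw [hι]; exact S.v2

end Cfsg.Agent.H550.L34
end

private theorem dce_184882525985 : _root_.True := by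
  try have : _root_.True := by simp only [_root_.Cfsg.Agent.H865.L34.mk.eq_def]
  try have : _root_.True := by simp only [_root_.Cfsg.Agent.H865.L34.pr.eq_def]
  try have : _root_.True := by simp only [_root_.Cfsg.Agent.H865.L34.pr.eq_1]
  try have : _root_.True := by simp only [_root_.Cfsg.Agent.H865.L34.pr.eq_2]
  try have : _root_.True := by simp only [_root_.Cfsg.Agent.H550.L34.gW.congr_simp]
  exact _root_.True.intro
end

-- part: H664/L34/Vec
section
prune_inst 0x352041007400000000000512120000202400009000030000e0c004020949c023894026400630060200c8308018014040031000190200000000003000000200000001500213100f046e0001800802000000000000000000000000000000000004000000000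
set_option linter.all false
open scoped Cfsg.Agent.FastGrp

-- part: H664/L34/Tab
section
/-!
# S5917: packed structure constants of `E₈` modulo two (helper664)

* `HML t` : the mask of the coefficients of the coroot modulo two; `CML t` : the mask of the Cartan integers.
-/

set_option autoImplicit false
set_option maxRecDepth 100000

namespace Cfsg.Agent.H664.L34

open Cfsg Cfsg.Lie
open Cfsg.Agent.H413.L16 (tg row okRow_spec okRow)
open Cfsg.Agent.ChevalleyStructure.Columns (car cor)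

/-- the masks of the coroots -/
def HML : List ℕ := [82, 210, 146, 178, 162, 170, 174, 168, 172, 164, 180, 148, 212, 84, 175, 173, 165, 181, 149, 213, 85, 161, 177, 145, 209, 81, 185, 153, 217, 89, 137, 201, 73, 233, 105, 41, 187, 155, 219, 91, 139, 203, 75, 235, 107, 43, 131, 195, 67, 227, 99, 35, 243, 115, 51, 19, 135, 199, 71, 231, 103, 39, 247, 119, 55, 23, 255, 127, 63, 31, 15, 253, 125, 61, 29, 13, 5, 1, 134, 198, 70, 230, 102, 38, 246, 118, 54, 22, 254, 126, 62, 30, 14, 250, 122, 58, 26, 10, 2, 252, 124, 60, 28, 12, 4, 248, 120, 56, 24, 8, 240, 112, 48, 16, 224, 96, 32, 192, 64, 128, 128, 64, 192, 32, 96, 224, 16, 48, 112, 240, 8, 24, 56, 120, 248, 4, 12, 28, 60, 124, 252, 2, 10, 26, 58, 122, 250, 14, 30, 62, 126, 254, 22, 54, 118, 246, 38, 102, 230, 70, 198, 134, 1, 5, 13, 29, 61, 125, 253, 15, 31, 63, 127, 255, 23, 55, 119, 247, 39, 103, 231, 71, 199, 135, 19, 51, 115, 243, 35, 99, 227, 67, 195, 131, 43, 107, 235, 75, 203, 139, 91,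 219, 155, 187, 41, 105, 233, 73, 201, 137, 89, 217, 153, 185, 81, 209, 145, 177, 161, 85, 213, 149, 181, 165, 173, 175, 84, 212, 148, 180, 164, 172, 168, 174, 170, 162, 178, 146, 210, 82]

/-- the masks of the Cartan integers -/
def CML : List ℕ := [128, 192, 96, 48, 24, 14, 7, 6, 15, 25, 49, 97, 193, 129, 3, 11, 29, 53, 101, 197, 133, 20, 60, 108, 204, 140, 42, 122, 218, 154, 82, 242, 178, 162, 226, 66, 34, 114, 210, 146, 90, 250, 186, 170, 234, 74, 76, 236, 172, 188, 252, 92, 148, 212, 116, 36, 69, 229, 165, 181, 245, 85, 157, 221, 125, 45, 139, 203, 107, 59, 19, 131, 195, 99, 51, 27, 13, 4, 65, 225, 161, 177, 241, 81, 153, 217, 121, 41, 143, 207, 111, 63, 23, 134, 198, 102, 54, 30, 8, 135, 199, 103, 55, 31, 9, 142, 206, 110, 62, 22, 152, 216, 120, 40, 176, 240, 80, 224, 160, 64, 64, 160, 224, 80, 240, 176, 40, 120, 216, 152, 22, 62, 110, 206, 142, 9, 31, 55, 103, 199, 135, 8, 30, 54, 102, 198, 134, 23, 63, 111, 207, 143, 41, 121, 217, 153,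 81, 241, 177, 161, 225, 65, 4, 13, 27, 51, 99, 195, 131, 19, 59, 107, 203, 139, 45, 125, 221, 157, 85, 245, 181, 165, 229, 69, 36, 116, 212, 148, 92, 252, 188, 172, 236, 76, 74, 234, 170, 186, 250, 90, 146, 210, 114, 34, 66, 226, 162, 178, 242, 82, 154, 218, 122, 42, 140, 204, 108, 60, 20, 133, 197, 101, 53, 29, 11, 3, 129, 193, 97, 49, 25, 15, 6, 7, 14, 24, 48, 96, 192, 128]

/-- `HML` as a number -/
def HP : ℕ := 0x52d292b2a2aaaea8aca4b494d454afada5b595d555a1b191d151b999d95989c949e96929bb9bdb5b8bcb4beb6b2b83c343e36323f373331387c747e76727f7773717ff7f3f1f0ffd7d3d1d0d050186c646e66626f6763616fe7e3e1e0efa7a3a1a0a02fc7c3c1c0c04f878381808f0703010e06020c040808040c02060e0103070f008183878f8040c1c3c7cfc020a1a3a7afa0e1e3e7efe163676f62666e646c68601050d1d3d7dfd0f1f3f7fff173777f72767e747c787133373f32363e343c3832b6beb4bcb8b5bdb9bbb2969e949c98959d999b951d191b1a155d595b5a5adaf54d494b4a4aca8aeaaa2b292d252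

/-- `CML` as a number, after eight zero bytes -/
def CP : ℕ := 0x80c06030180e07060f193161c181030b1d3565c585143c6ccc8c2a7ada9a52f2b2a2e2422272d2925afabaaaea4a4cecacbcfc5c94d4742445e5a5b5f5559ddd7d2d8bcb6b3b1383c363331b0d0441e1a1b1f15199d979298fcf6f3f1786c666361e0887c767371f098ece6e3e1698d87828b0f050e0a04040a0e050f0b02878d898163e6ece8e091f3767c787081e3666c686173f6fcf8f2979d99951f1b1a1e141040d1b3363c383133b6bcb8b2d7ddd9d55f5b5a5e5452474d4945cfcbcacec4c4aeaaabafa5a92d2722242e2a2b2f2529ada7a2a8ccc6c3c1485c565351d0b0381c16131190f06070e183060c0800000000000000000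

theorem getD_rng {L : List ℕ} {n : ℕ} {f : ℕ → ℕ} (h : L = (List.range n).map f) {i : ℕ} (hi : i < n) :
    L.getD i 0 = f i := by
  rw [h, List.getD_eq_getElem?_getD, List.getElem?_map, List.getElem?_range hi]
  rfl

theorem hm_fld {t : ℕ} (ht : t < 240) : HML.getD t 0 = ChevFast.fldG 8 HP t := getD_rng (by decide +kernel) ht

theorem cm_fld {t : ℕ} (ht : t < 240) : CML.getD t 0 = ChevFast.fldG 8 CP (8 + t) :=
  getD_rng (f := fun t => ChevFast.fldG 8 CP (8 + t)) (by decide +kernel) ht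

theorem hm_tab : ((List.range 240).all fun t => (List.range 8).all fun i =>
    (Nat.blt (HML.getD t 0) 256) && ((HML.getD t 0).testBit i == decide (cor chevE8 t i % 2 ≠ 0))) = true := by
  have h : ((List.range 240).all fun t => (List.range 8).all fun i => (Nat.blt (ChevFast.fldG 8 HP t) 256) &&
      ((ChevFast.fldG 8 HP t).testBit i == decide (cor chevE8 t i % 2 ≠ 0))) = true := by
    delta cor
    rewrite [ChevFast.E8.coroot]
    decide +kernel
  rw [List.all_eq_true] at h ⊢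
  intro t ht
  rw [hm_fld (List.mem_range.1 ht)]
  exact h t ht

theorem cm_tab : ((List.range 240).all fun t => (List.range 8).all fun i =>
    (Nat.blt (CML.getD t 0) 256) && ((CML.getD t 0).testBit i == decide (car chevE8 i t % 2 ≠ 0))) = true := by
  have h : ((List.range 240).all fun t => (List.range 8).all fun i => (Nat.blt (ChevFast.fldG 8 CP (8 + t)) 256) &&
      ((ChevFast.fldG 8 CP (8 + t)).testBit i == decide (car chevE8 i t % 2 ≠ 0))) = true := by
    have e : car chevE8 = ChevFast.gz 960 ChevFast.E8.tA := ChevFast.E8.cartan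
    rewrite [e]
    decide +kernel
  rw [List.all_eq_true] at h ⊢
  intro t ht
  rw [cm_fld (List.mem_range.1 ht)]
  exact h t ht

end Cfsg.Agent.H664.L34
end

-- part: H664/L34/Rk
section
/-!
# S5917: the rank of `ad v` for `v` a sum of root vectors and an element of the Cartan subalgebra (helper664)
-/

set_option autoImplicit false
set_option maxRecDepth 100000

namespace Cfsg.Agent.H664.L34

open Cfsg Cfsg.Lie
open Cfsg.Agent.ChevalleyStructure.Columns (car cor)
open Cfsg.Agent.ChevalleyStructure.SparseAct (code code_lt code_inl code_inr code_injective exists_code)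
open Cfsg.Agent.H939.L64 (KK LK brK brL brL_apply aK)
open Cfsg.Agent.H413.L16 (er hv hr tg row okRow okRow_spec nr rk8 br_rr br_neg br_hv br_hh br_comm br_er_hv er_of er_ge
  tg_le single_eq cast_odd cast_even cast_congr hr_neg)
open Cfsg.Agent.H81.RankTwo hiding cast_odd cast_even

/-! ### packed matrices -/

/-- the column `k` of a packed matrix -/
def fd (M k : ℕ) : ℕ := Nat.mod (Nat.shiftRight M (Nat.mul 256 k)) (Nat.pow 2 256)

theorem fd_bit (M k j : ℕ) : (fd M k).testBit j = (decide (j < 256) && M.testBit (256 * k + j)) := by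
  show ((M >>> (256 * k)) % 2 ^ 256).testBit j = _
  rw [Nat.testBit_mod_two_pow, Nat.testBit_shiftRight]

theorem fd_lt (M k : ℕ) : fd M k < 2 ^ 256 := Nat.mod_lt _ (Nat.two_pow_pos _)

theorem fd_zero (k : ℕ) : fd 0 k = 0 :=
  Nat.eq_of_testBit_eq fun j => by rw [fd_bit, Nat.zero_testBit, Nat.zero_testBit, Bool.and_false]

theorem fd_xor (a b k : ℕ) : fd (a ^^^ b) k = fd a k ^^^ fd b k :=
  Nat.eq_of_testBit_eq fun j => by
    rw [Nat.testBit_xor, fd_bit, fd_bit, fd_bit, Nat.testBit_xor]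
    cases decide (j < 256) <;> rfl

theorem bit_big {c j : ℕ} (hc : c < 2 ^ 256) (hj : 256 ≤ j) : c.testBit j = false :=
  Nat.testBit_lt_two_pow (lt_of_lt_of_le hc (Nat.pow_le_pow_right Nat.two_pos hj))

theorem fd_shift {c : ℕ} (hc : c < 2 ^ 256) (t k : ℕ) : fd (c <<< (256 * t)) k = if t = k then c else 0 :=
  Nat.eq_of_testBit_eq fun j => by
    rw [fd_bit, Nat.testBit_shiftLeft]
    by_cases hj : j < 256
    · rw [decide_eq_true hj, Bool.true_and]
      by_cases h : t = k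
      · rw [if_pos h, h, Nat.add_sub_cancel_left, decide_eq_true (Nat.le_add_right _ _), Bool.true_and]
      · rw [if_neg h, Nat.zero_testBit]
        by_cases h1 : 256 * k + j ≥ 256 * t
        · rw [bit_big hc (by omega), Bool.and_false]
        · rw [decide_eq_false h1, Bool.false_and]
    · rw [decide_eq_false hj, Bool.false_and]
      split_ifs
      · exact (bit_big hc (by omega)).symm
      · exact (Nat.zero_testBit _).symm

/-- the matrix with the columns `f 0, .., f (n - 1)` -/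
noncomputable def pk (f : ℕ → ℕ) (n : ℕ) : ℕ :=
  Nat.rec 0 (fun k ih => Nat.add (Nat.shiftLeft (f k) (Nat.mul 256 k)) ih) n

theorem pk_succ (f : ℕ → ℕ) (n : ℕ) : pk f (n + 1) = 2 ^ (256 * n) * f n + pk f n := by
  show f n <<< (256 * n) + pk f n = _
  rw [Nat.shiftLeft_eq, Nat.mul_comm]

theorem pk_lt {f : ℕ → ℕ} (hf : ∀ k, f k < 2 ^ 256) (n : ℕ) : pk f n < 2 ^ (256 * n) := by
  induction n with
  | zero => exact Nat.two_pow_pos _
  | succ n ih =>
    rw [pk_succ, Nat.mul_succ, Nat.pow_add]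
    exact lt_of_lt_of_le (Nat.add_lt_add_left ih _) (by rw [← Nat.mul_succ]; exact Nat.mul_le_mul_left _ (hf n))

theorem pk_bit {f : ℕ → ℕ} (hf : ∀ k, f k < 2 ^ 256) (n j : ℕ) :
    (pk f n).testBit j = (decide (j / 256 < n) && (f (j / 256)).testBit (j % 256)) := by
  induction n with
  | zero => exact Nat.zero_testBit _
  | succ n ih =>
    rw [pk_succ, Nat.testBit_two_pow_mul_add _ (pk_lt hf n), ih]
    by_cases h : j < 256 * n
    · rw [if_pos h, decide_eq_true (show j / 256 < n by omega), decide_eq_true (show j / 256 < n + 1 by omega)]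
    · rw [if_neg h]
      by_cases h1 : j / 256 = n
      · rw [h1, decide_eq_true (Nat.lt_succ_self n), Bool.true_and, show j - 256 * n = j % 256 by omega]
      · rw [decide_eq_false (show ¬ j / 256 < n + 1 by omega), Bool.false_and, bit_big (hf n) (by omega)]

theorem fd_pk {f : ℕ → ℕ} (hf : ∀ k, f k < 2 ^ 256) (n k : ℕ) : fd (pk f n) k = if k < n then f k else 0 :=
  Nat.eq_of_testBit_eq fun j => by
    rw [fd_bit, pk_bit hf]
    by_cases hj : j < 256
    · rw [decide_eq_true hj, Bool.true_and, show (256 * k + j) / 256 = k by omega, show (256 * k + j) % 256 = j by omega]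
      by_cases h : k < n
      · rw [if_pos h, decide_eq_true h, Bool.true_and]
      · rw [if_neg h, decide_eq_false h, Bool.false_and, Nat.zero_testBit]
    · rw [decide_eq_false hj, Bool.false_and]
      split_ifs
      · exact (bit_big (hf k) (by omega)).symm
      · exact (Nat.zero_testBit _).symm

theorem pk_mul (f : ℕ → ℕ) (x n : ℕ) : pk f n * x = pk (fun k => f k * x) n := by
  induction n with
  | zero => exact Nat.zero_mul x
  | succ n ih => rw [pk_succ, pk_succ, Nat.add_mul, ih, Nat.mul_assoc]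

theorem one_lt_big : 1 < 2 ^ 256 := Nat.one_lt_two_pow (by decide)

theorem land_pk (A n : ℕ) : A &&& pk (fun _ => 1) n = pk (fun k => if A.testBit (256 * k) then 1 else 0) n :=
  Nat.eq_of_testBit_eq fun j => by
    rw [Nat.testBit_and, pk_bit (fun _ => one_lt_big), pk_bit (fun k => by
      split_ifs
      · exact one_lt_big
      · exact Nat.two_pow_pos _)]
    by_cases h : j % 256 = 0
    · rw [h, show 256 * (j / 256) = j by omega]
      cases A.testBit j <;> cases decide (j / 256 < n) <;> rfl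
    · have e : (1 : ℕ).testBit (j % 256) = false := Nat.testBit_lt_two_pow (Nat.one_lt_two_pow h)
      rw [e, Bool.and_false, Bool.and_false]
      split_ifs
      · rw [e, Bool.and_false]
      · rw [Nat.zero_testBit, Bool.and_false]

/-- the first index of a chain -/
noncomputable def hd (a : Array (ℕ × ℤ)) : ℕ := List.rec 240 (fun x _ _ => x.1) a.toList

theorem hd_eq (a : Array (ℕ × ℤ)) : hd a = (a.getD 0 (240, 0)).1 := by
  obtain ⟨l⟩ := a
  cases l <;> rfl

/-- the matrix of a list of chains -/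
noncomputable def sp (l : List (ℕ × Array (ℕ × ℤ))) : ℕ :=
  List.rec 0 (fun e _ ih => Nat.xor (Nat.shiftLeft (Nat.shiftLeft 1 (Nat.add 8 (hd e.2))) (Nat.mul 256 (Nat.add 8 e.1))) ih) l

theorem sp_cons (e : ℕ × Array (ℕ × ℤ)) (l : List (ℕ × Array (ℕ × ℤ))) :
    sp (e :: l) = ((1 <<< (8 + (e.2.getD 0 (240, 0)).1)) <<< (256 * (8 + e.1))) ^^^ sp l := by
  rw [← hd_eq]
  rfl

theorem one_shift_lt {a : ℕ} (h : a < 256) : 1 <<< a < 2 ^ 256 := by
  rw [Nat.one_shiftLeft]
  exact Nat.pow_lt_pow_right Nat.one_lt_two h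

theorem sp_none {k : ℕ} : ∀ l : List (ℕ × Array (ℕ × ℤ)), (∀ e ∈ l, (e.2.getD 0 (240, 0)).1 < 240) → (∀ e ∈ l, 8 + e.1 ≠ k) →
    fd (sp l) k = 0 := by
  intro l
  induction l with
  | nil => exact fun _ _ => fd_zero k
  | cons a l ih =>
    intro h1 h2
    have h3 := h1 a List.mem_cons_self
    rw [sp_cons, fd_xor, ih (fun e he => h1 e (List.mem_cons_of_mem _ he)) fun e he => h2 e (List.mem_cons_of_mem _ he),
      fd_shift (one_shift_lt (by omega)), if_neg (h2 a List.mem_cons_self)]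
    rfl

theorem sp_spec (s : ℕ) : ∀ l : List (ℕ × Array (ℕ × ℤ)), (∀ e ∈ l, (e.2.getD 0 (240, 0)).1 < 240) →
    ((l.zip l.tail).all fun p => decide (p.1.1 < p.2.1)) = true →
    fd (sp l) (8 + s) = (l.find? fun e => e.1 == s).elim 0 fun e => 1 <<< (8 + (e.2.getD 0 (240, 0)).1) := by
  have key : ∀ (l : List (ℕ × Array (ℕ × ℤ))) (a : ℕ × Array (ℕ × ℤ)),
      (((a :: l).zip l).all fun p => decide (p.1.1 < p.2.1)) = true → ∀ e ∈ l, a.1 < e.1 := by
    intro l
    induction l with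
    | nil => intro a _ e he; exact absurd he (by simp)
    | cons b l ih =>
      intro a h e he
      rw [List.zip_cons_cons, List.all_cons, Bool.and_eq_true, decide_eq_true_eq] at h
      rcases List.mem_cons.1 he with rfl | he
      · exact h.1
      · exact h.1.trans (ih b h.2 e he)
  intro l
  induction l with
  | nil => exact fun _ _ => fd_zero _
  | cons a l ih =>
    intro h1 h2
    rw [List.tail_cons] at h2
    have hk := key l a h2
    have h3 := h1 a List.mem_cons_self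
    have h4 := fun e he => h1 e (List.mem_cons_of_mem _ he)
    have h' : ((l.zip l.tail).all fun p => decide (p.1.1 < p.2.1)) = true := by
      cases l with
      | nil => rfl
      | cons b l =>
        rw [List.zip_cons_cons, List.all_cons, Bool.and_eq_true] at h2
        exact h2.2
    rw [sp_cons, fd_xor, fd_shift (one_shift_lt (by omega))]
    by_cases hs' : a.1 = s
    · rw [List.find?_cons_of_pos (by simpa using hs'), if_pos (by rw [hs']),
        sp_none l h4 fun e he h3 => absurd (hk e he) (by omega), Nat.xor_zero]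
      rfl
    · rw [List.find?_cons_of_neg (by simpa using hs'), if_neg (by omega), Nat.zero_xor]
      exact ih h4 h'

/-! ### masks -/

instance : CharP KK 2 := Cfsg.Agent.H413.L64.charKK

/-- the 0/1 vector of a mask -/
noncomputable def vm (m : ℕ) : LK := vec chevE8 KK m

theorem vm_xor (a b : ℕ) : vm (a ^^^ b) = vm a + vm b := vec_xor chevE8 KK a b

theorem vm_zero : vm 0 = 0 := vec_zero chevE8 KK

theorem N_eq : N chevE8 = 248 := by decide +kernel

theorem vm_apply (m : ℕ) (i : chevE8.Idx) : vm m i = if m.testBit (code chevE8 i) then 1 else 0 := rfl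

theorem vm_er {s : ℕ} (hs : s ≤ 240) : vm (1 <<< (8 + s)) = er s := by
  rcases Nat.lt_or_ge s 240 with h | h
  · have h' : s < chevE8.nroots := by rw [nr]; exact h
    rw [er_of h', ← vec_single (D := chevE8) (K := KK), code_inr, rk8]
    rfl
  · obtain rfl : s = 240 := le_antisymm hs h
    rw [er_ge le_rfl]
    funext i
    have h1 : code chevE8 i < 248 := by rw [← N_eq]; exact code_lt chevE8 i
    rw [vm_apply, testBit_one_shiftLeft, Pi.zero_apply, if_neg]
    simp
    omega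

theorem vm_hv {m : ℕ} (hm : m < 256) : vm m = hv fun i => if m.testBit i then 1 else 0 := by
  funext i
  rcases i with i | s
  · rfl
  · rw [vm_apply, code_inr, if_neg]
    · rfl
    · have h8 : 8 ≤ chevE8.rank + s.val := by rw [rk8]; omega
      rw [Nat.testBit_lt_two_pow (lt_of_lt_of_le hm (by
        calc (256 : ℕ) = 2 ^ 8 := rfl
          _ ≤ 2 ^ (chevE8.rank + s.val) := Nat.pow_le_pow_right (by norm_num) h8))]
      simp

theorem hm_lt {t : ℕ} (ht : t < 240) : HML.getD t 0 < 256 := by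
  have := List.all_eq_true.1 (List.all_eq_true.1 hm_tab t (List.mem_range.2 ht)) 0 (by simp)
  rw [Bool.and_eq_true] at this
  simpa [Nat.blt_eq] using this.1

theorem hm_bit {t : ℕ} (ht : t < 240) {i : ℕ} (hi : i < 8) :
    (HML.getD t 0).testBit i = decide (cor chevE8 t i % 2 ≠ 0) := by
  have := List.all_eq_true.1 (List.all_eq_true.1 hm_tab t (List.mem_range.2 ht)) i (List.mem_range.2 hi)
  rw [Bool.and_eq_true] at this
  simpa using this.2

theorem cm_lt {t : ℕ} (ht : t < 240) : CML.getD t 0 < 256 := by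
  have := List.all_eq_true.1 (List.all_eq_true.1 cm_tab t (List.mem_range.2 ht)) 0 (by simp)
  rw [Bool.and_eq_true] at this
  simpa [Nat.blt_eq] using this.1

theorem cm_bit {t : ℕ} (ht : t < 240) {i : ℕ} (hi : i < 8) :
    (CML.getD t 0).testBit i = decide (car chevE8 i t % 2 ≠ 0) := by
  have := List.all_eq_true.1 (List.all_eq_true.1 cm_tab t (List.mem_range.2 ht)) i (List.mem_range.2 hi)
  rw [Bool.and_eq_true] at this
  simpa using this.2

theorem cast_bit (a : ℤ) : (a : KK) = if decide (a % 2 ≠ 0) then 1 else 0 := by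
  by_cases h : a % 2 = 0
  · rw [cast_even h]; simp [h]
  · rw [cast_odd h]; simp [h]

theorem hr_mask {t : ℕ} (ht : t < 240) : hr t = vm (HML.getD t 0) := by
  rw [vm_hv (hm_lt ht)]
  unfold Cfsg.Agent.H413.L16.hr
  congr 1
  funext i
  have hi : (i : ℕ) < 8 := lt_of_lt_of_eq i.2 rk8
  rw [hm_bit ht hi, ← cast_bit]

/-! ### the bracket with a root vector -/

/-- the parity of a byte -/
def PT : ℕ := 0x6996966996696996966969966996966996696996699696696996966996696996

/-- the parity -/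
def par8 (x : ℕ) : Bool := PT.testBit x

theorem par8_spec : ∀ x < 256, ((List.range 8).map fun i => if x.testBit i then (1 : ℤ) else 0).sum % 2 =
    if par8 x then 1 else 0 := by
  decide +kernel

/-- the term `[h(c), e_t]` -/
def ht (c t : ℕ) : ℕ := bif par8 (c &&& CML.getD t 0) then 1 <<< (8 + t) else 0

theorem ht_spec {c t : ℕ} (ht' : t < 240) : brK (hv fun i => if c.testBit i then 1 else 0) (er t) = vm (ht c t) := by
  rw [br_hv _ ht']
  have h1 : (∑ i : Fin chevE8.rank, (if c.testBit i then (1 : KK) else 0) * ((car chevE8 i t : ℤ) : KK)) =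
      if par8 (c &&& CML.getD t 0) then 1 else 0 := by
    have hx : (c &&& CML.getD t 0) < 256 := lt_of_le_of_lt Nat.and_le_right (cm_lt ht')
    have h2 := par8_spec _ hx
    have h3 : ∀ i : Fin chevE8.rank, (if c.testBit i then (1 : KK) else 0) * ((car chevE8 i t : ℤ) : KK) =
        ((if (c &&& CML.getD t 0).testBit i then (1 : ℤ) else 0 : ℤ) : KK) := by
      intro i
      have hi : (i : ℕ) < 8 := lt_of_lt_of_eq i.2 rk8
      rw [cast_bit, ← cm_bit ht' hi, Nat.testBit_and]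
      cases c.testBit i <;> cases (CML.getD t 0).testBit i <;> simp
    rw [Finset.sum_congr rfl fun i _ => h3 i, ← Int.cast_sum]
    have h4 : (∑ i : Fin chevE8.rank, (if (c &&& CML.getD t 0).testBit i then (1 : ℤ) else 0)) =
        ((List.range 8).map fun i => if (c &&& CML.getD t 0).testBit i then (1 : ℤ) else 0).sum := by
      rw [← Finset.sum_range fun i => if (c &&& CML.getD t 0).testBit i then (1 : ℤ) else 0, rk8]
      rfl
    rw [h4]
    by_cases h5 : par8 (c &&& CML.getD t 0) = true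
    · rw [if_pos h5] at h2 ⊢
      exact cast_odd (by rw [h2]; norm_num)
    · rw [if_neg h5] at h2 ⊢
      exact cast_even h2
  rw [h1]
  unfold ht
  by_cases h5 : par8 (c &&& CML.getD t 0) = true
  · rw [h5, if_pos rfl, one_smul, cond_true, vm_er ht'.le]
  · rw [Bool.not_eq_true] at h5
    rw [h5, cond_false, vm_zero]
    simp

/-- the sum of the root vectors of `L` and the element of the Cartan subalgebra of the mask `c` -/
noncomputable def vl (c : ℕ) (L : List ℕ) : LK := hv (fun i => if c.testBit i then 1 else 0) + (L.map er).sum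

end Cfsg.Agent.H664.L34
end

-- part: H664/L34/Fast
section
/-!
# S5917: fast evaluation of the columns of `ad v` and of the echelon form (helper664)
-/

set_option autoImplicit false
set_option maxRecDepth 100000

namespace Cfsg.Agent.H664.L34

open Cfsg Cfsg.Lie
open Cfsg.Agent.H939.L64 (KK LK brK brL brL_apply aK)
open Cfsg.Agent.ChevalleyStructure.Columns (car cor)
open Cfsg.Agent.ChevalleyStructure.SparseAct (code code_lt exists_code)
open Cfsg.Agent.H413.L16 (er hv hr tg row okRow okRow_spec nr rk8 tg_le br_neg br_rr br_hh br_er_hv chain_mod er_ge)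
open Cfsg.Agent.H81.RankTwo hiding cast_odd cast_even

theorem land_one (x i : ℕ) : Nat.land (Nat.shiftRight x i) 1 = if x.testBit i then 1 else 0 := by
  have h : Nat.land (Nat.shiftRight x i) 1 = (x >>> i) % 2 := Nat.and_two_pow_sub_one_eq_mod _ 1
  rw [h]
  by_cases hb : x.testBit i = true
  · rw [if_pos hb]
    rw [Nat.testBit_eq_decide_div_mod_eq, decide_eq_true_eq] at hb
    rw [Nat.shiftRight_eq_div_pow]
    exact hb
  · rw [if_neg hb]
    rw [Nat.testBit_eq_decide_div_mod_eq, decide_eq_true_eq] at hb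
    rw [Nat.shiftRight_eq_div_pow]
    omega

theorem tg_neg {t : ℕ} (ht : t < 240) : tg t (239 - t) = 240 := by
  have h := chain_mod (s := 239 - t) (u := 0) ht
  by_contra h1
  exact (h.2.1 (by have := h.2.2; omega)).2.1 rfl

/-- a bit of `x` at the position `a` -/
def bitAt (x i a : ℕ) : ℕ := Nat.shiftLeft (Nat.land (Nat.shiftRight x i) 1) a

theorem bitAt_eq (x i a : ℕ) : bitAt x i a = bif x.testBit i then 1 <<< a else 0 := by
  delta bitAt
  rw [land_one]
  cases x.testBit i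
  · exact Nat.zero_shiftLeft _
  · rfl

theorem bitAt_lt (x i : ℕ) {a : ℕ} (h : a < 256) : bitAt x i a < 2 ^ 256 := by
  rw [bitAt_eq]
  cases x.testBit i
  · exact Nat.two_pow_pos _
  · exact one_shift_lt h

/-- the matrix of `ad e_s` -/
noncomputable def AD (s : ℕ) : ℕ :=
  Nat.xor (Nat.xor (sp (ChevFast.E8.row s).toList) (Nat.shiftLeft (ChevFast.fldG 8 HP s) (Nat.mul 256 (Nat.sub 247 s))))
    (pk (fun i => bitAt (ChevFast.fldG 8 CP (Nat.add 8 s)) i (Nat.add 8 s)) 8)

theorem vm_h {k : ℕ} (hk : k < 8) : vm (1 <<< k) = hv (Pi.single ⟨k, lt_of_lt_of_eq hk rk8.symm⟩ 1) :=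
  (vec_single (D := chevE8) (K := KK) (Sum.inl ⟨k, lt_of_lt_of_eq hk rk8.symm⟩)).trans (Cfsg.Agent.H413.L16.single_eq _)

theorem AD_spec {s k : ℕ} (hs : s < 240) (hk : k < 248) : brK (er s) (vm (1 <<< k)) = vm (fd (AD s) k) := by
  have e0 : AD s = (sp (row s) ^^^ (HML.getD s 0 <<< (256 * (247 - s)))) ^^^
      pk (fun i => bitAt (CML.getD s 0) i (8 + s)) 8 := by
    delta row
    rw [hm_fld hs, cm_fld hs, ChevFast.E8.chain]
    show _ = (sp (bif Nat.blt s 240 then ChevFast.E8.row s else #[]).toList ^^^ _) ^^^ _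
    rw [Nat.blt_eq.mpr hs]
    rfl
  obtain ⟨h1, h2⟩ := (Bool.and_eq_true _ _).mp (okRow_spec hs)
  have h3 : ∀ e ∈ row s, (e.2.getD 0 (240, 0)).1 < 240 := by
    intro e he
    have := List.all_eq_true.1 h1 e he
    simp only [Bool.and_eq_true, decide_eq_true_eq] at this
    exact this.1.2
  rw [e0, fd_xor, fd_xor, fd_shift (lt_trans (hm_lt hs) (Nat.pow_lt_pow_right (a := 2) (m := 8) Nat.one_lt_two (by decide))),
    fd_pk fun i => bitAt_lt _ i (by omega)]
  by_cases h8 : k < 8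
  · rw [sp_none _ h3 (fun e _ => by omega), if_neg (by omega), if_pos h8, Nat.zero_xor, Nat.zero_xor, vm_h h8,
      br_er_hv _ hs, Finset.sum_eq_single ⟨k, lt_of_lt_of_eq h8 rk8.symm⟩, bitAt_eq]
    · rw [Pi.single_eq_same, one_mul, cast_bit, ← cm_bit hs h8]
      cases (CML.getD s 0).testBit k
      · rw [cond_false, vm_zero, if_neg Bool.false_ne_true, zero_smul]
      · rw [cond_true, vm_er hs.le, if_pos rfl, one_smul]
    · intro b _ hb
      rw [Pi.single_eq_of_ne hb, zero_mul]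
    · intro h; exact absurd (Finset.mem_univ _) h
  · obtain ⟨t, rfl⟩ := Nat.exists_eq_add_of_le (Nat.le_of_not_lt h8)
    have ht : t < 240 := by omega
    have e1 : vm (fd (sp (row s)) (8 + t)) = er (tg s t) := by
      rw [sp_spec t _ h3 h2]
      have e2 := tg_le hs t
      revert e2
      delta tg
      cases (row s).find? fun e => e.1 == t with
      | none => exact fun _ => vm_zero.trans (er_ge le_rfl).symm
      | some e => exact fun e2 => vm_er e2
    rw [if_neg h8, Nat.xor_zero, vm_xor, e1, vm_er ht.le]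
    by_cases h9 : t = 239 - s
    · rw [if_pos (by omega), h9, tg_neg hs, er_ge le_rfl, zero_add, br_neg hs, hr_mask hs]
    · rw [if_neg (by omega), vm_zero, add_zero, br_rr hs ht h9]

/-- the matrix of `ad h(c)` -/
noncomputable def DG (c : ℕ) : ℕ := pk (fun k => bitAt PT (Nat.land c (ChevFast.fldG 8 CP k)) (Nat.mod k 256)) 248

theorem DG_spec (c : ℕ) {k : ℕ} (hk : k < 248) :
    brK (hv fun i => if c.testBit i then 1 else 0) (vm (1 <<< k)) = vm (fd (DG c) k) := by
  have e : fd (DG c) k = if k < 248 then bitAt PT (Nat.land c (ChevFast.fldG 8 CP k)) (Nat.mod k 256) else 0 :=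
    fd_pk (fun k => bitAt_lt _ _ (Nat.mod_lt k (by decide))) 248 k
  rw [e, if_pos hk, bitAt_eq]
  by_cases h8 : k < 8
  · have h : ∀ k < 8, ChevFast.fldG 8 CP k = 0 := by decide +kernel
    rw [vm_h h8, br_hh, h k h8, show Nat.land c 0 = 0 from Nat.and_zero c]
    exact vm_zero.symm
  · obtain ⟨t, rfl⟩ := Nat.exists_eq_add_of_le (Nat.le_of_not_lt h8)
    have ht : t < 240 := by omega
    rw [vm_er ht.le, ht_spec ht, ← cm_fld ht, show Nat.mod (8 + t) 256 = 8 + t from Nat.mod_eq_of_lt (by omega)]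
    rfl

/-- evaluate a number first -/
noncomputable def frc {α : Type} (x : ℕ) (f : ℕ → α) : α := @Nat.rec (fun _ => α) (f 0) (fun n _ => f (Nat.succ n)) x

theorem frc_eq {α : Type} (x : ℕ) (f : ℕ → α) : frc x f = f x := by
  cases x <;> rfl

/-- the matrix of `ad (vl c L)` -/
noncomputable def mat (c : ℕ) (L : List ℕ) : ℕ :=
  List.rec (frc c DG) (fun s _ ih => frc s fun s => Nat.xor (AD s) ih) L

theorem mat_spec {c k : ℕ} (hk : k < 248) : ∀ L : List ℕ, (∀ s ∈ L, s < 240) →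
    brL (vl c L) (vm (1 <<< k)) = vm (fd (mat c L) k) := by
  intro L
  delta vl
  induction L with
  | nil =>
    intro _
    rw [List.map_nil, List.sum_nil, add_zero, brL_apply, DG_spec c hk, ← frc_eq c DG]
    rfl
  | cons s L ih =>
    intro h
    have e : mat c (s :: L) = AD s ^^^ mat c L := frc_eq s fun s => Nat.xor (AD s) (mat c L)
    rw [List.map_cons, List.sum_cons, add_left_comm, map_add, LinearMap.add_apply,
      ih fun x hx => h x (List.mem_cons_of_mem _ hx), brL_apply, AD_spec (h s List.mem_cons_self) hk, e, fd_xor, vm_xor]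

/-- the span of the columns -/
noncomputable def SM (M : ℕ) : Submodule KK LK := Submodule.span KK {v | ∃ k < 248, v = vm (fd M k)}

theorem col_mem (M : ℕ) {k : ℕ} (hk : k < 248) : vm (fd M k) ∈ SM M := Submodule.subset_span ⟨k, hk, rfl⟩

theorem range_mat {c : ℕ} {L : List ℕ} (hL : ∀ s ∈ L, s < 240) : LinearMap.range (brL (vl c L)) = SM (mat c L) := by
  apply le_antisymm
  · rw [LinearMap.range_eq_map, ← (Pi.basisFun KK chevE8.Idx).span_eq, Submodule.map_span, Submodule.span_le]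
    rintro _ ⟨_, ⟨i, rfl⟩, rfl⟩
    have hi : code chevE8 i < 248 := lt_of_lt_of_eq (code_lt chevE8 i) N_eq
    have e : Pi.basisFun KK chevE8.Idx i = vm (1 <<< code chevE8 i) :=
      (Pi.basisFun_apply _ _ i).trans (vec_single (D := chevE8) (K := KK) i).symm
    rw [e, mat_spec hi L hL]
    exact col_mem _ hi
  · delta SM
    rw [Submodule.span_le]
    rintro _ ⟨k, hk, rfl⟩
    exact ⟨_, mat_spec hk L hL⟩

/-- the lowest bit of every column -/
noncomputable def ONE : ℕ := pk (fun _ => 1) 248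

/-- the column `q / 256` is added to all columns which have the bit `q % 256` -/
noncomputable def stp (M q : ℕ) : ℕ :=
  Nat.xor M (Nat.mul (Nat.land (Nat.shiftRight M (Nat.mod q 256)) ONE) (fd M (Nat.div q 256)))

theorem fd_stp (M q : ℕ) {k : ℕ} (hk : k < 248) :
    fd (stp M q) k = fd M k ^^^ if (fd M k).testBit (q % 256) then fd M (q / 256) else 0 := by
  have e : stp M q = M ^^^ (((M >>> (q % 256)) &&& pk (fun _ => 1) 248) * fd M (q / 256)) := rfl
  rw [e, land_pk, pk_mul, fd_xor, fd_pk, if_pos hk, fd_bit, Nat.testBit_shiftRight, Nat.add_comm,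
    decide_eq_true (Nat.mod_lt q (by decide)), Bool.true_and]
  · cases M.testBit (256 * k + q % 256)
    · rw [if_neg Bool.false_ne_true, if_neg Bool.false_ne_true, Nat.zero_mul]
    · rw [if_pos rfl, if_pos rfl, Nat.one_mul]
  · intro j
    split_ifs
    · rw [Nat.one_mul]; exact fd_lt _ _
    · rw [Nat.zero_mul]; exact Nat.two_pow_pos _

theorem two_self (v : LK) : v + v = 0 := by
  rw [← two_smul KK, Cfsg.Agent.H876.L64.two_zero, zero_smul]

theorem stp_rank {M q : ℕ} (h1 : q / 256 < 248) (h2 : q % 256 < 248) (h3 : M.testBit q = true) :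
    Module.finrank KK ↥(SM M) = Module.finrank KK ↥(SM (stp M q)) + 1 := by
  have hx : (fd M (q / 256)).testBit (q % 256) = true := by
    rw [fd_bit, Nat.div_add_mod, h3, decide_eq_true (Nat.mod_lt q (by decide))]
    rfl
  have hv : ∀ k < 248, vm (fd (stp M q) k) =
      vm (fd M k) + if (fd M k).testBit (q % 256) then vm (fd M (q / 256)) else 0 := by
    intro k hk
    rw [fd_stp M q hk, vm_xor]
    split_ifs
    · rfl
    · rw [vm_zero]
  obtain ⟨i, hi⟩ := exists_code chevE8 (lt_of_lt_of_eq h2 N_eq.symm)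
  have hn : vm (fd M (q / 256)) ∉ SM (stp M q) := by
    intro h
    have h4 : SM (stp M q) ≤ LinearMap.ker (LinearMap.proj i : LK →ₗ[KK] KK) := by
      delta SM
      rw [Submodule.span_le]
      rintro _ ⟨k, hk, rfl⟩
      show vm (fd (stp M q) k) i = 0
      rw [vm_apply, hi, fd_stp M q hk, Nat.testBit_xor]
      cases hb : (fd M k).testBit (q % 256)
      · rw [if_neg Bool.false_ne_true, Nat.zero_testBit]
        rfl
      · rw [if_pos rfl, hx]
        rfl
    have h5 : vm (fd M (q / 256)) i = 0 := h4 h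
    rw [vm_apply, hi, hx, if_pos rfl] at h5
    exact one_ne_zero h5
  rw [← Submodule.finrank_sup_span_singleton hn]
  refine congrArg (fun U : Submodule KK LK => Module.finrank KK ↥U) (le_antisymm ?_ (sup_le ?_ ?_))
  · delta SM
    rw [Submodule.span_le]
    rintro _ ⟨k, hk, rfl⟩
    have e : vm (fd M k) = vm (fd (stp M q) k) + if (fd M k).testBit (q % 256) then vm (fd M (q / 256)) else 0 := by
      rw [hv k hk, add_assoc, two_self, add_zero]
    rw [e]
    refine Submodule.add_mem_sup (col_mem _ hk) ?_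
    split_ifs
    · exact Submodule.mem_span_singleton_self _
    · exact Submodule.zero_mem _
  · refine Submodule.span_le.2 ?_
    rintro _ ⟨k, hk, rfl⟩
    rw [hv k hk]
    refine Submodule.add_mem _ (col_mem M hk) ?_
    split_ifs
    · exact col_mem M h1
    · exact Submodule.zero_mem _
  · exact (Submodule.span_singleton_le_iff_mem _ _).2 (col_mem M h1)

/-- evaluate a matrix first -/
noncomputable def slt (M q : ℕ) (f : ℕ → Bool) : Bool :=
  frc (Nat.add (Nat.shiftLeft M 16) (Nat.mod q 65536)) fun V => f (Nat.shiftRight V 16)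

theorem slt_eq (M q : ℕ) (f : ℕ → Bool) : slt M q f = f M := by
  delta slt
  rw [frc_eq]
  refine congrArg f ?_
  show (M <<< 16 + q % 65536) >>> 16 = M
  rw [Nat.shiftLeft_eq, Nat.shiftRight_eq_div_pow]
  omega

/-- the elimination with `k` pivots given by `P`; the matrix vanishes at the end unless `z` -/
noncomputable def elm (z : Bool) (P k : ℕ) : ℕ → Bool :=
  Nat.rec (fun M => z || Nat.beq M 0) (fun j ih M => frc (ChevFast.fldG 16 P j) fun q => slt M q fun M =>
    Nat.blt (Nat.div q 256) 248 && Nat.blt (Nat.mod q 256) 248 && Nat.beq (Nat.land (Nat.shiftRight M q) 1) 1 &&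
      ih (stp M q)) k

theorem elm_spec {z : Bool} {P : ℕ} : ∀ k M : ℕ, elm z P k M = true →
    k ≤ Module.finrank KK ↥(SM M) ∧ (z = false → Module.finrank KK ↥(SM M) = k) := by
  intro k
  induction k with
  | zero =>
    intro M h
    refine ⟨Nat.zero_le _, fun hz => ?_⟩
    have h' : (z || Nat.beq M 0) = true := h
    rw [hz, Bool.false_or] at h'
    have e : SM M = ⊥ := by
      delta SM
      rw [Submodule.span_eq_bot]
      rintro _ ⟨k, -, rfl⟩
      rw [Nat.eq_of_beq_eq_true h', fd_zero, vm_zero]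
    rw [e, finrank_bot]
  | succ k ih =>
    intro M h
    have h' : (frc (ChevFast.fldG 16 P k) fun q => slt M q fun M =>
        Nat.blt (Nat.div q 256) 248 && Nat.blt (Nat.mod q 256) 248 && Nat.beq (Nat.land (Nat.shiftRight M q) 1) 1 &&
          elm z P k (stp M q)) = true := h
    rw [frc_eq, slt_eq, Bool.and_eq_true, Bool.and_eq_true, Bool.and_eq_true, Nat.blt_eq, Nat.blt_eq, land_one] at h'
    obtain ⟨⟨⟨h1, h2⟩, h3⟩, h4⟩ := h'
    have h5 : M.testBit (ChevFast.fldG 16 P k) = true := by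
      by_contra h5
      rw [if_neg h5] at h3
      exact Bool.false_ne_true h3
    obtain ⟨h6, h7⟩ := ih _ h4
    rw [stp_rank h1 h2 h5]
    exact ⟨Nat.succ_le_succ h6, fun hz => by rw [h7 hz]⟩

/-- the check of the rank -/
noncomputable def rkS (z : Bool) (c : ℕ) (L : List ℕ) (P k : ℕ) : Bool :=
  L.all (fun s => Nat.blt s 240) && elm z P k (mat c L)

theorem rkS_spec {z : Bool} {c P k : ℕ} {L : List ℕ} (h : rkS z c L P k = true) :
    k ≤ Module.finrank KK ↥(LinearMap.range (brL (vl c L))) ∧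
      (z = false → Module.finrank KK ↥(LinearMap.range (brL (vl c L))) = k) := by
  delta rkS at h
  rw [Bool.and_eq_true, List.all_eq_true] at h
  rw [range_mat fun s hs => Nat.blt_eq.mp (h.1 s hs)]
  exact elm_spec k _ h.2

/-- **the rank of `ad v`** -/
theorem rkS_eq {c P k : ℕ} {L : List ℕ} (h : rkS false c L P k = true) :
    Module.finrank KK ↥(LinearMap.range (brL (vl c L))) = k := (rkS_spec h).2 rfl

/-- **lower bound of the rank of `ad v`** -/
theorem rkS_ge {c P k : ℕ} {L : List ℕ} (h : rkS true c L P k = true) :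
    k ≤ Module.finrank KK ↥(LinearMap.range (brL (vl c L))) := (rkS_spec h).1

end Cfsg.Agent.H664.L34
end

-- part: H664/L34/Vec
section
/-!
# S5917: the vectors of the rank certificates as sums of root vectors (helper664)
-/

set_option autoImplicit false
set_option maxRecDepth 100000

namespace Cfsg.Agent.H664.L34

open Cfsg Cfsg.Lie
open Cfsg.Agent.H939.L64 (KK LK brK brL brL_apply aK)
open Cfsg.Agent.H413.L16 (er hv hr nr rk8)
open Cfsg.Agent.H876.L64 (aK_mul aK_zero aK_add aK_smul)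
open Cfsg.Agent.H201.L34 (gi gj gz aK_gi aK_gj aK_gz qi qj qi_lt qj_lt)
open Cfsg.Agent.H865.L34 (kb kb_true kb_false it0 it0_lt Tf T nd nb HL ER aK_Tf)

/-- the indices of the tensor -/
def sI (m : ℕ) : List ℕ := (List.range 27).filter fun t => m.testBit t

/-- the roots of the tensor -/
def sT (f : ℕ → ℕ) (m : ℕ) : List ℕ := (sI m).map fun t => f (it0 t)

theorem Tf_eq (f : ℕ → ℕ) (m : ℕ) : Tf f m = ((sT f m).map er).sum := by
  unfold Tf sT sI
  generalize List.range 27 = l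
  induction l with
  | nil => rfl
  | cons t l ih =>
    rw [List.map_cons, List.sum_cons, ih]
    cases h : m.testBit t
    · rw [kb_false, zero_smul, zero_add, List.filter_cons_of_neg (by simp [h])]
    · rw [kb_true, one_smul, List.filter_cons_of_pos (by simp [h]), List.map_cons, List.map_cons, List.sum_cons]

theorem T_eq (m : ℕ) : T m = Tf (fun s => s) m := rfl

theorem vl_zero (L : List ℕ) : vl 0 L = (L.map er).sum := by
  unfold vl
  have : hv (fun i : Fin chevE8.rank => if (0 : ℕ).testBit i then (1 : KK) else 0) = 0 := by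
    rw [← vm_hv (by norm_num), vm_zero]
  rw [this, zero_add]

theorem vl_add {c c' : ℕ} (hc : c < 256) (hc' : c' < 256) (L L' : List ℕ) : vl c L + vl c' L' = vl (c ^^^ c') (L ++ L') := by
  have h : c ^^^ c' < 256 := Nat.xor_lt_two_pow (n := 8) hc hc'
  unfold vl
  rw [← vm_hv hc, ← vm_hv hc', ← vm_hv h, vm_xor, List.map_append, List.sum_append]
  abel

/-- the Cartan part of the basis element -/
def cn (n : ℕ) : ℕ := (HL.getD n []).foldr (fun r a => HML.getD r 0 ^^^ a) 0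

theorem hr_sum : ∀ l : List ℕ, (∀ r ∈ l, r < 240) →
    (l.map fun r => hr r).sum = vm (l.foldr (fun r a => HML.getD r 0 ^^^ a) 0) := by
  intro l
  induction l with
  | nil => intro _; rw [List.map_nil, List.sum_nil, List.foldr_nil, vm_zero]
  | cons r l ih =>
    intro h
    rw [List.map_cons, List.sum_cons, List.foldr_cons, vm_xor, ← ih fun x hx => h x (by simp [hx]), hr_mask (h r (by simp))]

theorem cn_lt : ∀ n < 5, cn n < 256 := by decide +kernel

theorem HL_lt : ∀ n < 5, ∀ r ∈ HL.getD n [], r < 240 := by decide +kernel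

theorem nb_eq {n : ℕ} (hn : n < 5) : nb n = vl (cn n) (ER.getD n []) := by
  unfold nb vl
  rw [hr_sum _ (HL_lt n hn), ← vm_hv (cn_lt n hn)]
  rfl

/-- the Cartan part -/
def cd (dm : ℕ) : ℕ := ((List.range 5).filter fun n => dm.testBit n).foldr (fun n a => cn n ^^^ a) 0

/-- the roots -/
def ed (dm : ℕ) : List ℕ := ((List.range 5).filter fun n => dm.testBit n).flatMap fun n => ER.getD n []

theorem nd_eq (dm : ℕ) : nd dm = vl (cd dm) (ed dm) := by
  have key : ∀ l : List ℕ, (∀ n ∈ l, n < 5) → (l.map fun n => kb (dm.testBit n) • nb n).sum =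
      vl ((l.filter fun n => dm.testBit n).foldr (fun n a => cn n ^^^ a) 0)
        ((l.filter fun n => dm.testBit n).flatMap fun n => ER.getD n []) ∧
      ((l.filter fun n => dm.testBit n).foldr (fun n a => cn n ^^^ a) 0) < 256 := by
    intro l
    induction l with
    | nil =>
      intro _
      refine ⟨?_, by simp⟩
      show (0 : LK) = vl 0 []
      rw [vl_zero]
      rfl
    | cons n l ih =>
      intro h
      obtain ⟨h1, h2⟩ := ih fun x hx => h x (by simp [hx])
      have hn := h n (by simp)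
      rw [List.map_cons, List.sum_cons, h1]
      cases hb : dm.testBit n
      · rw [List.filter_cons_of_neg (by simp [hb]), kb_false, zero_smul, zero_add]
        exact ⟨rfl, h2⟩
      · rw [List.filter_cons_of_pos (by simp [hb]), kb_true, one_smul, List.foldr_cons, List.flatMap_cons, nb_eq hn]
        exact ⟨vl_add (cn_lt n hn) h2 _ _, Nat.xor_lt_two_pow (n := 8) (cn_lt n hn) h2⟩
  exact (key _ fun n hn => List.mem_range.1 hn).1

theorem cd_lt (dm : ℕ) (h : dm < 32) : cd dm < 256 := by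
  have : ∀ dm < 32, cd dm < 256 := by decide +kernel
  exact this dm h

/-- the roots of `T + z T` -/
def l2 (m : ℕ) : List ℕ := sT (fun s => s) m ++ sT (fun s => 239 - s) m

/-- the roots of `T + z T + i T + z i T` -/
def l4 (m : ℕ) : List ℕ := l2 m ++ (sT qi m ++ sT (fun s => 239 - qi s) m)

/-- the roots of the sum over `Q₈` -/
def l8 (m : ℕ) : List ℕ :=
  l4 m ++ ((sT qj m ++ sT (fun s => 239 - qj s) m) ++ (sT (fun s => qi (qj s)) m ++ sT (fun s => 239 - qi (qj s)) m))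

theorem aT_z (m : ℕ) : aK gz (T m) = Tf (fun s => 239 - s) m :=
  aK_Tf gz (fun _ hs => hs) (fun _ hs => aK_gz hs) m

theorem aT_i (m : ℕ) : aK gi (T m) = Tf qi m := aK_Tf gi (fun _ hs => hs) (fun _ hs => aK_gi hs) m

theorem aT_zi (m : ℕ) : aK gz (aK gi (T m)) = Tf (fun s => 239 - qi s) m := by
  rw [aT_i]
  exact aK_Tf gz (fun _ hs => qi_lt hs) (fun _ hs => aK_gz hs) m

theorem aT_j (m : ℕ) : aK gj (T m) = Tf qj m := aK_Tf gj (fun _ hs => hs) (fun _ hs => aK_gj hs) m

theorem aT_zj (m : ℕ) : aK gz (aK gj (T m)) = Tf (fun s => 239 - qj s) m := by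
  rw [aT_j]
  exact aK_Tf gz (fun _ hs => qj_lt hs) (fun _ hs => aK_gz hs) m

theorem aT_ij (m : ℕ) : aK gi (aK gj (T m)) = Tf (fun s => qi (qj s)) m := by
  rw [aT_j]
  exact aK_Tf gi (fun _ hs => qj_lt hs) (fun _ hs => aK_gi hs) m

theorem aT_zij (m : ℕ) : aK gz (aK gi (aK gj (T m))) = Tf (fun s => 239 - qi (qj s)) m := by
  rw [aT_ij]
  exact aK_Tf gz (fun _ hs => qi_lt (qj_lt hs)) (fun _ hs => aK_gz hs) m

/-- `T + z T` -/
theorem v2_eq (m : ℕ) : T m + aK gz (T m) = vl 0 (l2 m) := by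
  rw [aT_z, T_eq, Tf_eq, Tf_eq, vl_zero, l2, List.map_append, List.sum_append]

/-- `d + T + z T` -/
theorem vd_eq {dm : ℕ} (hd : dm < 32) (m : ℕ) : nd dm + T m + aK gz (T m) = vl (cd dm) (ed dm ++ l2 m) := by
  rw [add_assoc, v2_eq, nd_eq, vl_add (cd_lt dm hd) (by norm_num), Nat.xor_zero]

/-- `T + z T + i T + z i T` -/
theorem v4_eq (m : ℕ) : T m + aK gz (T m) + aK gi (T m) + aK gz (aK gi (T m)) = vl 0 (l4 m) := by
  rw [v2_eq, aT_zi, aT_i, Tf_eq, Tf_eq, add_assoc, vl_zero, vl_zero, l4, List.map_append, List.map_append, List.sum_append,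
    List.sum_append]

/-- the sum over `Q₈` -/
theorem v8_eq (m : ℕ) : T m + aK gz (T m) + aK gi (T m) + aK gz (aK gi (T m)) + aK gj (T m) + aK gz (aK gj (T m)) +
    aK gi (aK gj (T m)) + aK gz (aK gi (aK gj (T m))) = vl 0 (l8 m) := by
  rw [v4_eq, aT_zij, aT_ij, aT_zj, aT_j, Tf_eq, Tf_eq, Tf_eq, Tf_eq, vl_zero, vl_zero, l8]
  simp only [List.map_append, List.sum_append]
  abel

end Cfsg.Agent.H664.L34
end

private theorem dce_8fc7690723fe : _root_.True := by
  try have : _root_.True := by simp only [_root_.Cfsg.Agent.H664.L34.colR.eq_def]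
  try have : _root_.True := by simp only [_root_.Cfsg.Agent.H664.L34.msk.eq_2]
  try have : _root_.True := by simp only [_root_.Cfsg.Agent.H664.L34.colq.eq_1]
  try have : _root_.True := by simp only [_root_.Cfsg.Agent.H664.L34.mkrow.eq_2]
  try have : _root_.True := by simp only [_root_.Cfsg.Agent.H664.L34.mkrow.eq_def]
  try have : _root_.True := by simp only [_root_.Cfsg.Agent.H664.L34.msk.eq_1]
  try have : _root_.True := by simp only [_root_.Cfsg.Agent.H664.L34.l4.eq_1]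
  try have : _root_.True := by simp only [_root_.Cfsg.Agent.H664.L34.mkrow.eq_1]
  try have : _root_.True := by simp only [_root_.Cfsg.Agent.H664.L34.msk.eq_def]
  try have : _root_.True := by simp only [_root_.Cfsg.Agent.H664.L34.colR.eq_2]
  try have : _root_.True := by simp only [_root_.Cfsg.Agent.H664.L34.colR.eq_1]
  try have : _root_.True := by simp only [_root_.Cfsg.Agent.H664.L34.l2.eq_1]
  try have : _root_.True := by simp only [_root_.Cfsg.Agent.H664.L34.cH.eq_def]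
  try have : _root_.True := by simp only [_root_.Cfsg.Agent.H664.L34.bs.eq_def]
  try have : _root_.True := by simp only [_root_.Cfsg.Agent.H664.L34.bs.eq_2]
  try have : _root_.True := by simp only [_root_.Cfsg.Agent.H664.L34.cH.eq_2]
  try have : _root_.True := by simp only [_root_.Cfsg.Agent.H664.L34.l8.eq_1]
  try have : _root_.True := by simp only [_root_.Cfsg.Agent.H664.L34.cH.eq_1]
  try have : _root_.True := by simp only [_root_.Cfsg.Agent.H664.L34.bs.eq_1]
  exact _root_.True.intro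
end

-- part: H664/L34/C08
section
set_option linter.all false

/-!
# S5917: rank certificates 8 (helper664, generated)
-/

set_option autoImplicit false
set_option maxRecDepth 100000

namespace Cfsg.Agent.H664.L34

open Cfsg.Agent.H939.L64 (KK LK brK brL)

/-- the pivots -/
theorem cert_C08 :
    rkS false 0 (l2 44731050)
      0xba01b202c403c105ad0a1e0b1f0d260e100f30114014461547161718561b5c1c5d222c232d246525662731283229332a342b692e712f723575377a387b397d3a7e3b793e863f87458f4a4f4b504c914d924e53519c529d54a45bab606b616c629563ae646f677368746a6d6eb378c081c582c684c785c88aca8b978c988dd08ed1909b939e949f96d499da9adba2e3a3e4a9e7acb1afb4b0b5b8eab9ebbfeecbd5ccd6cdd7ced8cff0d2dcd3ddd9f2e0f4e1f5e8e9eff1 92 = true ∧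
    rkS true 0 (l4 44731050)
      0xe901e302de03e804c405c106c9084f09500a510b520c530d540e550f3511451248134914461547166a1795189619971a981b991c9a1d9b1e9c1f9d209e219f22a023a124a225a326a427a528a629a72aa82ba92c732d742e712f72307536703781388239843a853b793c883d893e863f87408f4a934b944c914d9256d457d558d659d75ad85bd95cda5ddb5edc5fdd60bf61df62e063e164e265b466e467e568e669e76cb56db26eb376c277c378c07ac57bc67dc77ec88acf 93 = true ∧
    rkS false 0 (l8 85197125)
      0xf101f202e703f0049c05e606dc07da087109720a730b740c750d700e8f0f95119b139d149e159f16ab18b119b21ab31bb41cb522c023c124c225c326c427c528c629c72ac82bc936d437d538d639d73ad83bd93ddb3fdd4ae34be44ce554e960ea61eb62ec63ed64ee8af38bf48cf58df68ef7 58 = true ∧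
    rkS true (cd 9) (ed 9 ++ l2 85197125)
      0x9c0197039b059506f6087f09070a810b840c880d8d0e930f99109e11a212a513a715a916af17b418b819bb1abd1b311cbf1dc21ec51fc721c922cb23cd244125cf26d0272028d229462ad32b482cd52dd72fd930da32dc34dd36de372e38e0394f3ae13b513c333de23e353f5340e342e544e647e7 59 = true ∧
    rkS false 0 (l8 85363525)
      0xf101f202e703f304f405f006dc07da087a097b0a7c0b790c860d8b0e910f97109c11a013a414a515a616ad17b218b619321aba1bbb1cbc1dc01fc420c521c6224223ca24cb25cc2647274829d02ad12bd22dd42ed52fd6339f34db359d3650375139de3adf3be03c533fe243e344e445e54a554de852e95672577359ea5aeb5bec5c755fee607d6180628263ef6489658f68946b956e9a769b7f9e83f584f685f78aa38ca88da9aab5acc3aec8afc9b7d8b8d9bdddcde6 92 = true ∧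
    rkS true (cd 9) (ed 9 ++ l2 85363525)
      0x9d0198039b049c059506f6087f09070a810b840c880d8d0e930f99109e11a212a513a715a916af17b418b819bb1abd1b331cbf1dc21ec51fc721c922cb23cd244325cf26d0274628d22ad32b492cd52dd72e312fd930da32dc34dd36de374f38e0393c3ae13b523de23e5340e342e544e6454847e74be84c554d4e50e956ea577158ec595c5aed5b745dee5e75607d61ef627c6383648766f0678f68696a926cf16e6f72f2767a77f3788679707bf47ef580f7829f85898aa1 93 = true := by
  decide +kernel

theorem u_9_44731050 : Module.finrank KK ↥(LinearMap.range (brL (vl 0 (l2 44731050)))) = 92 :=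
  rkS_eq cert_C08.1

theorem w_9_44731050 : 93 ≤ Module.finrank KK ↥(LinearMap.range (brL (vl 0 (l4 44731050)))) :=
  rkS_ge cert_C08.2.1

theorem u_9_85197125 : Module.finrank KK ↥(LinearMap.range (brL (vl 0 (l8 85197125)))) = 58 :=
  rkS_eq cert_C08.2.2.1

theorem w_9_85197125 : 59 ≤ Module.finrank KK ↥(LinearMap.range (brL (vl (cd 9) (ed 9 ++ l2 85197125)))) :=
  rkS_ge cert_C08.2.2.2.1

theorem u_9_85363525 : Module.finrank KK ↥(LinearMap.range (brL (vl 0 (l8 85363525)))) = 92 :=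
  rkS_eq cert_C08.2.2.2.2.1

theorem w_9_85363525 : 93 ≤ Module.finrank KK ↥(LinearMap.range (brL (vl (cd 9) (ed 9 ++ l2 85363525)))) :=
  rkS_ge cert_C08.2.2.2.2.2

end Cfsg.Agent.H664.L34
end

-- part: H664/L34/C02_mg
section
prune_inst 0x20000000000000000000000000000000
set_option linter.all false

-- part: H664/L34/C02
section
/-!
# S5917: rank certificates 2 (helper664, generated)
-/

set_option autoImplicit false
set_option maxRecDepth 100000

namespace Cfsg.Agent.H664.L34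

open Cfsg.Agent.H939.L64 (KK LK brK brL)

/-- the pivots -/
theorem cert_C02 :
    rkS false 0 (l8 130815)
      0xf101f202e903f304f405f506ef07eb087d097e0a7c0b830c870d8c0e920f98109d11a112a414a715a816ae17b318b719ba1bbd1cbe1dc11ec420c721c822ca24cd25ce27d028d12bd32cd42ed72fd831da32db35dd37de38df3be13ee241e342e445e648e74ce857ea5bed5eee67f081f682f7 58 = true ∧
    rkS true (cd 7) (ed 7 ++ l2 130815)
      0xba01d402c403c004ae05b307f7080609800a820b850c890d8e0e940f9a109f11a312a613a814a9155016b017b518b919bc1abe1bbf1c6c1dc31ec61fc820c9217222cc23ce24cf257726d127d2287b29d32a7e2b692cd62dd82ed92f5a30db31dc325d33dd359536df37e0386139e13b963ce23e97 59 = true ∧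
    rkS false 0 (l8 7077888)
      0xea01dd02e303e004e207d1083c09560a570b590c5c0d600e650f6b10711176127a137d147f15551664176f18701caa1d781e861f87208821ab228b238c248d25ac28ad2aae2baf2c972d982e992fb132b234b335b438b63ab73bb83dba3ebb3fbd40a441a542c043a744c145c247c448c549c74bca4ccb4dcd4ed050d451d552d753da54de58bc5abe5bbf67d268d372db73dc77df79e180eb82ec85ed89ee8eef8fe790e894f09af19be99ff2a3f3a6f4a8f5a9f6c3f7 92 = true ∧
    rkS true (cd 7) (ed 7 ++ l2 7077888)
      0xb701d402b2038707f7080609800a820b850c890d8e0e940f9a109f11a312a613a814a9155016b017b518b919bc1abe1bbf1c6c1dc31ec61fc820c9217222cc23ce24cf257726d127d2287b29d32a7e2b632cd62dd82ed92f3430db31dc33dd359536df37e0383d39e13b963ce23e973f9840e441e5424743e6459b46e7489c499d4ae84ca04da14ea44fe9515356eb57ec585d59ed5bb15cee5fb360ef62b664ba65f067c068c169c46aca6bf16d6f71f2737576f378057983 93 = true ∧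
    rkS false 0 (l8 7091739)
      0xf101ee02e903f304e205f506eb07ea087d097e0a780b830c870d8c0e920f98109d11a112a4133c14a715a816ae17b318b719ba1bbd1cbe1dc11ec41f5c20c721c822ca236024cd25ce27d028d12a642bd32cd42d6b2ed72fd831da32db346f35dd37de38df3a703be13ebb407a41e342e4437f447445e6478648e749884b8b4ce84d8d509751a5529957b458ad5aaa5bed62ef67f068af72b273f277b679b87cf480bc81f682f785bf8fc590cb94d29bd59fdca3e0c3ec 92 = true ∧
    rkS true (cd 7) (ed 7 ++ l2 7091739)
      0xba01d402b303b704b607f7080609800a820b850c890d8e0e940f9a109f11a312a613a814a9155016b017b518b919bc1abe1bbf1c6c1dc31ec61fc820c9217222cc23ce24cf257726d127d2287b29d32a7e2b642cd62dd82ed92f3430db31dc33dd359536df37e0383d39e13b963ce23e973f9840e441e5424743e6459b46e7489c499d4ae84ca04da14ea44fe9515356eb57ec585d59ed5bb15cee5eb260ef628765f067c068c169c46aca6bf16d6f71f2737576f378637983 93 = true ∧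
    rkS false 0 (l8 62557099)
      0xf101f002e903f304f405e806e507e3087a097b0a7c0b790c860d8b0e910f97109c11a0125313a414a515a616ad17b218b619aa1aba1bbb1cbc1dc01eab1fc420c521c622ac23ca24cb25cc26ae27af28b029d02ad12bd22cb12dd42ed52fd630b331b432b533da34db35dc36b737b838b939de3adf3be03cbd3dbe3ebf3fe240c141c242c343c844e445c946c7479f489e49e74acd4bce4ccf4d9b4ed34fd750d851d952dd54e155e65672577359ea5aeb5bec5c755fee607f6180628263ef6489658f68ed6a946b956e9d709a74f283f584f685f78aa38ca88da9 110 = true ∧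
    rkS true (cd 7) (ed 7 ++ l2 62557099)
      0xba01d402c403c104b205ad07f7080609800a820b850c890d8e0e940f9a109f11a312a613a814a9155016b017b518b919bc1abe1bbf1c6c1dc31ec61fc820c9217222cc23ce24cf257726d127d2287b29d32a7e2b692cd62dd82ed92f5830db31dc324733dd345d359536df37e0384b39e13a613b963ce23e973f9840e441e543e64466459b46e7489c499d4ae84ca04da14ea44fe9517c52795386548b559156eb57ec59ed5bb15cee5eaa5fb360ef62b663b7649265f067c068ac6aca6bf16d786e906f87708c71f2738f74ab76f37af47df57ff681d583ae84d788da 111 = true ∧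
    rkS false 0 (l8 62569904)
      0xed01f002e803e404f405f506eb07e3087d097e0a7c0b830c870d8c0e920f98109d11a112a4134714a715a816ae17b318b719ba1a5d1bbd1cbe1dc11ec41f5a20c721c822ca236624cd25ce266127d028d129692bd32cd42d722ed72fd8306c31da32db337535dd367b37de38df397f3a803be13c863ee23f89407741c642c3438f45e6467a48e749854a914cc54d944e8e4f9c51e9529f539a54a655a357ea58b659ab5bb95caa5eee60ad62ef63b065ac67b56bb26df16eb170bc73f276c078f381f682f784c988bf8acc8dd293cf96d699dc9ed9a2e5a5e0b8ec 110 = true ∧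
    rkS true (cd 7) (ed 7 ++ l2 62569904)
      0xb701d402c403c104b605b307f7080609800a820b850c890d8e0e940f9a109f11a312a613a814a9155016b017b518b919bc1abe1bbf1c6c1dc31ec61fc820c9217222cc23ce24cf257726d127d2287b29d32a7e2b692cd62dd82ed92f5a30db31dc325d33dd3444359536df37e0386139e13b963ce23d4b3e973f9840e441e5426643e6459b46e7489c499d4ae84ca04da14ea44fe9517352835387548c559256eb57ec59ed5bb15cee5eb25fab60ef629063ae64ba65f067c068aa6aca6bf16e796f6d708a71f2758f76f378ac7af47cad7df57ff681d584d7869188da 111 = true ∧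
    rkS false 0 (l8 166400)
      0xee019f03f304f4059d06a5087a097b0a7c0b790c860d8b0e910f97109c11a013a4149a15a616ad17b218b619321aba1bbb1cbc1dc01fc420c521c6224223ca24cb25cc2647274829d02ad12bd22dd42ed52fd633da34db35dc3650375139de3adf3be03c533fe243e344e445e549e74a554de852e95672577359ea5aeb5bec5c755f94607d6180628263ef6489658f68f06b956ef174f2769b7f9e83f584f685f78aa38ca88da9aab5acc3aec8afc9b7d8b8d9bdddcde6 92 = true ∧
    rkS true (cd 9) (ed 9 ++ l2 166400)
      0x9d01980395058606f6087f09070a810b840c880d8d0e930f99109e11a212a513a715a916af17b418b819bb1abd1b331cbf1dc21ec51fc721c922cb23cd244325cf26d0274628d22ad32b492cd52dd72e312fd930da32dc34dd36de374f38e0393c3ae13b523de23e5340e342e544e6454847e74be84c554d4e50e956ea577158ec595c5aed5b745dee5e75607d61ef62706383648766f0678f68696a926cf16e6f72f2767a77f3789b79047bf47c9c7ef580f7829f85898aa1 93 = true ∧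
    rkS false 0 (l8 91872688)
      0xed01f002e803e404f405f506e307ea087d097e0a7c0b830c870d8c0e920f98109d11a112a4134714a715a816ae17b318b719ba1a5d1bbd1cbe1dc11ec41f5a20c721c822ca236624cd25ce266127d028d129692bd32cd42d722ed72fd8306c31da32db337535dd367b37de38df397f3a803be13c863ee23f89407741c542c3438f45e6467a48e749854a914cc64d944e8e4f9c51e9529f539a54a655a357b658eb59ab5bb95caa5eee60ad62ef63b065ac67b56bb26df16eb170bc73f276c078f381f682f784c988bf8acc8dd293cf96d699dc9ed9a2e5a5e0b8ec 110 = true ∧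
    rkS true (cd 9) (ed 9 ++ l2 91872688)
      0xb701b302c403c004b605ae06f6087f09070a810b840c880d8d0e930f99109e11a212a513a7144615a916af17b418b819bb1abd1b5c1cbf1dc21ec51fc7205921c922cb23cd246525cf26d0276028d229432ad32b692cd52dd72e712fd930da316b32dc34dd357536de377a38e0397d3ae13b783c4f3de23e863f8740e3417642e544e6458f47e7487c49834be84c914d924e8c50e9519c529d539854a455a156ea58ec5aed5bab5dee5eaa5f7461ef62ad639b647366f067ac6a906cf16db26eb16f9570ba72f277f379c17bf47ef580f782c685c889be8aca8ba08ed1 111 = true ∧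
    rkS false 0 (l8 95682925)
      0xf101f202e703f004e505e606e307dc087109720a730b740c750d700e8f0f95119b129c139d149e159f16ab173218b119b21ab31bb41cb51d421f47204822c023c124c225c326c427c528c629c72ac82bc92d502e51335336d437d538d639d73ad83bd93cda3ddb3fdd43554aa64be44ca44da354e9567b577c597d5a805b825c865f8960ea61eb62ec63ed64ee659168946b976e9a76a07fa583a884a98af38bf48cf58df68ef7aabcacccaed1afd2b7dfb8e0bde2cde8 92 = true ∧
    rkS true (cd 9) (ed 9 ++ l2 95682925)
      0xb20197029c03b105ad06f6087f09070a810b840c880d8d0e930f99109e11a212a513a7143115a916af17b418b819bb1abd1b201cbf1dc21ec51fc721c922cb23cd245725cf26d028d2295c2ad32b5e2cd52dd72fd930da32dc34dd36de374138e0396b3ae13b6d3c463de23e483f6f40e342e5437144e6457347e749754a7a4be84c7c4d794e8650e95295548f56ea58ec5aed5dee606561ef626763aa646966f068ab6cf16e74705572f277f37bf47ef580f783b385b58ab6 93 = true ∧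
    rkS false 0 (l8 95849325)
      0xf101f202e703f304f405f006e507e3087a097b0a7c0b790c860d8b0e910f97109c11a013a414a515a616ad17b218b61aba1bbb1cbc1dc01fc420c521c623ca24cb25cc29d02ad12bd22dd42ed52fd633da34db35dc39de3adf3be03fe244e44de852e959ea5aeb5bec5fee63ef83f584f685f7 58 = true ∧
    rkS true (cd 9) (ed 9 ++ l2 95849325)
      0xb20198029d03b1049c05ad06f6087f09070a810b840c880d8d0e930f99109e11a212a513a7143115a916af17b418b819bb1abd1b331cbf1dc21ec51fc721c922cb23cd245725cf26d0274628d2295c2ad32b5e2cd52dd72fd930da32dc34dd36de374f38e0396b3ae13b6d3de23e533f6f40e342e5 59 = true ∧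
    rkS false 0 (l8 119275975)
      0xf101f202e903f004e705e606dc07da087109720a730b740c750d700e8f0f95119b129c139d149e159f16ab173218b119b21ab31bb41cb51d421f47204822c023c124c225c326c427c528c629c72ac82bc92d502e51335336d437d538d639d73ad83bd93ca63ddb3ea43fdd43554ae34be44ce54da3567b577c597d5a805b825c865f8960ea61eb62ec63ed64ee659168946b976e9a76a07fa583a884a98af38bf48cf58df68ef7aabcacccaed1afd2b7dfb8e0bde2cde8 92 = true ∧
    rkS true (cd 9) (ed 9 ++ l2 119275975)
      0xba019c02c403c1059506f6087f09070a810b840c880d8d0e930f99109e11a212a513a7144615a916af17b418b819bb1abd1b5c1cbf1dc21ec51fc721c922cb23cd246525cf26d0273128d229332ad32b692cd52dd72e712fd930da32dc34dd357536de377a38e0397d3ae13b793de23e863f8740e342e544e6458f47e74a4f4be84c914d924e5350e9529d54a456ea58ec5aed5bab5dee606b61ef62ad63ae646f66f0677368746a516cf16db26eb372f277f378c07bf47ef5 93 = true ∧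
    rkS false 0 (l8 119442375)
      0xf101f202e903f304f405f006dc07da087a097b0a7c0b790c860d8b0e910f97109c11a013a414a515a616ad17b218b61aba1bbb1cbc1dc01fc420c521c623ca24cb25cc29d02ad12bd22dd42ed52fd634db39de3adf3be03fe243e344e445e549e74de859ea5aeb5bec5fee63ef83f584f685f7 58 = true ∧
    rkS true (cd 9) (ed 9 ++ l2 119442375)
      0xba019d02c403c1049c059506f6087f09070a810b840c880d8d0e930f99109e11a212a513a7144615a916af17b418b819bb1abd1b5c1cbf1dc21ec51fc721c922cb23cd246525cf26d0273128d229332ad32b692cd52dd72e712fd930da32dc34dd357536de377a38e0397d3ae13b793de23e863f87 59 = true ∧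
    rkS false 0 (l8 129761775)
      0xf101f202e903f004e705e606e507e3087109720a730b740c750d700e8f0f95119b129c139d149e159f16ab18b119b21ab31bb41cb522c023c124c225c326c427c528c629c72ac82bc936d437d538d639d73ad83bd93cda3ddb3edc3fdd4be460ea61eb62ec63ed64ee8af38bf48cf58df68ef7 58 = true ∧
    rkS true (cd 9) (ed 9 ++ l2 129761775)
      0xba01b202c403c1049c05ad06f6087f09070a810b840c880d8d0e930f99109e11a212a513a7144615a916af17b418b819bb1abd1b5c1cbf1dc21ec51fc721c922cb23cd246525cf26d0273128d229332ad32b692cd52dd72e712fd930da32dc34dd357536de377a38e0397d3ae13b793de23e863f87 59 = true := by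
  decide +kernel

theorem u_7_130815 : Module.finrank KK ↥(LinearMap.range (brL (vl 0 (l8 130815)))) = 58 :=
  rkS_eq cert_C02.1

theorem w_7_130815 : 59 ≤ Module.finrank KK ↥(LinearMap.range (brL (vl (cd 7) (ed 7 ++ l2 130815)))) :=
  rkS_ge cert_C02.2.1

theorem u_7_7077888 : Module.finrank KK ↥(LinearMap.range (brL (vl 0 (l8 7077888)))) = 92 :=
  rkS_eq cert_C02.2.2.1

theorem w_7_7077888 : 93 ≤ Module.finrank KK ↥(LinearMap.range (brL (vl (cd 7) (ed 7 ++ l2 7077888)))) :=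
  rkS_ge cert_C02.2.2.2.1

theorem u_7_7091739 : Module.finrank KK ↥(LinearMap.range (brL (vl 0 (l8 7091739)))) = 92 :=
  rkS_eq cert_C02.2.2.2.2.1

theorem w_7_7091739 : 93 ≤ Module.finrank KK ↥(LinearMap.range (brL (vl (cd 7) (ed 7 ++ l2 7091739)))) :=
  rkS_ge cert_C02.2.2.2.2.2.1

end Cfsg.Agent.H664.L34
end

-- part: H664/L34/C05
section
/-!
# S5917: rank certificates 5 (helper664, generated)
-/

set_option autoImplicit false
set_option maxRecDepth 100000

namespace Cfsg.Agent.H664.L34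

open Cfsg.Agent.H939.L64 (KK LK brK brL)

theorem u_7_62557099 : Module.finrank KK ↥(LinearMap.range (brL (vl 0 (l8 62557099)))) = 110 :=
  rkS_eq cert_C02.2.2.2.2.2.2.1

theorem w_7_62557099 : 111 ≤ Module.finrank KK ↥(LinearMap.range (brL (vl (cd 7) (ed 7 ++ l2 62557099)))) :=
  rkS_ge cert_C02.2.2.2.2.2.2.2.1

theorem u_7_62569904 : Module.finrank KK ↥(LinearMap.range (brL (vl 0 (l8 62569904)))) = 110 :=
  rkS_eq cert_C02.2.2.2.2.2.2.2.2.1

theorem w_7_62569904 : 111 ≤ Module.finrank KK ↥(LinearMap.range (brL (vl (cd 7) (ed 7 ++ l2 62569904)))) :=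
  rkS_ge cert_C02.2.2.2.2.2.2.2.2.2.1

theorem u_9_166400 : Module.finrank KK ↥(LinearMap.range (brL (vl 0 (l8 166400)))) = 92 :=
  rkS_eq cert_C02.2.2.2.2.2.2.2.2.2.2.1

theorem w_9_166400 : 93 ≤ Module.finrank KK ↥(LinearMap.range (brL (vl (cd 9) (ed 9 ++ l2 166400)))) :=
  rkS_ge cert_C02.2.2.2.2.2.2.2.2.2.2.2.1

end Cfsg.Agent.H664.L34
end

-- part: H664/L34/C09
section
/-!
# S5917: rank certificates 9 (helper664, generated)
-/

set_option autoImplicit false
set_option maxRecDepth 100000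

namespace Cfsg.Agent.H664.L34

open Cfsg.Agent.H939.L64 (KK LK brK brL)

theorem u_9_91872688 : Module.finrank KK ↥(LinearMap.range (brL (vl 0 (l8 91872688)))) = 110 :=
  rkS_eq cert_C02.2.2.2.2.2.2.2.2.2.2.2.2.1

theorem w_9_91872688 : 111 ≤ Module.finrank KK ↥(LinearMap.range (brL (vl (cd 9) (ed 9 ++ l2 91872688)))) :=
  rkS_ge cert_C02.2.2.2.2.2.2.2.2.2.2.2.2.2.1

theorem u_9_95682925 : Module.finrank KK ↥(LinearMap.range (brL (vl 0 (l8 95682925)))) = 92 :=
  rkS_eq cert_C02.2.2.2.2.2.2.2.2.2.2.2.2.2.2.1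

theorem w_9_95682925 : 93 ≤ Module.finrank KK ↥(LinearMap.range (brL (vl (cd 9) (ed 9 ++ l2 95682925)))) :=
  rkS_ge cert_C02.2.2.2.2.2.2.2.2.2.2.2.2.2.2.2.1

theorem u_9_95849325 : Module.finrank KK ↥(LinearMap.range (brL (vl 0 (l8 95849325)))) = 58 :=
  rkS_eq cert_C02.2.2.2.2.2.2.2.2.2.2.2.2.2.2.2.2.1

theorem w_9_95849325 : 59 ≤ Module.finrank KK ↥(LinearMap.range (brL (vl (cd 9) (ed 9 ++ l2 95849325)))) :=
  rkS_ge cert_C02.2.2.2.2.2.2.2.2.2.2.2.2.2.2.2.2.2.1

end Cfsg.Agent.H664.L34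
end

-- part: H664/L34/C10
section
/-!
# S5917: rank certificates 10 (helper664, generated)
-/

set_option autoImplicit false
set_option maxRecDepth 100000

namespace Cfsg.Agent.H664.L34

open Cfsg.Agent.H939.L64 (KK LK brK brL)

theorem u_9_119275975 : Module.finrank KK ↥(LinearMap.range (brL (vl 0 (l8 119275975)))) = 92 :=
  rkS_eq cert_C02.2.2.2.2.2.2.2.2.2.2.2.2.2.2.2.2.2.2.1

theorem w_9_119275975 : 93 ≤ Module.finrank KK ↥(LinearMap.range (brL (vl (cd 9) (ed 9 ++ l2 119275975)))) :=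
  rkS_ge cert_C02.2.2.2.2.2.2.2.2.2.2.2.2.2.2.2.2.2.2.2.1

theorem u_9_119442375 : Module.finrank KK ↥(LinearMap.range (brL (vl 0 (l8 119442375)))) = 58 :=
  rkS_eq cert_C02.2.2.2.2.2.2.2.2.2.2.2.2.2.2.2.2.2.2.2.2.1

theorem w_9_119442375 : 59 ≤ Module.finrank KK ↥(LinearMap.range (brL (vl (cd 9) (ed 9 ++ l2 119442375)))) :=
  rkS_ge cert_C02.2.2.2.2.2.2.2.2.2.2.2.2.2.2.2.2.2.2.2.2.2.1

theorem u_9_129761775 : Module.finrank KK ↥(LinearMap.range (brL (vl 0 (l8 129761775)))) = 58 :=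
  rkS_eq cert_C02.2.2.2.2.2.2.2.2.2.2.2.2.2.2.2.2.2.2.2.2.2.2.1

theorem w_9_129761775 : 59 ≤ Module.finrank KK ↥(LinearMap.range (brL (vl (cd 9) (ed 9 ++ l2 129761775)))) :=
  rkS_ge cert_C02.2.2.2.2.2.2.2.2.2.2.2.2.2.2.2.2.2.2.2.2.2.2.2

end Cfsg.Agent.H664.L34
end
end

-- part: H664/L34/C00_mg
section
prune_inst 0x20000000000000000000000000000000
set_option linter.all false

-- part: H664/L34/C00
section
/-!
# S5917: rank certificates 0 (helper664, generated)
-/

set_option autoImplicit false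
set_option maxRecDepth 100000

namespace Cfsg.Agent.H664.L34

open Cfsg.Agent.H939.L64 (KK LK brK brL)

/-- the pivots -/
theorem cert_C00 :
    rkS false 0 (l8 13851)
      0xf101ee02e903f304ba05f506eb07d3087d097e0a780b830c870d8c0e920f98109d11a112a414a715a816ae17b318b71bbd1cbe1dc11ec420c721c822ca24cd25ce27d028d12cd42ed72fd831da32db35dd37de38df3be13ee241e342e445e648e74ce857ea5bed62ef67f073f27cf481f682f7 58 = true ∧
    rkS true (cd 7) (ed 7 ++ l2 13851)
      0xba01d402b303b607f7080609800a820b850c890d8e0e940f9a109f11a312a613a814a9155016b017b518b919bc1abe1bbf1c6c1dc31ec61fc820c9217222cc23ce24cf257726d127d2287b29d32a7e2b642cd62dd82ed92f3430db31dc33dd359536df37e0383d39e13b963ce23e973f9840e441e5 59 = true ∧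
    rkS false 0 (l8 18468)
      0xbd01f202df03b804f407d2087a097b0a7c0b740c860d8b0e910f97109c11a0123c13a414a515a616ad17b218b61aba1bbb1cbc1dc01e5c1fc420c521c6226023ca24cb25cc286429d02ad12bae2c6b2dd42ed52fd6326f33da34db35dc387039de3aa73be03fe2407d417f427843e344e445e54787488849e74b8c4c8d4de85098519952e958aa59ea5aeb5bec5fee63ef67af68f06ef172b373b477b779f380be82bf83f584f685f78fc790cd94d39bd79fdda3e1c3ed 92 = true ∧
    rkS true (cd 7) (ed 7 ++ l2 18468)
      0xae01d402aa03ac07f7080609800a820b850c890d8e0e940f9a109f11a312a613a814a9155016b017b518b919bc1abe1bbf1c6c1dc31ec61fc820c9217222cc23ce24cf257726d127d2287b29d32a7e2b052cd62dd82ed92f5a30db31dc325d33dd359536df37e0386139e13b963ce23e973f9840e441e5426643e6459b46e7489c499d4ae84ca04da14ea44fe9517852835387548c559256eb57ec59ed5bb15cee5eb25fb360ef62b663b764ba65f067c068c169c46aca6bf1 93 = true ∧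
    rkS false 0 (l8 32319)
      0xf101f202e903f304f405f506ee07eb087d097e0a7c0b830c870d8c0e920f98109d11a112a4133c14a715a816ae17b318b719ba1bbd1cbe1dc11ec41f5c20c721c822ca236024cd25ce27d028d12a642bd32cd42d6b2ed72fd831da32db346f35dd37de38df3a703be13ee2407a41e342e4437f447845e6478648e749884b8b4ce84d8d509751bb529955a557ea58ad5aaa5bed62ef67f068af72b273b477b679b880bc81f682f785bf8fc590cb94d29bd59fdca3e0c3ec 92 = true ∧
    rkS true (cd 7) (ed 7 ++ l2 32319)
      0xba01d402b303b604ae07f7080609800a820b850c890d8e0e940f9a109f11a312a613a814a9155016b017b518b919bc1abe1bbf1c6c1dc31ec61fc820c9217222cc23ce24cf257726d127d2287b29d32a7e2b642cd62dd82ed92f5a30db31dc325d33dd359536df37e0386139e13b963ce23e973f9840e441e5426643e6459b46e7489c499d4ae84ca04da14ea44fe9517852835387548c559256eb57ec59ed5bb15cee5eb25faa60ef62ac63b765f067c068c169c46aca6bf1 93 = true ∧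
    rkS false 0 (l8 98496)
      0xef01ed02e803d505da07c4086009610a620b630c640d3c0e6a0f701074118a128b138c148d158e165c17aa186b1c6f1dac1ead1fae20af21b0227a237d247f257828862a872b882cb62db72eb82fb930ba31bb32bc33bd34be35bf38973a983b9940ca41cb42cc43cd44ce45cf46d047d148d249d34ba44ca54da74fde50df51e052e153e258b25ab35bb467c568c771ea72eb73ec75ee77d479d780db82dc85dd8ff090e394e795f19bf39cf49df59ef69ff7a3e9c3f2 92 = true ∧
    rkS true (cd 7) (ed 7 ++ l2 98496)
      0x1d402c403c005aa07f7080609800a820b850c890d8e0e940f9a109f11a312a613a814a9155016b017b518b919bc1abe1bbf1c6c1dc31ec61fc820c9217222cc23ce24cf257726d127d2287b29d32a7e2b692cd62dd82ed930db31dc33dd359536df37e039e13b963ce23e973f9840e441e5425843e6445a459b46e7475d489c499d4ae84b614ca04da14ea44fe9516d526e536f5470550056eb57ec59ed5bb15cee5eb25fb360ef62b663b764ba65f068c16aca6bf171f276f3 93 = true ∧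
    rkS false 0 (l8 112347)
      0xf101ee02e903f304ef05f506ed07eb087d097e0a780b830c870d8c0e920f98109d11a112a4133c14a715a816ae17b318b719ba1bbd1cbe1dc11ec41f5c20c721c822ca236024cd25ce27d028d12a642bd32cd42d6b2ed72fd831da32db346f35dd37de38df3a703be13ee2407a41e342e4437f447445e6478648e749884b8b4ce84d8d509751bb529955a557ea58ad5aaa5bb467f068af72b273f277b679b87cf480bc81f682f785bf8fc590cb94d29bd59fdca3e0c3ec 92 = true ∧
    rkS true (cd 7) (ed 7 ++ l2 112347)
      0xba01d402c403c005b307f7080609800a820b850c890d8e0e940f9a109f11a312a613a814a9155016b017b518b919bc1abe1bbf1c6c1dc31ec61fc820c9217222cc23ce24cf257726d127d2287b29d32a7e2b692cd62dd82ed930db31dc33dd359536df37e039e13b963ce23e973f9840e441e5425843e6445a459b46e7475d489c499d4ae84b614ca04da14ea44fe9516d526e536f5470556456eb57ec59ed5bb15cee5eb25faa60ef62b663b765f068c16aca6bf171f276f3 93 = true ∧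
    rkS false 0 (l8 116964)
      0xef01f202e803df04f405da07d5087a097b0a7c0b740c860d8b0e910f97109c11a013a414a515a616ad17b218b61aba1bbb1cbc1dc01fc420c521c623ca24cb25cc29d02ad12bd22dd42fd634db35dc39de3be03fe243e344e445e549e752e959ea5aeb5bec5fee68f06ef179f383f584f685f7 58 = true ∧
    rkS true (cd 7) (ed 7 ++ l2 116964)
      0xae01d402c403c005aa07f7080609800a820b850c890d8e0e940f9a109f11a312a613a814a9155016b017b518b919bc1abe1bbf1c6c1dc31ec61fc820c9217222cc23ce24cf257726d127d2287b29d32a7e2b692cd62dd82ed92f5a30db31dc325d33dd359536df37e0386139e13b963ce23e973f98 59 = true ∧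
    rkS false 0 (l8 7199989)
      0xf101f202e803ef04f405f506e707ea087d097e0a7c0b830c870d8c0e920f98109d11a112a4135314a715a816ae17b318b719ba1aaa1bbd1cbe1dc11ec41fab20c721c822ca23ac24cd25ce26ad27d028d129af2ab02bd32cd42db12ed72fd830b231da32db33b434b535dd36b637de38df39b83ab93be13cbb3dbc3ee23fbf40c041e342e443c244c345e646c547c648dc49c94acb4bcc4ccf4da54ed24fd550d651e952d954e055e5567b57a658eb597f5a805bed5c865eee5f89608b62ec638e659167f068946b976da36e9a719c739f76a078f381f682f784a9 110 = true ∧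
    rkS true (cd 9) (ed 9 ++ l2 7199989)
      0xb701b302c403c004b605ae06f6087f09070a810b840c880d8d0e930f99109e11a212a513a7144615a916af17b418b819bb1abd1b5c1cbf1dc21ec51fc7205921c922cb23cd246525cf26d0276028d2293c2ad32b692cd52dd72e712fd930da316b32dc34dd357536de377a38e0397d3ae13b783de23e863f8740e3417642e5434f44e6458f47e7487c49834be84c914d924e8c50e9519c529d539854a455a156ea58ec5aed5bab5dee5eaa5f6f61ef62ad639766f067ac68736a8b6cf16db26eb170ba72f2749577f379c17bf47ef580f782c685c889be8aca8ed190a0 111 = true ∧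
    rkS false 0 (l8 10485800)
      0xe501db02e003d805e306d1084109420a320b450c480d4c0e470f51115013551453166717731878197c1a7d1b811c821d721f8f2075227b2390247925802691278629932a942b892d9b2e95309c339e349f36a0379739a23aa33b9a3ca53da63fa9439d4aa44da856c057b259c25ac35bb55cc55dc65fc960cb61cc62bc63cf64d265c468c86bd56cd66ed96fdc76d47ee47fda83e684dd87e78adf8ce88de298e9aaecacebaef0afeeb3f2b7f3b8f1baf4bdf6bef7cdf5 92 = true ∧
    rkS true (cd 9) (ed 9 ++ l2 10485800)
      0xb2018f03b105ad06f6087f09070a810b840c880d8d0e930f99109e11a212a513a7143115a916af17b418b819bb1abd1b201cbf1dc21ec51fc721c922cb23cd245725cf26d028d2295c2ad32b5e2cd52dd72fd930da32dc34dd36de374138e0396b3ae13b6d3c463de23e483f6f40e342e5437144e6457347e749754a7a4be84c7c4d794e8650e952955497559c56ea58ec5aed5dee606561ef626763aa646966f068ab6cf16e74700272f277f37bf47ef580f783b385b58ab6 93 = true ∧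
    rkS false 0 (l8 10652200)
      0xee01db02e503f304f405e306e0087a097b0a7c0b790c860d8b0e910f97109c11a013a414a515a616ad17b218b61aba1bbb1cbc1dc01fc420c521c623ca24cb25cc29d02ad12bd22dd42ed52fd633da35dc39de3adf3fe244e449e74de852e959ea5aeb5bec63ef68f06ef174f283f584f685f7 58 = true ∧
    rkS true (cd 9) (ed 9 ++ l2 10652200)
      0xb20198029d03b105ad06f6087f09070a810b840c880d8d0e930f99109e11a212a513a7143115a916af17b418b819bb1abd1b331cbf1dc21ec51fc721c922cb23cd245725cf26d0274628d2295c2ad32b5e2cd52dd72fd930da32dc34dd36de374f38e0396b3ae13b6d3de23e533f6f40e342e54371 59 = true ∧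
    rkS false 0 (l8 1576368)
      0xe801f002dd03d804f405f506d7087d097e0a7c0b830c870d8c0e920f98109d11a112a414a715a816ae17b318b719ba1bbd1cbe1dc11ec420c721c822ca24cd25ce27d028d12bd32cd431da32db37de38df3be13ee241e342e445e648e751e957ea58eb5bed5eee62ef6df173f278f381f682f7 58 = true ∧
    rkS true (cd 18) (ed 18 ++ l2 1576368)
      0xb701ca02c404b605ac068008090a220b230c260d1a0e1f0f361040112d1230144a154b175619161b601c61206521662459255a275c285d292a2b6a2c1d2e762f77317a327b337d347e3575376b386c393a3b8a3c3d3e8b3f8c41714272434445904647489149924c7c4d834e874f5051a052a153a4 59 = true ∧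
    rkS false 0 (l8 7203566)
      0xef01f202e903f304f405e806eb07ea087a097b0a7c0b790c860d8b0e910f97109c11a0125313a414a515a616ad17b218b619aa1aba1bbb1cbc1dc01eab1fc420c521c622ac23ca24cb25cc26ae27af28b029d02ad12bd22cb12dd42ed52fd630b331b432b533da34db35dc36b737b838b939de3adf3be03cbd3dbe3ebf3fe240c141c242c343e344e445e546c747c848c949e74acd4bce4ccf4da84ed34fd750d851d952dd54e155e6567e577f588059a75aa35bec5c875e895fee608c628e63ed6592679468f06b986d9a6ef1719d739f76a181a983f584f685f7 110 = true ∧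
    rkS true (cd 18) (ed 18 ++ l2 7203566)
      0xba01ca02c403c004b705ae068008090a220b230c260d1a0e1f0f361040112d1230144a154b161d1756192c1b601c61206521662459255a275c285d29432a442b6a2e762f77317a327b337d347e3575376b386c393a3b8a3c4f3d503e8b3f8c4171427245904647489149924c734d834e8751a052a153a45498559d57585bac5ead5fab62aa6379646f679b698f6db66eb3709674c178b17cb27f0781cb82cc84cd85ce869c88d089d18dbd8ebe93c794c895d499de9adf9ee39fe4a2d7a3d8a5daa6dba7a8a9e8afc2b0c3b4eab5ebb8b9bbd5bcd6bfefc5c6c9f0cfed 111 = true ∧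
    rkS false 0 (l8 18911232)
      0xed01d102e403e104ec06e30859095a0a5b0b440c5f0d630e680f6e10741179127c13831484158516661772187719aa1a7e1b7f1c801eab208f22ac249026ae27af28b029922b942cb12e9b30b331b432b5339d359f36b737b838b939a13ba33cbd3dbe3ebf3fa840c141c242c346c747c848c94acd4bce4ccf4ed34fd750d851d953dd55e657c05cc45ec660ca62cc6bd46dd66fdb70df7aea7beb81e586ee88e78bef8de891f097f199e99cf2a0f3a4f5a5f6a6f7bbf4 92 = true ∧
    rkS true (cd 18) (ed 18 ++ l2 18911232)
      0xb301ca02ab04b2068008090a220b230c260d1a0e1f0f361040112d1230144a154b17561b601c61206521662459255a275c285d292a2b6a2e762f77317a327b337d347e3505376b386c393a3b8a3c3d3e8b3f8c41714272434445904647489149924c7c4d834e874f5051a052a153a45498559d57585bac5ead5fae62aa6db66eb76fba73c074c175c478b17f0781cb82cc84cd85ce88d089d18dbd8ebe93c794c895d499de9adf9ee39fe4a2d7a3d8a5daa6dba7a8a9e8afb0 93 = true := by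
  decide +kernel

theorem u_7_13851 : Module.finrank KK ↥(LinearMap.range (brL (vl 0 (l8 13851)))) = 58 :=
  rkS_eq cert_C00.1

theorem w_7_13851 : 59 ≤ Module.finrank KK ↥(LinearMap.range (brL (vl (cd 7) (ed 7 ++ l2 13851)))) :=
  rkS_ge cert_C00.2.1

theorem u_7_18468 : Module.finrank KK ↥(LinearMap.range (brL (vl 0 (l8 18468)))) = 92 :=
  rkS_eq cert_C00.2.2.1

theorem w_7_18468 : 93 ≤ Module.finrank KK ↥(LinearMap.range (brL (vl (cd 7) (ed 7 ++ l2 18468)))) :=
  rkS_ge cert_C00.2.2.2.1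

theorem u_7_32319 : Module.finrank KK ↥(LinearMap.range (brL (vl 0 (l8 32319)))) = 92 :=
  rkS_eq cert_C00.2.2.2.2.1

theorem w_7_32319 : 93 ≤ Module.finrank KK ↥(LinearMap.range (brL (vl (cd 7) (ed 7 ++ l2 32319)))) :=
  rkS_ge cert_C00.2.2.2.2.2.1

end Cfsg.Agent.H664.L34
end

-- part: H664/L34/C01
section
/-!
# S5917: rank certificates 1 (helper664, generated)
-/

set_option autoImplicit false
set_option maxRecDepth 100000

namespace Cfsg.Agent.H664.L34

open Cfsg.Agent.H939.L64 (KK LK brK brL)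

theorem u_7_98496 : Module.finrank KK ↥(LinearMap.range (brL (vl 0 (l8 98496)))) = 92 :=
  rkS_eq cert_C00.2.2.2.2.2.2.1

theorem w_7_98496 : 93 ≤ Module.finrank KK ↥(LinearMap.range (brL (vl (cd 7) (ed 7 ++ l2 98496)))) :=
  rkS_ge cert_C00.2.2.2.2.2.2.2.1

theorem u_7_112347 : Module.finrank KK ↥(LinearMap.range (brL (vl 0 (l8 112347)))) = 92 :=
  rkS_eq cert_C00.2.2.2.2.2.2.2.2.1

theorem w_7_112347 : 93 ≤ Module.finrank KK ↥(LinearMap.range (brL (vl (cd 7) (ed 7 ++ l2 112347)))) :=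
  rkS_ge cert_C00.2.2.2.2.2.2.2.2.2.1

theorem u_7_116964 : Module.finrank KK ↥(LinearMap.range (brL (vl 0 (l8 116964)))) = 58 :=
  rkS_eq cert_C00.2.2.2.2.2.2.2.2.2.2.1

theorem w_7_116964 : 59 ≤ Module.finrank KK ↥(LinearMap.range (brL (vl (cd 7) (ed 7 ++ l2 116964)))) :=
  rkS_ge cert_C00.2.2.2.2.2.2.2.2.2.2.2.1

end Cfsg.Agent.H664.L34
end

-- part: H664/L34/C06
section
/-!
# S5917: rank certificates 6 (helper664, generated)
-/

set_option autoImplicit false
set_option maxRecDepth 100000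

namespace Cfsg.Agent.H664.L34

open Cfsg.Agent.H939.L64 (KK LK brK brL)

theorem u_9_7199989 : Module.finrank KK ↥(LinearMap.range (brL (vl 0 (l8 7199989)))) = 110 :=
  rkS_eq cert_C00.2.2.2.2.2.2.2.2.2.2.2.2.1

theorem w_9_7199989 : 111 ≤ Module.finrank KK ↥(LinearMap.range (brL (vl (cd 9) (ed 9 ++ l2 7199989)))) :=
  rkS_ge cert_C00.2.2.2.2.2.2.2.2.2.2.2.2.2.1

theorem u_9_10485800 : Module.finrank KK ↥(LinearMap.range (brL (vl 0 (l8 10485800)))) = 92 :=
  rkS_eq cert_C00.2.2.2.2.2.2.2.2.2.2.2.2.2.2.1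

theorem w_9_10485800 : 93 ≤ Module.finrank KK ↥(LinearMap.range (brL (vl (cd 9) (ed 9 ++ l2 10485800)))) :=
  rkS_ge cert_C00.2.2.2.2.2.2.2.2.2.2.2.2.2.2.2.1

theorem u_9_10652200 : Module.finrank KK ↥(LinearMap.range (brL (vl 0 (l8 10652200)))) = 58 :=
  rkS_eq cert_C00.2.2.2.2.2.2.2.2.2.2.2.2.2.2.2.2.1

theorem w_9_10652200 : 59 ≤ Module.finrank KK ↥(LinearMap.range (brL (vl (cd 9) (ed 9 ++ l2 10652200)))) :=
  rkS_ge cert_C00.2.2.2.2.2.2.2.2.2.2.2.2.2.2.2.2.2.1

end Cfsg.Agent.H664.L34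
end

-- part: H664/L34/C12
section
/-!
# S5917: rank certificates 12 (helper664, generated)
-/

set_option autoImplicit false
set_option maxRecDepth 100000

namespace Cfsg.Agent.H664.L34

open Cfsg.Agent.H939.L64 (KK LK brK brL)

theorem u_18_1576368 : Module.finrank KK ↥(LinearMap.range (brL (vl 0 (l8 1576368)))) = 58 :=
  rkS_eq cert_C00.2.2.2.2.2.2.2.2.2.2.2.2.2.2.2.2.2.2.1

theorem w_18_1576368 : 59 ≤ Module.finrank KK ↥(LinearMap.range (brL (vl (cd 18) (ed 18 ++ l2 1576368)))) :=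
  rkS_ge cert_C00.2.2.2.2.2.2.2.2.2.2.2.2.2.2.2.2.2.2.2.1

theorem u_18_7203566 : Module.finrank KK ↥(LinearMap.range (brL (vl 0 (l8 7203566)))) = 110 :=
  rkS_eq cert_C00.2.2.2.2.2.2.2.2.2.2.2.2.2.2.2.2.2.2.2.2.1

theorem w_18_7203566 : 111 ≤ Module.finrank KK ↥(LinearMap.range (brL (vl (cd 18) (ed 18 ++ l2 7203566)))) :=
  rkS_ge cert_C00.2.2.2.2.2.2.2.2.2.2.2.2.2.2.2.2.2.2.2.2.2.1

theorem u_18_18911232 : Module.finrank KK ↥(LinearMap.range (brL (vl 0 (l8 18911232)))) = 92 :=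
  rkS_eq cert_C00.2.2.2.2.2.2.2.2.2.2.2.2.2.2.2.2.2.2.2.2.2.2.1

theorem w_18_18911232 : 93 ≤ Module.finrank KK ↥(LinearMap.range (brL (vl (cd 18) (ed 18 ++ l2 18911232)))) :=
  rkS_ge cert_C00.2.2.2.2.2.2.2.2.2.2.2.2.2.2.2.2.2.2.2.2.2.2.2

end Cfsg.Agent.H664.L34
end
end

-- part: H664/L34/C03_mg
section
prune_inst 0x20000000000000000000000000000000
set_option linter.all false

-- part: H664/L34/C03
section
/-!
# S5917: rank certificates 3 (helper664, generated)
-/

set_option autoImplicit false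
set_option maxRecDepth 100000

namespace Cfsg.Agent.H664.L34

open Cfsg.Agent.H939.L64 (KK LK brK brL)

/-- the pivots -/
theorem cert_C03 :
    rkS false 0 (l8 7096356)
      0xea01f202e303e004f405e207df087a097b0a7c0b740c860d8b0e910f97109c11a013a414a515a616ad17b218b61aba1bbb1cbc1dc01fc420c521c623ca24cb25cc29d02ad12bd22dd42ed52fd633da34db35dc39de44e445e549e74de852e95aeb5bec5fee63ef68f06ef179f383f584f685f7 58 = true ∧
    rkS true (cd 7) (ed 7 ++ l2 7096356)
      0xb701d402b203ae05ac07f7080609800a820b850c890d8e0e940f9a109f11a312a613a814a9155016b017b518b919bc1abe1bbf1c6c1dc31ec61fc820c9217222cc23ce24cf257726d127d2287b29d32a7e2b632cd62dd82ed92f5a30db31dc325d33dd359536df37e0386139e13b963ce23e973f98 59 = true ∧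
    rkS false 0 (l8 7110207)
      0xf101f202e903f304f405f506ee07eb087d097e0a7c0b830c870d8c0e920f98109d11a112a414a715a816ae17b318b719ba1bbd1cbe1dc11ec420c721c822ca24cd25ce27d028d12bd32cd42ed72fd831da32db35dd37de38df3be13ee241e342e445e648e74ce857ea5bed62ef67f081f682f7 58 = true ∧
    rkS true (cd 7) (ed 7 ++ l2 7110207)
      0xba01d402b303b704b605ae07f7080609800a820b850c890d8e0e940f9a109f11a312a613a814a9155016b017b518b919bc1abe1bbf1c6c1dc31ec61fc820c9217222cc23ce24cf257726d127d2287b29d32a7e2b642cd62dd82ed92f5a30db31dc325d33dd359536df37e0386139e13b963ce23e97 59 = true ∧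
    rkS false 0 (l8 7176384)
      0xef01ed02e803e004ea05e207d1086009610a620b630c640e6a0f701074118a128b138c148d158e17aa1dac1ead1fae20af21b02cb62db72eb82fb930ba31bb32bc33bd34be35bf40ca41cb42cc43cd44ce45cf46d048d249d34fde50df52e172eb73ec75ee8ff095f19bf39cf49df59ef69ff7 58 = true ∧
    rkS true (cd 7) (ed 7 ++ l2 7176384)
      0xb701d402c403c005b207f7080609800a820b850c890d8e0e940f9a109f11a312a613a814a9155016b017b518b919bc1abe1bbf1c6c1dc31ec61fc820c9217222cc23ce24cf257726d127d2287b29d32a7e2b692cd62dd82ed92f5a30db31dc325d33dd359536df37e0386139e13b963ce23e973f98 59 = true ∧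
    rkS false 0 (l8 34078850)
      0xe901dd02c603e805c406d5084f09500a510b520c530d540e550f32114213471448166a1795189619971a981b991c9a1d9b1e9c1f9d209e219f22a023a124a225a326a427a528a629a72aa82ba92d722e733375367b377c397d3a803b823c863f89438f4a914d9456d457c358d659d75ad85bd95cda5ddb5edc5fbc60de61df62e063e164e265e366e467e568e669e76bb26eb576c07fc583c884c98acc8cd18dd2aaf1abf2acf3adf4aef5aff6b0f7b7ebb8ecbdeecdf0 92 = true ∧
    rkS true (cd 9) (ed 9 ++ l2 34078850)
      0xba02c403c1059506f6087f09070a810b840c880d8d0e930f99109e11a212a513a7144615a916af17b418b819bb1abd1b5c1cbf1dc21ec51fc721c922cb23cd246525cf26d0273128d229332ad32b692cd52dd72e712fd930da32dc34dd357536de377a38e0397d3ae13b793de23e863f8740e342e544e6458f47e74a4f4be84c914d924e5350e9519c529d54a456ea58ec5aed5bab5dee606b61ef62ad63ae646f66f0677368746a016cf16db26eb372f277f378c07bf47ef5 93 = true ∧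
    rkS false 0 (l8 34245250)
      0xee01e902c603f304f405e806d5087a097b0a7c0b790c860d8b0e910f97109c11a013a414a515a616ad17b218b61aba1bbb1cbc1dc01fc420c523ca24cb25cc29d02ad12bd22dd42fd633da34db35dc39de3adf3be03fe243e344e445e549e759ea5aeb5bec63ef68f06ef174f283f584f685f7 58 = true ∧
    rkS true (cd 9) (ed 9 ++ l2 34245250)
      0xba019d02c403c1059506f6087f09070a810b840c880d8d0e930f99109e11a212a513a7144615a916af17b418b819bb1abd1b5c1cbf1dc21ec51fc721c922cb23cd246525cf26d0273128d229332ad32b692cd52dd72e712fd930da32dc34dd357536de377a38e0397d3ae13b793de23e863f8740e3 59 = true ∧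
    rkS false 0 (l8 44564650)
      0xe901e502e003e804db05e306dd084f09500a510b520c530d540e55166a1795189619971a981b991c9a1d9b1e9c1f9d209e219f22a023a124a225a326a427a528a629a72aa82ba956d457d558d659d75ad85bd95cda5edc60de61df63e164e266e468e669e7aaf1abf2acf3adf4aef5aff6b0f7 58 = true ∧
    rkS true (cd 9) (ed 9 ++ l2 44564650)
      0xba01b202c403c105ad06f6087f09070a810b840c880d8d0e930f99109e11a212a513a7144615a916af17b418b819bb1abd1b5c1cbf1dc21ec51fc721c922cb23cd246525cf26d0273128d229332ad32b692cd52dd72e712fd930da32dc34dd357536de377a38e0397d3ae13b793de23e863f8740e3 59 = true ∧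
    rkS false 0 (l8 112102126)
      0xef01f202e903f304f405e806e507e3087a097b0a7c0b790c860d8b0e910f97109c11a0125313a414a515a616ad17b218b619aa1aba1bbb1cbc1dc01eab1fc420c521c622ac23ca24cb25cc26ae27af28b029d02ad12bd22cb12dd42ed52fd630b331b432b533da34db35dc36b737b838b939de3adf3be03cbd3dbe3ebf3fe240c141c242c343c844e445c946c7479f489e49e74acd4bce4ccf4d9d4ed34fd750d851d952dd54e155e65672577359ea5aeb5bec5c755fee607f6180628263ed6489658f68f06a946b956ef1709a749b83f584f685f78aa38ca88da9 110 = true ∧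
    rkS true (cd 18) (ed 18 ++ l2 112102126)
      0xba01ca02c403c104b205ad068008090a220b230c260d190e1e0f361040112c1330144a154b161f1756182d1b601c61206521662457255827462847295c2a5d2b6a2e762f77317a327b337d347e3575374f3850396b3a6c3b8a3c3d3e8b3f8c4142437144724590489149924c7c4d794e8651a052a153a45497559c595a5bac5eab5fae627863aa6487678f689d6db66eb76f9b709873c074b17f0781cb82cc83b384cd85ce88d089d18dbb8ebc93c594c695d499de9adf9ee39fe4a2d5a3d6a5a6a7daa8dba9e8afc7b0c8b4eab5ebb8d7b9d8bdbebfefc2c3c9f0cfec 111 = true ∧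
    rkS false 0 (l8 113467392)
      0xeb01ce02df03c104cc05c806ea07b508560a580b5a0c5d0d610e660f6c10721177127b137e147f15801baa20ab24ac27ad29ae2bb02eb131b233b337b639b73bb93cba3ebc3fbe41c045c346c448c64aca4ed14fd451d652d853db55e481ec84ed88ee8def93f099f19ef2a2f3a5f4a7f5a9f7 58 = true ∧
    rkS true (cd 18) (ed 18 ++ l2 113467392)
      0xae01ca02c104c0068008090a220b230c260d160f361040111d121e131f144a154b1756191a1b601c612065216624252729282a2b6a2c2d2e762f77317a327b337d347e35743757385839593a5a3b8a3c5c3d5d3e8b3f8c4143424445904647489149924c674d684e694f71507251a052a153a45405 59 = true ∧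
    rkS false 0 (l8 113467824)
      0xeb01f002e803d804d605ce06ea07c9086509660a670b680c690d6a0e440f6c108f11901291139214931594165a17ab18ac19ad1aae1baf1cb01e72207422772479267e277f288029832b852cc02dc12ec22fc330c431c532c633c734c835be36ca37cb38cc39cd3bcf3cd03dd13ed23fd3419b469d489f4aa14ca34ea84fe350e451e552e653e757b15cb35eb560b762b96bd76dec6eed6fee70ef7ad481d986db88dd8bdf8de195f296f397f498f599f69af7a5e9bbf1 92 = true ∧
    rkS true (cd 18) (ed 18 ++ l2 113467824)
      0xae01ca02c403c104c0068008090a220b230c260f3610401213144a154b1756191a1b601c611e1f2065216624252729282a2b6a2c2d2e762f77317a327b337d347e35753739383a3b8a3c3d3e8b3f8c4143424445904647489149924c4d4f5051a052a153a45759585a5bac5c5d5ead626367686b6c6db66eb76fba7172738378797c747f0781cb82cc84cd85ce868788d089d18d8e939495d4979899de9adf9c9d9ee39fe4a2a3a5a7a6a8a9e8afb0b2b3b4eab5ebb8b9bbbd 93 = true ∧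
    rkS false 0 (l8 115043328)
      0xeb01dd02df03c304f405f506ea07ce087d097e0a7c0b830c870d8c0e920f98109d11a112a4134414a715a816ae17b318b719ba1a5a1bbd1cbe1dc11ec420c721c822ca24cd266627d028d129682bd32cd42ed72fd8307231da32db337435b0367737de38a339793be13c7f3d803ee23f8541e342e445e6468f48e74a904ce84e944f9b51e9539f57c25bed5cab5eee60ac62ef67f06bb16df16fb570b973f278f37ac081f682f786c688c98bcc8dcf97d699d9a5e5bbec 92 = true ∧
    rkS true (cd 18) (ed 18 ++ l2 115043328)
      0xb701ca02c104c005ae068008090a220b230c260d160f361040111d121e131f144a154b17561b601c612065216624252728292a2b6a2e762f77317a327b337d347e35743757385839593a5a3b8a3c5c3d5d3e8b3f8c4142434445904647489149924c674d684e694f71507251a052a153a4546e558f5bac5ead5fab6b6c6db66fba70aa75c47f0781cb82cc84cd85ce88d089d18daf8eb0939495d496b197b298b399de9adf9ee39fe4a2c2a3c3a5c5a6c6a7c7a8c8a9e8b4ea 93 = true ∧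
    rkS false 0 (l8 115043760)
      0xeb01f002e803d804f405f506ea07dd087d097e0a7c0b830c870d8c0e920f98109d11a112a414a715a816ae17b318b719ba1bbd1cbe1dc11ec420c721c822ca24cd25ce27d028d12bd32cd42ed731da32db37de38df3be13ee241e342e445e648e751e95bed5eee62ef6df173f278f381f682f7 58 = true ∧
    rkS true (cd 18) (ed 18 ++ l2 115043760)
      0xb701ca02c403c104c005ae068008090a220b230c260d1a0e1f0f361040112d1230144a154b175619161b601c61206521662459255a275c285d292a2b6a2c1d2e762f77317a327b337d347e3575376b386c393a3b8a3c3d3e8b3f8c41714272434445904647489149924c7c4d834e874f5051a052a1 59 = true ∧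
    rkS false 0 (l8 132378624)
      0xed01d102e403e104ec05eb06ea07c80859095a0a5b0b440c5f0d630e680f6e10741179127c13831484158516661772187719aa1a7e1b7f1c801eab208f22ac249026ae27af28b029922b942cb12e9b30b331b432b5339d359f36b737b838b939a13ba33cbd3dbe3ebf3fa840c141c242c346c748c94acd4bce4ccf4ed34fd750d851d953dd55e657c05cc45ec660ca62cc6bd46dd66fdb70df7ae381e586ee88e78bef8de891f097f199e99cf2a0f3a4f5a5f6a6f7bbf4 92 = true ∧
    rkS true (cd 18) (ed 18 ++ l2 132378624)
      0xb301ca02c103ae04c0068008090a220b230c260d1a0e1f0f361040112d1230144a154b17561b601c61206521662459255a275c285d292a2b6a2e762f77317a327b337d347e3574376b386c393a3b8a3c3d3e8b3f8c41714272434445904647489149924c7c4d834e874f5051a052a153a45498559d57585bac5ead5fab62aa6db66eb76fba73b275c478b17f0781cb82cc84cd85ce88d089d18dbd8ebe93c794c895d499de9adf9ee39fe4a2d7a3d8a5daa6dba7a8a9e8afb0 93 = true := by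
  decide +kernel

theorem u_7_7096356 : Module.finrank KK ↥(LinearMap.range (brL (vl 0 (l8 7096356)))) = 58 :=
  rkS_eq cert_C03.1

theorem w_7_7096356 : 59 ≤ Module.finrank KK ↥(LinearMap.range (brL (vl (cd 7) (ed 7 ++ l2 7096356)))) :=
  rkS_ge cert_C03.2.1

theorem u_7_7110207 : Module.finrank KK ↥(LinearMap.range (brL (vl 0 (l8 7110207)))) = 58 :=
  rkS_eq cert_C03.2.2.1

theorem w_7_7110207 : 59 ≤ Module.finrank KK ↥(LinearMap.range (brL (vl (cd 7) (ed 7 ++ l2 7110207)))) :=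
  rkS_ge cert_C03.2.2.2.1

theorem u_7_7176384 : Module.finrank KK ↥(LinearMap.range (brL (vl 0 (l8 7176384)))) = 58 :=
  rkS_eq cert_C03.2.2.2.2.1

theorem w_7_7176384 : 59 ≤ Module.finrank KK ↥(LinearMap.range (brL (vl (cd 7) (ed 7 ++ l2 7176384)))) :=
  rkS_ge cert_C03.2.2.2.2.2.1

end Cfsg.Agent.H664.L34
end

-- part: H664/L34/C07
section
/-!
# S5917: rank certificates 7 (helper664, generated)
-/

set_option autoImplicit false
set_option maxRecDepth 100000

namespace Cfsg.Agent.H664.L34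

open Cfsg.Agent.H939.L64 (KK LK brK brL)

theorem u_9_34078850 : Module.finrank KK ↥(LinearMap.range (brL (vl 0 (l8 34078850)))) = 92 :=
  rkS_eq cert_C03.2.2.2.2.2.2.1

theorem w_9_34078850 : 93 ≤ Module.finrank KK ↥(LinearMap.range (brL (vl (cd 9) (ed 9 ++ l2 34078850)))) :=
  rkS_ge cert_C03.2.2.2.2.2.2.2.1

theorem u_9_34245250 : Module.finrank KK ↥(LinearMap.range (brL (vl 0 (l8 34245250)))) = 58 :=
  rkS_eq cert_C03.2.2.2.2.2.2.2.2.1

theorem w_9_34245250 : 59 ≤ Module.finrank KK ↥(LinearMap.range (brL (vl (cd 9) (ed 9 ++ l2 34245250)))) :=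
  rkS_ge cert_C03.2.2.2.2.2.2.2.2.2.1

theorem u_9_44564650 : Module.finrank KK ↥(LinearMap.range (brL (vl 0 (l8 44564650)))) = 58 :=
  rkS_eq cert_C03.2.2.2.2.2.2.2.2.2.2.1

theorem w_9_44564650 : 59 ≤ Module.finrank KK ↥(LinearMap.range (brL (vl (cd 9) (ed 9 ++ l2 44564650)))) :=
  rkS_ge cert_C03.2.2.2.2.2.2.2.2.2.2.2.1

end Cfsg.Agent.H664.L34
end

-- part: H664/L34/C14
section
/-!
# S5917: rank certificates 14 (helper664, generated)
-/

set_option autoImplicit false
set_option maxRecDepth 100000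

namespace Cfsg.Agent.H664.L34

open Cfsg.Agent.H939.L64 (KK LK brK brL)

theorem u_18_112102126 : Module.finrank KK ↥(LinearMap.range (brL (vl 0 (l8 112102126)))) = 110 :=
  rkS_eq cert_C03.2.2.2.2.2.2.2.2.2.2.2.2.1

theorem w_18_112102126 : 111 ≤ Module.finrank KK ↥(LinearMap.range (brL (vl (cd 18) (ed 18 ++ l2 112102126)))) :=
  rkS_ge cert_C03.2.2.2.2.2.2.2.2.2.2.2.2.2.1

theorem u_18_113467392 : Module.finrank KK ↥(LinearMap.range (brL (vl 0 (l8 113467392)))) = 58 :=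
  rkS_eq cert_C03.2.2.2.2.2.2.2.2.2.2.2.2.2.2.1

theorem w_18_113467392 : 59 ≤ Module.finrank KK ↥(LinearMap.range (brL (vl (cd 18) (ed 18 ++ l2 113467392)))) :=
  rkS_ge cert_C03.2.2.2.2.2.2.2.2.2.2.2.2.2.2.2.1

theorem u_18_113467824 : Module.finrank KK ↥(LinearMap.range (brL (vl 0 (l8 113467824)))) = 92 :=
  rkS_eq cert_C03.2.2.2.2.2.2.2.2.2.2.2.2.2.2.2.2.1

theorem w_18_113467824 : 93 ≤ Module.finrank KK ↥(LinearMap.range (brL (vl (cd 18) (ed 18 ++ l2 113467824)))) :=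
  rkS_ge cert_C03.2.2.2.2.2.2.2.2.2.2.2.2.2.2.2.2.2.1

end Cfsg.Agent.H664.L34
end

-- part: H664/L34/C15
section
/-!
# S5917: rank certificates 15 (helper664, generated)
-/

set_option autoImplicit false
set_option maxRecDepth 100000

namespace Cfsg.Agent.H664.L34

open Cfsg.Agent.H939.L64 (KK LK brK brL)

theorem u_18_115043328 : Module.finrank KK ↥(LinearMap.range (brL (vl 0 (l8 115043328)))) = 92 :=
  rkS_eq cert_C03.2.2.2.2.2.2.2.2.2.2.2.2.2.2.2.2.2.2.1

theorem w_18_115043328 : 93 ≤ Module.finrank KK ↥(LinearMap.range (brL (vl (cd 18) (ed 18 ++ l2 115043328)))) :=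
  rkS_ge cert_C03.2.2.2.2.2.2.2.2.2.2.2.2.2.2.2.2.2.2.2.1

theorem u_18_115043760 : Module.finrank KK ↥(LinearMap.range (brL (vl 0 (l8 115043760)))) = 58 :=
  rkS_eq cert_C03.2.2.2.2.2.2.2.2.2.2.2.2.2.2.2.2.2.2.2.2.1

theorem w_18_115043760 : 59 ≤ Module.finrank KK ↥(LinearMap.range (brL (vl (cd 18) (ed 18 ++ l2 115043760)))) :=
  rkS_ge cert_C03.2.2.2.2.2.2.2.2.2.2.2.2.2.2.2.2.2.2.2.2.2.1

theorem u_18_132378624 : Module.finrank KK ↥(LinearMap.range (brL (vl 0 (l8 132378624)))) = 92 :=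
  rkS_eq cert_C03.2.2.2.2.2.2.2.2.2.2.2.2.2.2.2.2.2.2.2.2.2.2.1

theorem w_18_132378624 : 93 ≤ Module.finrank KK ↥(LinearMap.range (brL (vl (cd 18) (ed 18 ++ l2 132378624)))) :=
  rkS_ge cert_C03.2.2.2.2.2.2.2.2.2.2.2.2.2.2.2.2.2.2.2.2.2.2.2

end Cfsg.Agent.H664.L34
end
end

-- part: H550/L34/KillFin_mg
section
set_option linter.all false
open scoped Cfsg.Agent.FastGrp

-- part: H664/L34/C04
section
/-!
# S5917: rank certificates 4 (helper664, generated)
-/

set_option autoImplicit false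
set_option maxRecDepth 100000

namespace Cfsg.Agent.H664.L34

open Cfsg.Agent.H939.L64 (KK LK brK brL)

/-- the pivots -/
theorem cert_C04 :
    rkS false 0 (l8 7190235)
      0xf101ee02e903f304ef05f506ed07eb087d097e0a780b830c870d8c0e920f98109d11a112a414a715a816ae17b318b719ba1bbd1cbe1dc11ec420c721c822ca24cd25ce27d028d12bd32cd42ed72fd831da32db35dd37de38df3be13ee241e342e445e648e74ce857ea67f073f27cf481f682f7 58 = true ∧
    rkS true (cd 7) (ed 7 ++ l2 7190235)
      0xba01d402c403c004b705b307f7080609800a820b850c890d8e0e940f9a109f11a312a613a814a9155016b017b518b919bc1abe1bbf1c6c1dc31ec61fc820c9217222cc23ce24cf257726d127d2287b29d32a7e2b692cd62dd82ed92f5a30db31dc325d33dd359536df37e0386139e13b963ce23e97 59 = true ∧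
    rkS false 0 (l2 7194852)
      0xb701b202c403c005ae0a1e0b1f0c1a0d260e230f30102d114012361446154718561b5c1c5d2059215a24652566276028612b692e712f72316b326c3575377a387b397d3a7e3b783e863f8741764277458f486349834c914d924e8c519c529d539854a455a15bab5eaa62ad67ac6eb370ba73b179c17cb681c582c684c785c888bd89be8aca8dd08ed193cd94ce96d499da9adb9ed79fd8a2e3a3e4a5dea6dfa9e7b8eab9ebbfeec9edcff0d2efd9f2dcf1e0f4e1f5e5f3 92 = true ∧
    rkS true 0 (l4 7194852)
      0xef01f202e803df04c405c007ea087109720a730b740c750d600e8f0f951055119b129c139d149e159f16ab17aa18b119b21ab31bb41cb51dac1ead1fae20af21b022b723c124c225c3269827c528c629c72ac82bc92cb62d962eb82fb930ba31bb32bc33bd34be35bf36d437d538d639d73ad83bd93cda3ddb3edc3fdd40ca41cb42cc43cd44ce45cf46d047d148d249d34ae34be44ce54de64ee74fde507e51e052e153e254e9576b586c5b6e5e6f61eb62ec63ed64ee657d 93 = true ∧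
    rkS false 0 (l2 7208703)
      0xba01b302c403c004b705ae0a1e0b1f0c1a0d260e230f30102d114012361446154718561b5c1c5d2059215a24652566276028612b692e712f72316b326c3575377a387b397d3a7e3b783e863f8741764277458f487049834c914d924e8c519c529d539854a455a15bab5eaa62ad67ac6db273b179c17cb681c582c684c785c888bd89be8aca8dd08ed193cd94ce96d499da9adb9ed79fd8a2e3a3e4a5dea6dfa9e7b8eab9ebbfeec9edcff0d2efd9f2dcf1e0f4e1f5e5f3 92 = true ∧
    rkS true 0 (l4 7208703)
      0xf101f202e903ef04c405c006eb07ea087109720a730b740c750d700e8f0f951055119b129c139d149e159f16ab17aa18b119b21ab31bb41cb51dac1ead1fae20af21b022b723c124c225c3269827c528c629c72ac82bc92cb62d962eb82fb930ba31bb32bc33bd34be35bf36d437d538d639d73ad83bd93cda3ddb3edc3fdd40ca41cb42cc43cd44ce45cf46d047d148d249d34ae34be44ce54de64ee74fde50df51e052e153e254e8576b586c5b6e5e6f617e62ec63ed64ee 93 = true ∧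
    rkS false 0 (l2 129928175)
      0xba01b202c403c1049c05ad0a1e0b1f0d260e100f30114014461547161718561b5c1c5d222c232d246525662731283229332a342b692e712f723575377a387b397d3a7e3b793e863f87458f4a4f4b504c914d924e53529d54a45bab606b616c629563ae646f677368746a6d6eb378c081c582c684c785c88aca8b978c988dd08ed1909b939e949f96d499da9adba2e3a3e4a9e7acb1afb4b0b5b8eab9ebbfeecbd5ccd6cdd7ced8cff0d2dcd3ddd9f2e0f4e1f5e8e9eff1 92 = true ∧
    rkS true 0 (l4 129928175)
      0xf101f202e903f004c405c106c907e3087109720a730b740c750d700e8f0f95119b129c139d149e159f16ab173518b119b21ab31bb41cb51d451e481f492046214722c023a124c225c326a427c528c629c72ac82ba92c512d522e4f2f50305336d437d538d639d73ad83bd93cda3ddb3edc3fdd40554a994be44ce54de64ee7566b5781588259845a855b795c885d895e865f8760ea61eb62ec63ed64ee65936694679168926c9a6d976e9876a277a378a07aa57ba67da77ea8 93 = true ∧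
    rkS false 0 (l8 432)
      0xe801f002d803c904d606d7086509660a670b680c690d6a0e440f54108f11901291139214931594165a17ab18ac19ad1aae1baf1cb01e72207422772479267e277f288029832b852cc02dc12ec22fc330c431c532c633c734c835be36ca37cb38cc39cd3ace3bcf3cd03dd13ed23fd3419b469d489f4aa14ca34ea84fe350e451e552e653e757b15cb35eb560b762b96bea6ceb6dec6eed6fee70ef7ad481d986db88dd8bdf8de195f296f397f498f599f69af7a5e9bbf1 92 = true ∧
    rkS true (cd 18) (ed 18 ++ l2 432)
      0xac01ca02c40483068008090a220b230c260f3610401213144a154b1756191a1b601c611e1f2065216624252729282a2b6a2c2d2e762f77317a327b337d347e35753739383a3b8a3c3d3e8b3f8c4143424445904647489149924c4d4f5051a052a153a45759585a5c5d5ead5fae626367686b6c6db66eb76fba717273c074c178797c057f0781cb82cc84cd85ce868788d089d18d8e939495d4979899de9adf9c9d9ee39fe4a2a3a5a7a6a8a9e8afb0b2b3b4eab5ebb8b9bbbd 93 = true ∧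
    rkS false 0 (l8 1575936)
      0xb701dd02c304f405f506c2087d097e0a7c0b830c870d8c0e920f98109d11a112a4134414a715a816ae17b318b019ba1a5a1bbd1cbe1dc11ec420c721c822ca24cd25ce266627d028d129682bd32cd42ed72fd8307231da32db337435a3367737de38df39793be13c7f3d803ee23f8541e342e445e6468f48e74a904ce84e944f9b51e9539f57ea58eb5bed5cab5eee60ac62ef67f06bb16df16fb570b973f278f37ac081f682f786c688c98bcc8dcf97d699d9a5e5bbec 92 = true ∧
    rkS true (cd 18) (ed 18 ++ l2 1575936)
      0xb701ca04b605ab068008090a220b230c260d160f361040111d121e131f144a154b17561b601c612065216624252728292a2b6a2e762f77317a327b337d347e356e3757385839593a5a3b8a3c5c3d5d3e8b3f8c4142434445904647489149924c674d684e694f71507251a052a153a45402558f5bac5ead5fae6b6c6fba70aa73c074c175c47f0781cb82cc84cd85ce88d089d18daf8eb0939495d496b197b298b399de9adf9ee39fe4a2c2a3c3a5c5a6c6a7c7a8c8a9e8b4ea 93 = true ∧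
    rkS false 0 (l8 18911664)
      0xed01f002e803e404ec05d106e3086509660a670b680c690d6a0f6e108f1190129113921493159417ab18ac19ad1aae1baf1cb02cc02dc12ec22fc330c431c532c633c734c835c936ca37cb38cc39cd3ace3bcf3cd03ed23fd351e552e653e76bea6ceb6fee70ef95f296f397f498f599f69af7 58 = true ∧
    rkS true (cd 18) (ed 18 ++ l2 18911664)
      0xb301ca02c404b205ac068008090a220b230c260d1a0e1f0f361040112d1230144a154b175619161b601c61206521662459255a275c285d292a2b6a2c1d2e762f77317a327b337d347e3575376b386c393a3b8a3c3d3e8b3f8c41714272434445904647489149924c7c4d834e874f5051a052a153a4 59 = true ∧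
    rkS false 0 (l8 20487168)
      0xed01dd02e403e104f405f506e3087d097e0a7c0b830c870d8c0e920f98109d11a112a414a715a816ae17b318b719ba1bbd1cbe1dc11ec420c721c822ca24cd25ce27d028d12bd32cd42ed72fd831da32db37de38df3ee245e648e74ce851e957ea58eb5eee62ef67f06df173f278f381f682f7 58 = true ∧
    rkS true (cd 18) (ed 18 ++ l2 20487168)
      0xb701ca02b304b605ab068008090a220b230c260d1a0e1f0f361040112d1230144a154b175619161b601c61206521662459255a275c285d292a2b6a2c1d2e762f77317a327b337d347e356e376b386c393a3b8a3c3d3e8b3f8c41714272434445904647489149924c7c4d834e874f5051a052a153a4 59 = true ∧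
    rkS false 0 (l2 20487600)
      0xb701b302c404b605ac0a1e0b1f0c1a0d260e230f30102d114012361446154718561b5c1c5d2059215a24652566276028612b692e712f72316b326c3575377a387b397d3a7e3b6e3e863f8741764277458f487c49834c914d924e8c519c529d539854a455a15bab5eaa62ad63ae6db270ba73b178c079c181c582c684c785c888bd89be8aca8dd08ed193cd94ce96d499da9adb9ed79fd8a2e3a3e4a5dea6dfa9e7b8eab9ebbfeec9edcff0d2efd9f2dcf1e0f4e1f5e5f3 92 = true ∧
    rkS true 0 (l4 20487600)
      0xe801f002c903e404c405b706e3086509660a670b680c690d6a0e230f54108f1190129113921493159417ab18ac19ad1aae1baf1cb01e562059215a242527602861292a2b632cc02dc12ec22fc330b631c532c633c734c836ca37cb38cc39cd3ace3bcf3cd03dd13ed23fd34176427743444579467d477e487c49834a4b4c8a4e8c4fb351e552e653e755a157585c5d5eaa6bea6ceb6dec6eed6fee70ef717273b175807a7b7f5081b882b9848586ba88bd89be8d8e95f296f3 93 = true ∧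
    rkS false 0 (l8 132379056)
      0xed01f002e803e404ec05eb06ea07d1086509660a670b680c690d6a0f6e108f1190129113921493159417ab18ac19ad1aae1baf1cb02cc02dc12ec22fc330c431c532c633c734c835c936ca37cb38cc39cd3ace3bcf3cd03ed23fd34fe351e552e653e76fee70ef95f296f397f498f599f69af7 58 = true ∧
    rkS true (cd 18) (ed 18 ++ l2 132379056)
      0xb301ca02c403c104c005ae068008090a220b230c260d1a0e1f0f361040112d1230144a154b175619161b601c61206521662459255a275c285d292a2b6a2c1d2e762f77317a327b337d347e3575376b386c393a3b8a3c3d3e8b3f8c41714272434445904647489149924c7c4d834e874f5051a052a1 59 = true ∧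
    rkS false 0 (l8 133954560)
      0xed01dd02e403e104f405f506eb07ea087d097e0a7c0b830c870d8c0e920f98109d11a112a414a715a816ae17b318b719ba1bbd1cbe1dc11ec420c721c822ca24cd25ce27d028d12bd32cd42ed72fd831da32db37de38df3ee241e345e648e74ce851e95eee62ef67f06df173f278f381f682f7 58 = true ∧
    rkS true (cd 18) (ed 18 ++ l2 133954560)
      0xb701ca02c103b304c005ae068008090a220b230c260d1a0e1f0f361040112d1230144a154b175619161b601c61206521662459255a275c285d292a2b6a2c1d2e762f77317a327b337d347e3574376b386c393a3b8a3c3d3e8b3f8c41714272434445904647489149924c7c4d834e874f5051a052a1 59 = true ∧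
    rkS false 0 (l2 133954992)
      0xb701b302c403c104c005ae0a1e0b1f0c1a0d260e230f30102d114012361446154718561b5c1c5d2059215a24652566276028612b692e712f72316b326c3575377a387b397d3a7e3b793e863f8741764277458f487c49834c914d924e8c519c529d539854a455a15bab5eaa62ad63ac6db270ba73b178b681c582c684c785c888bd89be8aca8dd08ed193cd94ce96d499da9adb9ed79fd8a2e3a3e4a5dea6dfa9e7b8eab9ebbfeec9edcff0d2efd9f2dcf1e0f4e1f5e5f3 92 = true ∧
    rkS true 0 (l4 133954992)
      0xeb01f002e803e404c405c106ea07c9086509660a670b680c690d6a0e230f6c108f1190129113921493159417ab18ac19ad1aae1baf1cb01e562059215a242527602861292a2b632cc02db72ec22fc330b631c532c633c734c836ca37cb38cc39cd3ace3bcf3cd03dd13ed23fd34176427743444579467d477e487c49834a4b4c8a4e8c4fe351e552e653e755a157585c5d5eaa6bb36dec6eed6fee70ef717273b175807a7b7f5481b882b9848586ba88bd89be8d8e95f296f3 93 = true := by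
  decide +kernel

theorem u_7_7190235 : Module.finrank KK ↥(LinearMap.range (brL (vl 0 (l8 7190235)))) = 58 :=
  rkS_eq cert_C04.1

theorem w_7_7190235 : 59 ≤ Module.finrank KK ↥(LinearMap.range (brL (vl (cd 7) (ed 7 ++ l2 7190235)))) :=
  rkS_ge cert_C04.2.1

theorem u_7_7194852 : Module.finrank KK ↥(LinearMap.range (brL (vl 0 (l2 7194852)))) = 92 :=
  rkS_eq cert_C04.2.2.1

theorem w_7_7194852 : 93 ≤ Module.finrank KK ↥(LinearMap.range (brL (vl 0 (l4 7194852)))) :=
  rkS_ge cert_C04.2.2.2.1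

theorem u_7_7208703 : Module.finrank KK ↥(LinearMap.range (brL (vl 0 (l2 7208703)))) = 92 :=
  rkS_eq cert_C04.2.2.2.2.1

theorem w_7_7208703 : 93 ≤ Module.finrank KK ↥(LinearMap.range (brL (vl 0 (l4 7208703)))) :=
  rkS_ge cert_C04.2.2.2.2.2.1

end Cfsg.Agent.H664.L34
end

-- part: H664/L34/C11
section
/-!
# S5917: rank certificates 11 (helper664, generated)
-/

set_option autoImplicit false
set_option maxRecDepth 100000

namespace Cfsg.Agent.H664.L34

open Cfsg.Agent.H939.L64 (KK LK brK brL)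

theorem u_9_129928175 : Module.finrank KK ↥(LinearMap.range (brL (vl 0 (l2 129928175)))) = 92 :=
  rkS_eq cert_C04.2.2.2.2.2.2.1

theorem w_9_129928175 : 93 ≤ Module.finrank KK ↥(LinearMap.range (brL (vl 0 (l4 129928175)))) :=
  rkS_ge cert_C04.2.2.2.2.2.2.2.1

theorem u_18_432 : Module.finrank KK ↥(LinearMap.range (brL (vl 0 (l8 432)))) = 92 :=
  rkS_eq cert_C04.2.2.2.2.2.2.2.2.1

theorem w_18_432 : 93 ≤ Module.finrank KK ↥(LinearMap.range (brL (vl (cd 18) (ed 18 ++ l2 432)))) :=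
  rkS_ge cert_C04.2.2.2.2.2.2.2.2.2.1

theorem u_18_1575936 : Module.finrank KK ↥(LinearMap.range (brL (vl 0 (l8 1575936)))) = 92 :=
  rkS_eq cert_C04.2.2.2.2.2.2.2.2.2.2.1

theorem w_18_1575936 : 93 ≤ Module.finrank KK ↥(LinearMap.range (brL (vl (cd 18) (ed 18 ++ l2 1575936)))) :=
  rkS_ge cert_C04.2.2.2.2.2.2.2.2.2.2.2.1

end Cfsg.Agent.H664.L34
end

-- part: H664/L34/C13
section
/-!
# S5917: rank certificates 13 (helper664, generated)
-/

set_option autoImplicit false
set_option maxRecDepth 100000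

namespace Cfsg.Agent.H664.L34

open Cfsg.Agent.H939.L64 (KK LK brK brL)

theorem u_18_18911664 : Module.finrank KK ↥(LinearMap.range (brL (vl 0 (l8 18911664)))) = 58 :=
  rkS_eq cert_C04.2.2.2.2.2.2.2.2.2.2.2.2.1

theorem w_18_18911664 : 59 ≤ Module.finrank KK ↥(LinearMap.range (brL (vl (cd 18) (ed 18 ++ l2 18911664)))) :=
  rkS_ge cert_C04.2.2.2.2.2.2.2.2.2.2.2.2.2.1

theorem u_18_20487168 : Module.finrank KK ↥(LinearMap.range (brL (vl 0 (l8 20487168)))) = 58 :=
  rkS_eq cert_C04.2.2.2.2.2.2.2.2.2.2.2.2.2.2.1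

theorem w_18_20487168 : 59 ≤ Module.finrank KK ↥(LinearMap.range (brL (vl (cd 18) (ed 18 ++ l2 20487168)))) :=
  rkS_ge cert_C04.2.2.2.2.2.2.2.2.2.2.2.2.2.2.2.1

theorem u_18_20487600 : Module.finrank KK ↥(LinearMap.range (brL (vl 0 (l2 20487600)))) = 92 :=
  rkS_eq cert_C04.2.2.2.2.2.2.2.2.2.2.2.2.2.2.2.2.1

theorem w_18_20487600 : 93 ≤ Module.finrank KK ↥(LinearMap.range (brL (vl 0 (l4 20487600)))) :=
  rkS_ge cert_C04.2.2.2.2.2.2.2.2.2.2.2.2.2.2.2.2.2.1

end Cfsg.Agent.H664.L34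
end

-- part: H664/L34/C16
section
/-!
# S5917: rank certificates 16 (helper664, generated)
-/

set_option autoImplicit false
set_option maxRecDepth 100000

namespace Cfsg.Agent.H664.L34

open Cfsg.Agent.H939.L64 (KK LK brK brL)

theorem u_18_132379056 : Module.finrank KK ↥(LinearMap.range (brL (vl 0 (l8 132379056)))) = 58 :=
  rkS_eq cert_C04.2.2.2.2.2.2.2.2.2.2.2.2.2.2.2.2.2.2.1

theorem w_18_132379056 : 59 ≤ Module.finrank KK ↥(LinearMap.range (brL (vl (cd 18) (ed 18 ++ l2 132379056)))) :=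
  rkS_ge cert_C04.2.2.2.2.2.2.2.2.2.2.2.2.2.2.2.2.2.2.2.1

theorem u_18_133954560 : Module.finrank KK ↥(LinearMap.range (brL (vl 0 (l8 133954560)))) = 58 :=
  rkS_eq cert_C04.2.2.2.2.2.2.2.2.2.2.2.2.2.2.2.2.2.2.2.2.1

theorem w_18_133954560 : 59 ≤ Module.finrank KK ↥(LinearMap.range (brL (vl (cd 18) (ed 18 ++ l2 133954560)))) :=
  rkS_ge cert_C04.2.2.2.2.2.2.2.2.2.2.2.2.2.2.2.2.2.2.2.2.2.1

theorem u_18_133954992 : Module.finrank KK ↥(LinearMap.range (brL (vl 0 (l2 133954992)))) = 92 :=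
  rkS_eq cert_C04.2.2.2.2.2.2.2.2.2.2.2.2.2.2.2.2.2.2.2.2.2.2.1

theorem w_18_133954992 : 93 ≤ Module.finrank KK ↥(LinearMap.range (brL (vl 0 (l4 133954992)))) :=
  rkS_ge cert_C04.2.2.2.2.2.2.2.2.2.2.2.2.2.2.2.2.2.2.2.2.2.2.2

end Cfsg.Agent.H664.L34
end

-- part: H664/L34/Main
section
/-!
# S5917, type A: the rank contradiction (helper664)

* `rk_ne` : for each of the 51 pairs `(d, T)` two vectors of the module which correspond to hermitian matrices of the same
  rank have different ranks of `ad`.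
-/

set_option autoImplicit false
set_option maxRecDepth 100000

namespace Cfsg.Agent.H664.L34

open Cfsg.Agent.H939.L64 (KK LK brK brL aK)
open Cfsg.Agent.H201.L34 (gi gj gz)
open Cfsg.Agent.H865.L34 (T nd SOL)

/-- the conclusion -/
def Bad (dm m : ℕ) : Prop :=
  Module.finrank KK ↥(LinearMap.range (brL (nd dm + T m + aK gz (T m)))) ≠
    Module.finrank KK ↥(LinearMap.range (brL (T m + aK gz (T m) + aK gi (T m) + aK gz (aK gi (T m)) + aK gj (T m) +
      aK gz (aK gj (T m)) + aK gi (aK gj (T m)) + aK gz (aK gi (aK gj (T m)))))) ∨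
  Module.finrank KK ↥(LinearMap.range (brL (T m + aK gz (T m)))) ≠
    Module.finrank KK ↥(LinearMap.range (brL (T m + aK gz (T m) + aK gi (T m) + aK gz (aK gi (T m)))))

theorem of_A {dm m a : ℕ} (hd : dm < 32) (u : Module.finrank KK ↥(LinearMap.range (brL (vl 0 (l8 m)))) = a)
    (w : a + 1 ≤ Module.finrank KK ↥(LinearMap.range (brL (vl (cd dm) (ed dm ++ l2 m))))) : Bad dm m := by
  left
  rw [vd_eq hd, v8_eq, u]
  omega

theorem of_B {dm m a : ℕ} (u : Module.finrank KK ↥(LinearMap.range (brL (vl 0 (l2 m)))) = a)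
    (w : a + 1 ≤ Module.finrank KK ↥(LinearMap.range (brL (vl 0 (l4 m))))) : Bad dm m := by
  right
  rw [v2_eq, ← v2_eq, v4_eq, v2_eq, u]
  omega

theorem rk_7 {m : ℕ} (hm : m ∈ SOL.getD 7 []) (h0 : m ≠ 0) : Bad 7 m := by
  have e : SOL.getD 7 [] = [0, 13851, 18468, 32319, 98496, 112347, 116964, 130815, 7077888, 7091739, 7096356, 7110207, 7176384, 7190235, 7194852, 7208703, 62557099, 62569904] := by decide +kernel
  rw [e] at hm
  simp only [List.mem_cons, List.not_mem_nil, or_false] at hm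
  rcases hm with rfl | rfl | rfl | rfl | rfl | rfl | rfl | rfl | rfl | rfl | rfl | rfl | rfl | rfl | rfl | rfl | rfl | rfl
  · exact absurd rfl h0
  · exact of_A (by norm_num) u_7_13851 w_7_13851
  · exact of_A (by norm_num) u_7_18468 w_7_18468
  · exact of_A (by norm_num) u_7_32319 w_7_32319
  · exact of_A (by norm_num) u_7_98496 w_7_98496
  · exact of_A (by norm_num) u_7_112347 w_7_112347
  · exact of_A (by norm_num) u_7_116964 w_7_116964
  · exact of_A (by norm_num) u_7_130815 w_7_130815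
  · exact of_A (by norm_num) u_7_7077888 w_7_7077888
  · exact of_A (by norm_num) u_7_7091739 w_7_7091739
  · exact of_A (by norm_num) u_7_7096356 w_7_7096356
  · exact of_A (by norm_num) u_7_7110207 w_7_7110207
  · exact of_A (by norm_num) u_7_7176384 w_7_7176384
  · exact of_A (by norm_num) u_7_7190235 w_7_7190235
  · exact of_B u_7_7194852 w_7_7194852
  · exact of_B u_7_7208703 w_7_7208703
  · exact of_A (by norm_num) u_7_62557099 w_7_62557099
  · exact of_A (by norm_num) u_7_62569904 w_7_62569904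

theorem rk_9 {m : ℕ} (hm : m ∈ SOL.getD 9 []) (h0 : m ≠ 0) : Bad 9 m := by
  have e : SOL.getD 9 [] = [0, 166400, 7199989, 10485800, 10652200, 34078850, 34245250, 44564650, 44731050, 85197125, 85363525, 91872688, 95682925, 95849325, 119275975, 119442375, 129761775, 129928175] := by decide +kernel
  rw [e] at hm
  simp only [List.mem_cons, List.not_mem_nil, or_false] at hm
  rcases hm with rfl | rfl | rfl | rfl | rfl | rfl | rfl | rfl | rfl | rfl | rfl | rfl | rfl | rfl | rfl | rfl | rfl | rfl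
  · exact absurd rfl h0
  · exact of_A (by norm_num) u_9_166400 w_9_166400
  · exact of_A (by norm_num) u_9_7199989 w_9_7199989
  · exact of_A (by norm_num) u_9_10485800 w_9_10485800
  · exact of_A (by norm_num) u_9_10652200 w_9_10652200
  · exact of_A (by norm_num) u_9_34078850 w_9_34078850
  · exact of_A (by norm_num) u_9_34245250 w_9_34245250
  · exact of_A (by norm_num) u_9_44564650 w_9_44564650
  · exact of_B u_9_44731050 w_9_44731050
  · exact of_A (by norm_num) u_9_85197125 w_9_85197125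
  · exact of_A (by norm_num) u_9_85363525 w_9_85363525
  · exact of_A (by norm_num) u_9_91872688 w_9_91872688
  · exact of_A (by norm_num) u_9_95682925 w_9_95682925
  · exact of_A (by norm_num) u_9_95849325 w_9_95849325
  · exact of_A (by norm_num) u_9_119275975 w_9_119275975
  · exact of_A (by norm_num) u_9_119442375 w_9_119442375
  · exact of_A (by norm_num) u_9_129761775 w_9_129761775
  · exact of_B u_9_129928175 w_9_129928175

theorem rk_18 {m : ℕ} (hm : m ∈ SOL.getD 18 []) (h0 : m ≠ 0) : Bad 18 m := by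
  have e : SOL.getD 18 [] = [0, 432, 1575936, 1576368, 7203566, 18911232, 18911664, 20487168, 20487600, 112102126, 113467392, 113467824, 115043328, 115043760, 132378624, 132379056, 133954560, 133954992] := by decide +kernel
  rw [e] at hm
  simp only [List.mem_cons, List.not_mem_nil, or_false] at hm
  rcases hm with rfl | rfl | rfl | rfl | rfl | rfl | rfl | rfl | rfl | rfl | rfl | rfl | rfl | rfl | rfl | rfl | rfl | rfl
  · exact absurd rfl h0
  · exact of_A (by norm_num) u_18_432 w_18_432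
  · exact of_A (by norm_num) u_18_1575936 w_18_1575936
  · exact of_A (by norm_num) u_18_1576368 w_18_1576368
  · exact of_A (by norm_num) u_18_7203566 w_18_7203566
  · exact of_A (by norm_num) u_18_18911232 w_18_18911232
  · exact of_A (by norm_num) u_18_18911664 w_18_18911664
  · exact of_A (by norm_num) u_18_20487168 w_18_20487168
  · exact of_B u_18_20487600 w_18_20487600
  · exact of_A (by norm_num) u_18_112102126 w_18_112102126
  · exact of_A (by norm_num) u_18_113467392 w_18_113467392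
  · exact of_A (by norm_num) u_18_113467824 w_18_113467824
  · exact of_A (by norm_num) u_18_115043328 w_18_115043328
  · exact of_A (by norm_num) u_18_115043760 w_18_115043760
  · exact of_A (by norm_num) u_18_132378624 w_18_132378624
  · exact of_A (by norm_num) u_18_132379056 w_18_132379056
  · exact of_A (by norm_num) u_18_133954560 w_18_133954560
  · exact of_B u_18_133954992 w_18_133954992

/-- **the rank contradiction** -/
theorem rk_ne {dm m : ℕ} (hd : dm = 7 ∨ dm = 9 ∨ dm = 18) (hm : m ∈ SOL.getD dm []) (h0 : m ≠ 0) :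
    Module.finrank KK ↥(LinearMap.range (brL (nd dm + T m + aK gz (T m)))) ≠
      Module.finrank KK ↥(LinearMap.range (brL (T m + aK gz (T m) + aK gi (T m) + aK gz (aK gi (T m)) + aK gj (T m) +
        aK gz (aK gj (T m)) + aK gi (aK gj (T m)) + aK gz (aK gi (aK gj (T m)))))) ∨
    Module.finrank KK ↥(LinearMap.range (brL (T m + aK gz (T m)))) ≠
      Module.finrank KK ↥(LinearMap.range (brL (T m + aK gz (T m) + aK gi (T m) + aK gz (aK gi (T m))))) := by
  rcases hd with rfl | rfl | rfl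
  · exact rk_7 hm h0
  · exact rk_9 hm h0
  · exact rk_18 hm h0

end Cfsg.Agent.H664.L34
end

-- part: H550/L34/KillFin
section
/-!
# S5917, type A: the kill (helper550)
-/

set_option autoImplicit false
set_option maxRecDepth 100000

namespace Cfsg.Agent.H550.L34

open Matrix Cfsg Cfsg.Lie Cfsg.Lie.ChevalleyDatum
open Cfsg.Agent.H691.L34
open Cfsg.Agent.H939.L64
open Cfsg.Agent.H413.L16 (brM)
open Cfsg.Agent.H437.L34 (fg rho)
open Cfsg.Agent.H888.L34.Model (P3)
open Cfsg.Agent.H939.L34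

theorem rk_all : RK := by
  intro dm hd m hm h0
  have h := Cfsg.Agent.H664.L34.rk_ne hd hm h0
  exact h


end Cfsg.Agent.H550.L34
end

-- part: H540/L34/MkDef
section
/-!
# S5917, END of type A (helper540): the vectors of matrices

* `Mk k X` : the vector of the matrix `X` in the component `k`; `ev X` : the vector `(X, X, X, X)`.
-/

set_option autoImplicit false
set_option maxRecDepth 100000

namespace Cfsg.Agent.H540.L34

open Cfsg Cfsg.Lie Cfsg.Lie.ChevalleyDatum Matrix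
open Cfsg.Agent.H939.L64
open Cfsg.Agent.H413.L16
open Cfsg.Agent.H5.L34 (S3 rk rk_lt Pk Pk_tv Psi Psi_single th fm)

abbrev M3K : Type := Matrix (Fin 3) (Fin 3) KK

/-- the vector of the matrix `X` in the component `k` -/
noncomputable def Mk (k : Fin 4) (X : Matrix (Fin 3) (Fin 3) KK) : LK :=
  X 0 1 • er (rk k 0 1) + X 1 0 • er (rk k 1 0) + X 0 2 • er (rk k 0 2) + X 2 0 • er (rk k 2 0) +
    X 1 2 • er (rk k 1 2) + X 2 1 • er (rk k 2 1) + X 0 0 • hr (rk k 0 1) + X 2 2 • hr (rk k 1 2)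

/-- the vector `(X, X, X, X)` -/
noncomputable def ev (X : Matrix (Fin 3) (Fin 3) KK) : LK := ∑ k : Fin 4, Mk k X

end Cfsg.Agent.H540.L34
end
end

-- part: H940/L34/EtwoC
section
set_option linter.all false
open scoped Cfsg.Agent.FastGrp

/-!
# S5917, type D, row E2c: the glue (helper940)

`B` : a set of vectors (in frame coordinates) fixed by `E`, `F'` and the quaternion group, closed under `+` and `sq`,
without nilpotent elements, meeting `Z2` trivially; the types are permuted cyclically by `F'` (`a ≠ 0`):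
every `w ∈ B` satisfies `sq (sq w) + sq w + w = 0`.
-/

set_option autoImplicit false

namespace Cfsg.Agent.H940.L34.Cyc

open Cfsg Cfsg.Lie
open Cfsg.Agent.H939.L64 Cfsg.Agent.H413.L16 Cfsg.Agent.H251.L34
open Cfsg.Agent.H129.TorusUntw (phi)
open Cfsg.Agent.H942.DF (EF NG VV Mp hx RX)

variable {t1 t2 : ↥(chevE8.group KK)} {ζ : KK}

/-- **E2c** -/
theorem e2c (h : EF t1 t2 ζ) {e1 e2 : E2} {z0 gF : ↥(chevE8.group KK)} (hz1 : z0⁻¹ * em e1 * z0 = t1)
    (hz2 : z0⁻¹ * em e2 * z0 = t2) (hg : z0⁻¹ * phi chevE8 KK 2 1 z0 = gF) {a : Fin 3} (ha : ∀ X, RX gF X (X + a))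
    (ha0 : a ≠ 0) {P : LK → Prop}
    (hii : ∀ x, x ∈ Mp t1 t2 ζ → VV t1 t2 ζ 0 0 x → P x → ∃ d : Fin 4 → KK, d 0 = 0 ∧ d 1 = 0 ∧ H201.L34.sq x = hx d)
    {B : Set LK} (hB : ∀ w ∈ B, VV t1 t2 ζ 0 0 w ∧ aK gF (fr w) = w ∧ P w) (hadd : ∀ u ∈ B, ∀ w ∈ B, u + w ∈ B)
    (hsq : ∀ w ∈ B, H201.L34.sq w ∈ B) (hnil : ∀ w ∈ B, H201.L34.sq w = 0 → w = 0)
    (hZ : ∀ d : Fin 4 → KK, d 0 = 0 → d 1 = 0 → hx d ∈ B → hx d = 0) {w : LK} (hw : w ∈ B) :
    H201.L34.sq (H201.L34.sq w) + H201.L34.sq w + w = 0 := by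
  have h1 := cyc h hz1 hz2 hg ha ha0 (hB w hw).1 (hB w hw).2.1
  have h2 : H201.L34.sq (H201.L34.sq w) + H201.L34.sq w + w ∈ B :=
    hadd _ (hadd _ (hsq _ (hsq _ hw)) _ (hsq _ hw)) _ hw
  obtain ⟨h3, -, h4⟩ := hB _ h2
  obtain ⟨d, d0, d1, e⟩ := hii _ h1 h3 h4
  refine hnil _ h2 ?_
  rw [e]
  exact hZ d d0 d1 (by rw [← e]; exact hsq _ h2)

end Cfsg.Agent.H940.L34.Cyc
end

-- part: H968/L34/EndDOf
section
prune_inst 0x20000000000000000000000000000000
set_option linter.all false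
open scoped Cfsg.Agent.FastGrp

/-!
# S5917, END type D: the assembly (helper968)
-/

set_option autoImplicit false
set_option linter.unusedSectionVars false
set_option maxRecDepth 100000

namespace Cfsg.Agent.H968.L34

open Matrix Cfsg Cfsg.Lie Cfsg.Lie.ChevalleyDatum
open Cfsg.Agent.H691.L34
open Cfsg.Agent.H939.L64
open Cfsg.Agent.H251.L34 (V3)
open Cfsg.Agent.H876.L64 (aK_add aK_smul aK_zero aK_brK)
open Cfsg.Agent.H413.L16 (fr_aK)
open Cfsg.Agent.H129.TorusUntw (phi)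
open Cfsg.Agent.BpExc.RowsUntw (e8T)
open Cfsg.Agent.H437.L34 (fg rho up_injective up_add up_zero a2_br rho_apply')
open Cfsg.Agent.H888.L34.Model (Sit P3 fix2 mem_of_stab_fix2)
open Cfsg.Agent.H939.L34 (Fsit UQ DNIL TRZ)
open Cfsg.Agent.H942.DF (aK_mul' aK_one' aK_inv_r aK_inv_l VV EF Mp NG IX RX hx)
open Cfsg.Agent.H906.L34 (fr_up exists_up sq2 up_sq2 a2_sq2)

variable {F : Type} [Field F] {H : Subgroup E2} {f : P3 F →* E2} {z : ↥(chevE8.group KK)} {ζ : KK} {g1 g2 qi qj : G3 F}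

theorem ef_of (S : Fsit V3 H f z ζ g1 g2 qi qj) : EF (z⁻¹ * em (fg f g1) * z) (z⁻¹ * em (fg f g2) * z) ζ :=
  ⟨S.prim, S.m1, S.m2, S.v1, S.v2⟩

theorem aK_inj {g : ↥(chevE8.group KK)} {x : LK} (h : aK g x = 0) : x = 0 := by
  have := congrArg (aK g⁻¹) h
  rwa [aK_inv_l, aK_zero] at this

/-- no nilpotent element -/
theorem BB_nil [Fintype F] (dnil : DNIL) (trz : TRZ) (hF : Fintype.card F = 4) (S : Fsit V3 H f z ζ g1 g2 qi qj) {x : LK}
    (hx : x ∈ BB f z) (h0 : Cfsg.Agent.H201.L34.sq x = 0) : x = 0 := by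
  obtain ⟨v, hv, rfl⟩ := hx
  have h1 : Cfsg.Agent.H201.L34.sq (up v) = 0 := by
    refine aK_inj (g := z⁻¹) ?_
    rw [Cfsg.Agent.H201.L34.aK_sq]
    exact h0
  have hK : ∀ g : G3 F, aK (em (fg f g)) (up v) = up v := fun g => by
    have : a2 (fg f g) v = v := hv g
    rw [aK_em_up, this]
  obtain ⟨u, u1, u2, hu⟩ := dnil hF S (up v) (hK _) (hK _) (hK _) (hK _) h1
  obtain ⟨u', k1, k2⟩ := Cfsg.Agent.H436.L34.desc_sum (S := {fg f g1, fg f g2}) (y := u)
    ((Cfsg.Agent.H436.L34.mem_FK).2 (by rintro g (rfl | rfl); exacts [u1, u2])) hu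
  rw [Cfsg.Agent.H436.L34.mem_F2] at k1
  rw [trz hF S v u' (Or.inr hv) (k1 _ (Or.inl rfl)) (k1 _ (Or.inr rfl)) k2, up_zero, aK_zero]

theorem VV_fr {t1 t2 : ↥(chevE8.group KK)} (h : EF t1 t2 ζ) {v : LK} (hv : VV t1 t2 ζ 0 0 v) :
    VV t1 t2 ζ 0 0 (Cfsg.Agent.H939.L64.fr v) := by
  refine h.of (fun _ _ => ⟨rfl, rfl⟩) fun s hs => h.root hv fun h0 => hs ?_
  show v (Sum.inr s) ^ 2 = 0
  rw [h0]
  ring

theorem Mp_fr {t1 t2 : ↥(chevE8.group KK)} (h : EF t1 t2 ζ) {v : LK} (hv : v ∈ Mp t1 t2 ζ) :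
    Cfsg.Agent.H939.L64.fr v ∈ Mp t1 t2 ζ := by
  unfold Mp at hv
  induction hv using Submodule.span_induction with
  | mem x hx' =>
    obtain ⟨a, b, ha, hb, rfl⟩ := hx'
    rw [Cfsg.Agent.H413.L16.fr_br]
    exact Submodule.subset_span ⟨_, _, VV_fr h ha, VV_fr h hb, rfl⟩
  | zero =>
    have : Cfsg.Agent.H939.L64.fr (0 : LK) = 0 := by
      funext i
      show (0 : KK) ^ 2 = 0
      ring
    rw [this]
    exact zero_mem _
  | add x y _ _ hx' hy' =>
    rw [Cfsg.Agent.H201.L34.fr_add]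
    exact add_mem hx' hy'
  | smul c x _ hx' =>
    rw [Cfsg.Agent.H942.DF.fr_smul]
    exact Submodule.smul_mem _ _ hx'

/-- the Frobenius in the coordinates of the frame -/
noncomputable def Fp (gF : ↥(chevE8.group KK)) : LK →+ LK where
  toFun v := aK gF (Cfsg.Agent.H939.L64.fr v)
  map_zero' := by
    have : Cfsg.Agent.H939.L64.fr (0 : LK) = 0 := by
      funext i
      show (0 : KK) ^ 2 = 0
      ring
    rw [this, aK_zero]
  map_add' u v := by rw [Cfsg.Agent.H201.L34.fr_add, aK_add]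

/-- END type D, twisted case -/
theorem tw_case [Fintype F] (dnil : DNIL) (trz : TRZ) (hF : Fintype.card F = 4) (S : Fsit V3 H f z ζ g1 g2 qi qj)
    (hii : ∀ x : LK, x ∈ Mp (z⁻¹ * em (fg f g1) * z) (z⁻¹ * em (fg f g2) * z) ζ →
      VV (z⁻¹ * em (fg f g1) * z) (z⁻¹ * em (fg f g2) * z) ζ 0 0 x →
      (aK (z⁻¹ * em (fg f qi) * z) x = x ∧ aK (z⁻¹ * em (fg f qj) * z) x = x) →
      ∃ d : Fin 4 → KK, d 0 = 0 ∧ d 1 = 0 ∧ Cfsg.Agent.H201.L34.sq x = hx d)
    {a : Fin 3} (ha : ∀ X, RX (z⁻¹ * phi chevE8 KK 2 1 z) X (X + a))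
    (hs : ∀ X w v, IX X w v → IX (X + a) (Cfsg.Agent.H251.L34.nw w) (aK (z⁻¹ * phi chevE8 KK 2 1 z) (Cfsg.Agent.H939.L64.fr v)))
    (ha0 : a ≠ 0) : (∀ x ∈ BB f z, Cfsg.Agent.H201.L34.sq (Cfsg.Agent.H201.L34.sq x) + Cfsg.Agent.H201.L34.sq x + x = 0) ∧
      ∀ x ∈ BB f z, ∀ y ∈ BB f z, brK x y = 0 := by
  have h := ef_of S
  obtain ⟨n5, n7, h5, h7, hd⟩ := Cfsg.Agent.H437.L34.dims_rho hF f S.sit.inj
  have ho := S.uq
  obtain ⟨ω, hω, e1, e2, -, -⟩ := ho
  have ho := Cfsg.Agent.H888.L34.Ord.ho hω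
  rw [← e1, ← e2] at ho
  have hZ : ∀ d : Fin 4 → KK, d 0 = 0 → d 1 = 0 → hx d ∈ (BB f z : Set LK) → hx d = 0 := by
    rintro d d0 d1 ⟨w, hw, e⟩
    have hw0 : w = 0 := Cfsg.Agent.H888.L34.ZFix.z2_zero hF (fun g v => rho_apply' f g v) (Cfsg.Agent.H437.L34.ct_rho f)
      h7 hd ho h rfl rfl rfl ha0 hs (fun g => hw g) e.symm d0 d1
    rw [e, hw0, up_zero, aK_zero]
  have hnil : ∀ w ∈ (BB f z : Set LK), Cfsg.Agent.H201.L34.sq w = 0 → w = 0 := fun w hw h0 => BB_nil dnil trz hF S hw h0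
  have hB : ∀ w ∈ (BB f z : Set LK), VV (z⁻¹ * em (fg f g1) * z) (z⁻¹ * em (fg f g2) * z) ζ 0 0 w ∧
      aK (z⁻¹ * phi chevE8 KK 2 1 z) (Cfsg.Agent.H939.L64.fr w) = w ∧
      (aK (z⁻¹ * em (fg f qi) * z) w = w ∧ aK (z⁻¹ * em (fg f qj) * z) w = w) := fun w hw =>
    ⟨Cfsg.Agent.H942.DF.VV00.2 ⟨BB_fix hw g1, BB_fix hw g2⟩, BB_fr hw, BB_fix hw qi, BB_fix hw qj⟩
  have h4 : ∀ x ∈ BB f z, Cfsg.Agent.H201.L34.sq (Cfsg.Agent.H201.L34.sq x) + Cfsg.Agent.H201.L34.sq x + x = 0 :=
    fun x hx' => Cfsg.Agent.H940.L34.Cyc.e2c h rfl rfl rfl ha ha0 hii hB (fun u hu w hw => add_mem hu hw)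
      (fun w hw => BB_sq hw) hnil hZ hx'
  refine ⟨h4, fun x hx' y hy' => ?_⟩
  have := fin_BB (f := f) (z := z)
  refine Cfsg.Agent.H20.LF.b_abelian_frame h (Fp (z⁻¹ * phi chevE8 KK 2 1 z)) (fun c v => ?_) (fun v hv => ?_) (BB f z)
    (fun x hx' => ⟨(hB x hx').1, (hB x hx').2.1⟩) (fun x hx' hM => ?_) (fun x hx' y hy' => BB_br hx' hy')
    (fun x hx' => BB_sq hx') h4 hx' hy'
  · show aK _ (Cfsg.Agent.H939.L64.fr (c • v)) = c ^ 2 • aK _ (Cfsg.Agent.H939.L64.fr v)
    rw [Cfsg.Agent.H942.DF.fr_smul, aK_smul]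
  · exact (h.NG_F rfl rfl rfl).mp (Mp_fr h hv)
  · obtain ⟨d, d0, d1, e⟩ := hii x hM (hB x hx').1 (hB x hx').2.2
    exact hnil x hx' (by rw [e]; exact hZ d d0 d1 (by rw [← e]; exact BB_sq hx'))

/-- the statement of `y5end13` -/
def Y5 : Prop := ∀ {x : E2}, x ^ 5 = 1 → x ≠ 1 → Module.finrank KK (Cfsg.Agent.H943.RepAdd.eig rE x 1) = 48 →
  ∀ {w : L2}, a2 x w = w → w ≠ 0 →
  Cfsg.Agent.H201.L34.sq (Cfsg.Agent.H201.L34.sq (up w)) + Cfsg.Agent.H201.L34.sq (up w) + up w = 0 →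
  ∃ g : E2, orderOf g = 13 ∧ ∀ v : L2, a2 x v = v → brK (up w) (up v) = 0 → a2 g v = v

/-- **END of type D** from its inputs -/
theorem endD_of [Fintype F] (dnil : DNIL) (trz : TRZ) (y5 : Y5) (hF : Fintype.card F = 4)
    (S : Fsit V3 H f z ζ g1 g2 qi qj)
    (hii : ∀ x : LK, x ∈ Mp (z⁻¹ * em (fg f g1) * z) (z⁻¹ * em (fg f g2) * z) ζ →
      VV (z⁻¹ * em (fg f g1) * z) (z⁻¹ * em (fg f g2) * z) ζ 0 0 x →
      (aK (z⁻¹ * em (fg f qi) * z) x = x ∧ aK (z⁻¹ * em (fg f qj) * z) x = x) →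
      ∃ d : Fin 4 → KK, d 0 = 0 ∧ d 1 = 0 ∧ Cfsg.Agent.H201.L34.sq x = hx d)
    (hu : (∀ X w v, IX X w v → IX X (Cfsg.Agent.H251.L34.nw w) (aK (z⁻¹ * phi chevE8 KK 2 1 z) (Cfsg.Agent.H939.L64.fr v))) →
      False)
    (p5 : ∃ y : P3 F, f y ^ 5 = 1 ∧ f y ≠ 1 ∧ Module.finrank KK (Cfsg.Agent.H943.RepAdd.eig rE (f y) 1) = 48)
    (h0 : fixAll (rho f) ≠ ⊥) : False := by
  have h := ef_of S
  obtain ⟨a, ha, hs, -⟩ := h.frob_shift (z0 := z) (gF := z⁻¹ * phi chevE8 KK 2 1 z) rfl rfl rfl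
  by_cases ha0 : a = 0
  · subst ha0
    exact hu fun X w v hv => by
      have := hs X w v hv
      rwa [add_zero] at this
  · obtain ⟨h4, hab⟩ := tw_case dnil trz hF S hii ha hs ha0
    obtain ⟨w, hw, hw0⟩ := Submodule.exists_mem_ne_zero_of_ne_bot h0
    obtain ⟨y, y1, y2, y3⟩ := p5
    have hfix : ∀ v : L2, v ∈ fixAll (rho f) ↔ ∀ s, a2 (f s) v = v := Cfsg.Agent.H437.L34.mem_fixAll_rho f
    have hrel : Cfsg.Agent.H201.L34.sq (Cfsg.Agent.H201.L34.sq (up w)) + Cfsg.Agent.H201.L34.sq (up w) + up w = 0 := by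
      refine aK_inj (g := z⁻¹) ?_
      rw [aK_add, aK_add, Cfsg.Agent.H201.L34.aK_sq, Cfsg.Agent.H201.L34.aK_sq]
      exact h4 _ ⟨w, hw, rfl⟩
    obtain ⟨g, hg, hgv⟩ := y5 y1 y2 y3 ((hfix w).1 hw y) hw0 hrel
    have hf2 : fix2 f ≠ ⊥ := by
      intro e
      apply hw0
      have : w ∈ fix2 f := (hfix w).1 hw
      rwa [e, Submodule.mem_bot] at this
    refine no13 S.sit hF (mem_of_stab_fix2 S.sit hF hf2 (g := g) fun v hv => ?_) hg
    have hv' : v ∈ fixAll (rho f) := (hfix v).2 hv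
    have e1 : brK (up w) (up v) = 0 := by
      refine aK_inj (g := z⁻¹) ?_
      rw [aK_brK]
      exact hab _ ⟨w, hw, rfl⟩ _ ⟨v, hv', rfl⟩
    rw [hgv v (hv y) e1]
    exact hv

end Cfsg.Agent.H968.L34
end

-- part: H968/L34/EndDB
section
prune_inst 0x14200100040000000000000000000000280000000000000000000000000084220900200000200100000080000001004001000030020000000a00040000000000088012000100a000000006000000000000000000020000000000000000000004000000000
set_option linter.all false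
open scoped Cfsg.Agent.FastGrp

-- part: H966/L34/EndDU
section
/-!
# S5917 (`L₃(4)` in `E₈(2)`), END of type D, untwisted form (helper966, row E2b)

Frame `(V1, V3)` of `E = ⟨e1, e2⟩`; `σ = id` : `F' = aK (z0⁻¹ φ(z0)) ∘ fr` maps the eight root vectors `mt X w ·` into the
span of `mt X (nw w) ·`, for the three types `X` and the eight characters `w`.

* `Vf a b c` : 27 vectors of values, constant on each `mt X w ·`, zero on the roots of `D₄`;
* `conj_eq` : the torus element `t` with the values `Vf a b c` satisfies `F' t F'⁻¹ = t`;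
* `exists_elt` : so `z0 t z0⁻¹` is rational;
* `end_u` : 27 elements of `E₈(2)` commuting with `e1, e2` and fixing every vector fixed by `e1` and `e2`;
* `false_u` : the contradiction with `Sit`.
-/

set_option autoImplicit false
set_option linter.unusedSectionVars false
set_option maxRecDepth 100000

namespace Cfsg.Agent.H966.L34

open CoxeterSystem Cfsg Cfsg.Lie Cfsg.Lie.ChevalleyDatum
open Cfsg.Agent.ChevalleyStructure Cfsg.Agent.ChevalleyStructure.Elts Cfsg.Agent.ChevalleyStructure.CoxeterGeom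
  Cfsg.Agent.ChevalleyStructure.CoxeterGeomTypes Cfsg.Agent.ChevalleyStructure.NPerm
open Cfsg.Agent.ChevalleyStructure.LieAbs Cfsg.Agent.ChevalleyStructure.LieAut
open Cfsg.Agent.ChevalleyStructure.Columns (car cor)
open Cfsg.Agent.ChevalleyStructure.RootVec (rt)
open Cfsg.Agent.Tits.Roots Cfsg.Agent.Tits.Core Cfsg.Agent.Nodes Cfsg.Agent.Nodes.Reps Cfsg.Agent.Nodes.BNOf
  Cfsg.Agent.Nodes.RGDChev Cfsg.Agent.Nodes.Bruhat Cfsg.Agent.Nodes.SubComb Cfsg.Agent.Nodes.Coroot
open Cfsg.Agent.KFacts.RgdField Cfsg.Agent.KFacts.RgdChevCoord Cfsg.Agent.BpExc.TorCent Cfsg.Agent.BpExc.TorChev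
open Cfsg.Agent.GpExc.Field Cfsg.Agent.BpExc.Tow Cfsg.Agent.BpExc.TowChev Cfsg.Agent.BpExc.Fr
  Cfsg.Agent.BpExc.LangFr Cfsg.Agent.LangThm Cfsg.Agent.BpExc Cfsg.Agent.H129.TorusMain Cfsg.Agent.H129.TorusUntw
open Cfsg.Agent.H129.TorusChar (cX cX_pow cX_one cX_inj isMC_cX cX_root cX_rp cX_mul ch_sigma exists_cX)
open Cfsg.Agent.H720.TorusReal Cfsg.Agent.H897
open Cfsg.Agent.H897.T5Frame (bc rc bf_eq)
open Cfsg.Agent.H897.T5UntwRow (A8)
open Cfsg.Agent.H378.TorFin (phi_emb' fix_mem)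
open Cfsg.Agent.BpExc.RowsUntw (e8T)
open Cfsg.Agent.BpExc.FamInst (inv_E8)
open Cfsg.Agent.H939.L64
open Cfsg.Agent.H413.L64
open Cfsg.Agent.H413.L16
open Cfsg.Agent.H876.L64
open Cfsg.Agent.H201.L34
open Cfsg.Agent.H251.L34

/-! ### the values -/

/-- 27 vectors of values -/
def Vf (a b c : ZMod 3) : Fin 8 → ZMod 3 := ![b, 0, 0, 0, 0, b, a, c]

/-- the values on the roots -/
def vf (a b c : ZMod 3) (s : ℕ) : ZMod 3 := ∑ i : Fin 8, Vf a b c i * ((rt chevE8 s i : ℤ) : ZMod 3)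

/-- the three basic values -/
def q3 (s : ℕ) : ZMod 3 × ZMod 3 × ZMod 3 :=
  (((rt chevE8 s 6 : ℤ) : ZMod 3), ((rt chevE8 s 0 + rt chevE8 s 5 : ℤ) : ZMod 3), ((rt chevE8 s 7 : ℤ) : ZMod 3))

theorem vf_eq (a b c : ZMod 3) (s : ℕ) : vf a b c s = a * (q3 s).1 + b * (q3 s).2.1 + c * (q3 s).2.2 := by
  unfold vf q3 Vf
  rw [Fin.sum_univ_eight]
  simp only [_root_.Fin.isValue, _root_.Matrix.cons_val_zero, _root_.Fin.coe_ofNat_eq_mod, _root_.Nat.zero_mod, _root_.Matrix.cons_val_one, _root_.Nat.one_mod, _root_.MulZeroClass.zero_mul, _root_.add_zero, _root_.Matrix.cons_val, _root_.Nat.reduceMod, _root_.Nat.mod_succ, _root_.Int.cast_add, _root_.add_left_inj]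
  ring

theorem tab_dr : ∀ b, q3 (dr b) = 0 := by decide +kernel

theorem tab_mt : ∀ (X : Fin 3) (w k : Fin 8), q3 (_root_.Cfsg.Agent.H251.L34.mt X w k) = q3 (_root_.Cfsg.Agent.H251.L34.mt X w 0) ∧ q3 (_root_.Cfsg.Agent.H251.L34.mt X (nw w) k) = - q3 (_root_.Cfsg.Agent.H251.L34.mt X w 0) := by
  decide +kernel

/-- positions of two root vectors of the modules with the given bracket -/
def P1 : List ℕ := [1, 4, 5, 2, 3, 6, 1, 1, 4, 1, 1, 2, 3, 4, 5, 2, 2, 3, 0, 0, 0, 0, 0, 0, 24, 16, 32, 16, 32, 24, 8,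
  0, 48, 40, 0, 8, 0, 40, 8, 0, 8, 24, 8, 16, 0, 16, 8, 0]

/-- the second position -/
def P2 : List ℕ := [15, 15, 15, 15, 15, 15, 12, 13, 13, 10, 11, 12, 13, 14, 14, 11, 14, 14, 9, 12, 13, 10, 11, 14, 47,
  55, 63, 63, 47, 55, 31, 39, 63, 55, 23, 39, 31, 63, 23, 63, 55, 39, 63, 31, 47, 39, 47, 55]

theorem tab_P : ∀ n : Fin 48, P1.getD n 0 < 192 ∧ P2.getD n 0 < 192 ∧
    MTL.getD (P2.getD n 0) 240 ≠ 239 - MTL.getD (P1.getD n 0) 240 ∧
    tg (MTL.getD (P1.getD n 0) 240) (MTL.getD (P2.getD n 0) 240) = (DRL ++ DPL).getD n 240 := by decide +kernel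

theorem pos_mt {n : ℕ} (hn : n < 192) : ∃ X w k, MTL.getD n 240 = Cfsg.Agent.H251.L34.mt X w k := by
  refine ⟨⟨n / 64, by omega⟩, ⟨n / 8 % 8, by omega⟩, ⟨n % 8, by omega⟩, ?_⟩
  unfold Cfsg.Agent.H251.L34.mt
  congr 1
  show n = 64 * (n / 64) + 8 * (n / 8 % 8) + n % 8
  omega

theorem dr_pos (b : Fin 24) : dr b = (DRL ++ DPL).getD b 240 := by revert b; decide +kernel

theorem dp_pos (w : Fin 8) (i : Fin 3) : dp w i = (DRL ++ DPL).getD (24 + (3 * w + i)) 240 := by
  revert w i; decide +kernel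

/-- every other root vector is a bracket of two root vectors of the modules -/
theorem er_br {n : ℕ} (hn : n < 48) : ∃ X w k X' w' k',
    er ((DRL ++ DPL).getD n 240) = brK (er (_root_.Cfsg.Agent.H251.L34.mt X w k)) (er (_root_.Cfsg.Agent.H251.L34.mt X' w' k')) := by
  obtain ⟨h1, h2, h3, h4⟩ := tab_P ⟨n, hn⟩
  obtain ⟨X, w, k, e1⟩ := pos_mt h1
  obtain ⟨X', w', k', e2⟩ := pos_mt h2
  refine ⟨X, w, k, X', w', k', ?_⟩
  rw [e1, e2] at h3
  rw [e1, e2] at h4
  rw [br_rr (mt_lt _ _ _) (mt_lt _ _ _) h3, h4]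

/-- two elements with the same action on the root vectors of the modules are equal -/
theorem eq_of_mt {g h : ↥(chevE8.group KK)} (he : ∀ X w k, aK g (er (_root_.Cfsg.Agent.H251.L34.mt X w k)) = aK h (er (_root_.Cfsg.Agent.H251.L34.mt X w k))) : g = h := by
  have key : ∀ n, n < 48 → aK g (er ((DRL ++ DPL).getD n 240)) = aK h (er ((DRL ++ DPL).getD n 240)) := by
    intro n hn
    obtain ⟨X, w, k, X', w', k', e⟩ := er_br hn
    rw [e, aK_brK, aK_brK, he, he]
  apply eq_of_er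
  intro s hs
  rcases root_cases hs with ⟨b, rfl⟩ | ⟨X, w, k, rfl⟩ | ⟨w, i, rfl⟩
  · rw [dr_pos]
    exact key _ (by omega)
  · exact he X w k
  · rw [dp_pos]
    exact key _ (by omega)

/-! ### the torus elements -/

section Tor

variable {ζ : KK} (hζ : IsPrimitiveRoot ζ 3) {a b c : ZMod 3} {t : ↥(chevE8.group KK)}

/-- existence -/
theorem exists_tor (hζ : IsPrimitiveRoot ζ 3) (v : Fin 8 → ZMod 3) : ∃ t ∈ TT chevE8 KK,
    ∀ i, cX e8T t (sr i) = ζ ^ (v i).val := by
  have hζ0 : ζ ≠ 0 := hζ.ne_zero (by norm_num)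
  have hMC : H129.TorusChar.IsMC fun x => ζ ^ vl v x := by
    refine ⟨by rw [vl_zero, zpow_zero], fun a b => ?_⟩
    rw [vl_add, zpow_add₀ hζ0]
  obtain ⟨t', ht', hct'⟩ := exists_cX e8T inv_E8 one_ne_zero hMC (fun i => ⟨ζ ^ vl v (sr i), pow_one _⟩)
  exact ⟨t', ht', fun i => by rw [hct', vl_sr, zpow_natCast]⟩

/-- the action on the root vectors of the modules -/
theorem aK_mt (hζ : IsPrimitiveRoot ζ 3) (ht : t ∈ TT chevE8 KK) (hv : ∀ i, cX e8T t (sr i) = ζ ^ (Vf a b c i).val)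
    (X : Fin 3) (w k : Fin 8) : aK t (er (_root_.Cfsg.Agent.H251.L34.mt X w k)) = ζ ^ (vf a b c (_root_.Cfsg.Agent.H251.L34.mt X w 0)).val • er (_root_.Cfsg.Agent.H251.L34.mt X w k) := by
  have h := aK_t3 ht hζ hv (mt_lt X w k)
  rw [h]
  congr 3
  show vf a b c (_root_.Cfsg.Agent.H251.L34.mt X w k) = _
  rw [vf_eq, vf_eq, (tab_mt X w k).1]

/-- the opposite character -/
theorem pow_nw (hζ : IsPrimitiveRoot ζ 3) (X : Fin 3) (w : Fin 8) :
    ζ ^ (vf a b c (_root_.Cfsg.Agent.H251.L34.mt X (nw w) 0)).val = (ζ ^ (vf a b c (_root_.Cfsg.Agent.H251.L34.mt X w 0)).val) ^ 2 := by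
  have h1 : vf a b c (_root_.Cfsg.Agent.H251.L34.mt X (nw w) 0) = - vf a b c (_root_.Cfsg.Agent.H251.L34.mt X w 0) := by
    rw [vf_eq, vf_eq, (tab_mt X w 0).2]
    simp only [Prod.fst_neg, Prod.snd_neg]
    ring
  rw [h1, ← pow_mul]
  generalize vf a b c (_root_.Cfsg.Agent.H251.L34.mt X w 0) = x
  rw [pow_val hζ (x.val * 2)]
  congr 2
  rw [Nat.cast_mul, ZMod.natCast_zmod_val]
  revert x
  decide

/-- the coordinates -/
theorem cX_vec (hζ : IsPrimitiveRoot ζ 3) {V : Fin 8 → ZMod 3} (ht : t ∈ TT chevE8 KK)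
    (hv : ∀ i, cX e8T t (sr i) = ζ ^ (V i).val) (s : Fin chevE8.nroots) :
    cX e8T t (vec chevE8 8 s) = ζ ^ (∑ i : Fin 8, V i * ((rt chevE8 s i : ℤ) : ZMod 3)).val := by
  have hs : (s : ℕ) < 240 := lt_of_lt_of_eq s.2 nr
  have h := congrFun (aK_t3 ht hζ hv hs) (Sum.inr s)
  rw [aK_tor ht, Pi.smul_apply, smul_eq_mul, er_of s.2, Pi.single_eq_same, mul_one, mul_one] at h
  exact h

end Tor

/-! ### the Frobenius map -/

section Frob

variable {gF : ↥(chevE8.group KK)}

/-- the family of the root vectors of a module -/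
noncomputable def U (X : Fin 3) (w : Fin 8) : Submodule KK LK := Submodule.span KK (Set.range fun k => er (_root_.Cfsg.Agent.H251.L34.mt X w k))

theorem li_er (X : Fin 3) (w : Fin 8) : LinearIndependent KK fun k => er (_root_.Cfsg.Agent.H251.L34.mt X w k) := by
  have h1 : (fun k => er (_root_.Cfsg.Agent.H251.L34.mt X w k)) =
      (fun i : chevE8.Idx => (Pi.single i 1 : LK)) ∘ fun k => Sum.inr ⟨_root_.Cfsg.Agent.H251.L34.mt X w k, lt_of_lt_of_eq (mt_lt X w k) nr.symm⟩ := by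
    funext k
    exact er_of _
  rw [h1]
  refine LinearIndependent.comp ?_ _ ?_
  · have h2 := (Pi.basisFun KK chevE8.Idx).linearIndependent
    convert h2 using 1
    funext i
    simp [Pi.basisFun_apply]
  · intro k k' h
    have h2 : _root_.Cfsg.Agent.H251.L34.mt X w k = _root_.Cfsg.Agent.H251.L34.mt X w k' := congrArg Fin.val (Sum.inr.inj h)
    exact (mt_inj _ _ _ _ _ _ h2).2.2

theorem ker_lin (g : ↥(chevE8.group KK)) : LinearMap.ker (lin g) = ⊥ := by
  rw [LinearMap.ker_eq_bot]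
  intro u v h
  have h1 := congrArg (aK g⁻¹) (show aK g u = aK g v from h)
  rwa [aK_inv', aK_inv'] at h1

/-- the images span -/
theorem span_img (hF : ∀ X w k, aK gF (er (_root_.Cfsg.Agent.H251.L34.mt X w k)) ∈ U X (nw w)) (X : Fin 3) (w : Fin 8) :
    Submodule.span KK (Set.range fun k => aK gF (er (_root_.Cfsg.Agent.H251.L34.mt X w k))) = U X (nw w) := by
  have h1 : LinearIndependent KK fun k => aK gF (er (_root_.Cfsg.Agent.H251.L34.mt X w k)) := (li_er X w).map' (lin gF) (ker_lin gF)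
  apply Submodule.eq_of_le_of_finrank_eq
  · rw [Submodule.span_le]
    rintro _ ⟨k, rfl⟩
    exact hF X w k
  · rw [U, finrank_span_eq_card h1, finrank_span_eq_card (li_er X (nw w))]

theorem conj_eq {ζ : KK} (hζ : IsPrimitiveRoot ζ 3) {a b c : ZMod 3} {t : ↥(chevE8.group KK)} (ht : t ∈ TT chevE8 KK)
    (hv : ∀ i, cX e8T t (sr i) = ζ ^ (Vf a b c i).val) (hF : ∀ X w k, aK gF (er (_root_.Cfsg.Agent.H251.L34.mt X w k)) ∈ U X (nw w)) :
    gF * phi chevE8 KK 2 1 t * gF⁻¹ = t := by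
  have key : ∀ (X : Fin 3) (w : Fin 8) (v : LK), v ∈ U X (nw w) →
      aK (gF * phi chevE8 KK 2 1 t * gF⁻¹) v = ζ ^ (vf a b c (_root_.Cfsg.Agent.H251.L34.mt X (nw w) 0)).val • v := by
    intro X w v hvv
    rw [← span_img hF X w] at hvv
    refine Submodule.span_induction ?_ ?_ ?_ ?_ hvv
    · rintro _ ⟨k, rfl⟩
      show aK (gF * phi chevE8 KK 2 1 t * gF⁻¹) (aK gF (er (_root_.Cfsg.Agent.H251.L34.mt X w k))) = _ • aK gF (er (_root_.Cfsg.Agent.H251.L34.mt X w k))
      have e1 : aK (gF * phi chevE8 KK 2 1 t * gF⁻¹) (aK gF (er (_root_.Cfsg.Agent.H251.L34.mt X w k))) = aK gF (fr (aK t (er (_root_.Cfsg.Agent.H251.L34.mt X w k)))) := by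
        rw [fr_aK, fr_er, ← aK_mul, ← aK_mul, inv_mul_cancel_right]
      rw [e1, aK_mt hζ ht hv, fr_smul, fr_er, aK_smul, pow_nw hζ]
    · rw [aK_zero, smul_zero]
    · intro x y _ _ hx hy
      rw [aK_add, hx, hy, smul_add]
    · intro r x _ hx
      rw [aK_smul, hx, smul_comm]
  apply eq_of_mt
  intro X w k
  have h1 := key X (nw w) (er (_root_.Cfsg.Agent.H251.L34.mt X w k)) (by
    rw [nw_nw]
    exact Submodule.subset_span ⟨k, rfl⟩)
  rw [nw_nw] at h1
  rw [h1, aK_mt hζ ht hv]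

end Frob

/-! ### the rational elements -/

theorem tab_w : ∀ w : Fin 8, ¬ (((((w : ℕ) + 1) / 3 : ℕ) : ZMod 3) = 0 ∧ ((((w : ℕ) + 1) % 3 : ℕ) : ZMod 3) = 0) := by
  decide +kernel

theorem pow_eq_one' {ζ : KK} (hζ : IsPrimitiveRoot ζ 3) {x : ZMod 3} (h : ζ ^ x.val = 1) : x = 0 := by
  have h1 := hζ.dvd_of_pow_eq_one _ h
  have h2 : x.val < 3 := ZMod.val_lt x
  have h3 : x.val = 0 := Nat.eq_zero_of_dvd_of_lt h1 h2
  exact (ZMod.val_eq_zero x).1 h3

theorem exists_elt {e1 e2 : E2} {z0 : ↥(chevE8.group KK)} {ζ : KK} (hζ : IsPrimitiveRoot ζ 3)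
    (h1 : z0⁻¹ * _root_.Cfsg.Agent.H939.L64.em e1 * z0 ∈ TT chevE8 KK) (h2 : z0⁻¹ * _root_.Cfsg.Agent.H939.L64.em e2 * z0 ∈ TT chevE8 KK)
    (hv1 : ∀ i, cX e8T (z0⁻¹ * _root_.Cfsg.Agent.H939.L64.em e1 * z0) (sr i) = ζ ^ (V1 i).val)
    (hv3 : ∀ i, cX e8T (z0⁻¹ * em e2 * z0) (sr i) = ζ ^ (V3 i).val)
    (hF : ∀ X w k, aK (z0⁻¹ * phi chevE8 KK 2 1 z0) (er (_root_.Cfsg.Agent.H251.L34.mt X w k)) ∈ U X (nw w)) (a b c : ZMod 3) :
    ∃ g : E2, z0⁻¹ * _root_.Cfsg.Agent.H939.L64.em g * z0 ∈ TT chevE8 KK ∧ (∀ i, cX e8T (z0⁻¹ * em g * z0) (sr i) = ζ ^ (Vf a b c i).val) ∧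
      Commute g e1 ∧ Commute g e2 ∧ ∀ v, rE e1 v = v → rE e2 v = v → rE g v = v := by
  have hch := charKK
  obtain ⟨t, ht, hv⟩ := exists_tor hζ (Vf a b c)
  have hconj := conj_eq hζ ht hv hF
  have hcard : Nat.card (ZMod 2) = 2 ^ 1 := by simp
  obtain ⟨g, hg⟩ := fix_mem e8T (algebraMap (ZMod 2) KK) 2 hcard inv_E8 (y := z0 * t * z0⁻¹) (by
    change phi chevE8 KK 2 1 (z0 * t * z0⁻¹) = z0 * t * z0⁻¹
    rw [map_mul, map_mul, map_inv]
    calc phi chevE8 KK 2 1 z0 * phi chevE8 KK 2 1 t * (phi chevE8 KK 2 1 z0)⁻¹ =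
        z0 * ((z0⁻¹ * phi chevE8 KK 2 1 z0) * phi chevE8 KK 2 1 t * (z0⁻¹ * phi chevE8 KK 2 1 z0)⁻¹) * z0⁻¹ := by group
      _ = _ := by rw [hconj])
  have hg' : _root_.Cfsg.Agent.H939.L64.em g = z0 * t * z0⁻¹ := hg
  have hgt : z0⁻¹ * em g * z0 = t := by rw [hg']; group
  have hcomm : ∀ e : E2, z0⁻¹ * _root_.Cfsg.Agent.H939.L64.em e * z0 ∈ TT chevE8 KK → Commute g e := by
    intro e he
    apply em_injective
    rw [map_mul, map_mul, hg']
    have e3 : _root_.Cfsg.Agent.H939.L64.em e = z0 * (z0⁻¹ * em e * z0) * z0⁻¹ := by group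
    rw [e3]
    generalize z0⁻¹ * em e * z0 = s at he
    calc z0 * t * z0⁻¹ * (z0 * s * z0⁻¹) = z0 * (t * s) * z0⁻¹ := by group
      _ = z0 * (s * t) * z0⁻¹ := by rw [_root_.Cfsg.Agent.H413.L64.TT_comm ht he]
      _ = _ := by group
  refine ⟨g, by rw [hgt]; exact ht, by rw [hgt]; exact hv, hcomm e1 h1, hcomm e2 h2, fun v hf1 hf2 => ?_⟩
  rw [fix_iff hg']
  have e1' : _root_.Cfsg.Agent.H939.L64.em e1 = z0 * (z0⁻¹ * em e1 * z0) * z0⁻¹ := by group
  have e2' : _root_.Cfsg.Agent.H939.L64.em e2 = z0 * (z0⁻¹ * em e2 * z0) * z0⁻¹ := by group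
  rw [fix_iff e1'] at hf1
  rw [fix_iff e2'] at hf2
  generalize aK z0⁻¹ v = u at hf1 hf2
  funext i
  rw [aK_tor ht]
  rcases i with i | s
  · exact one_mul _
  · show cX e8T t (vec chevE8 8 s) * u (Sum.inr s) = u (Sum.inr s)
    by_cases hu : u (Sum.inr s) = 0
    · rw [hu, mul_zero]
    have g1 := congrFun hf1 (Sum.inr s)
    have g2 := congrFun hf2 (Sum.inr s)
    rw [aK_tor h1] at g1
    rw [aK_tor h2] at g2
    have g1' : cX e8T (z0⁻¹ * _root_.Cfsg.Agent.H939.L64.em e1 * z0) (vec chevE8 8 s) = 1 := mul_right_cancel₀ hu (g1.trans (one_mul _).symm)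
    have g2' : cX e8T (z0⁻¹ * _root_.Cfsg.Agent.H939.L64.em e2 * z0) (vec chevE8 8 s) = 1 := mul_right_cancel₀ hu (g2.trans (one_mul _).symm)
    rw [cX_vec hζ h1 hv1] at g1'
    rw [cX_vec hζ h2 hv3] at g2'
    have k1 : w1 s = 0 := pow_eq_one' hζ g1'
    have k3 : w3 s = 0 := pow_eq_one' hζ g2'
    rw [cX_vec hζ ht hv]
    have hs : (s : ℕ) < 240 := lt_of_lt_of_eq s.2 nr
    have hz : vf a b c s = 0 := by
      rcases root_cases hs with ⟨b', hb⟩ | ⟨X, w, k, hb⟩ | ⟨w, i, hb⟩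
      · rw [hb, vf_eq, tab_dr]
        simp
      · rw [hb, (val_mt X w k).1] at k1
        rw [hb, (val_mt X w k).2] at k3
        exact absurd ⟨k1, k3⟩ (tab_w w)
      · rw [hb, (val_dp w i).1] at k1
        rw [hb, (val_dp w i).2] at k3
        exact absurd ⟨k1, k3⟩ (tab_w w)
    have hz' : (∑ i : Fin 8, Vf a b c i * ((rt chevE8 s i : ℤ) : ZMod 3)) = 0 := hz
    rw [hz', ZMod.val_zero, pow_zero, one_mul]

/-- **27 elements** -/
theorem end_u {e1 e2 : E2} {z0 : ↥(chevE8.group KK)} {ζ : KK} (hζ : IsPrimitiveRoot ζ 3)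
    (h1 : z0⁻¹ * _root_.Cfsg.Agent.H939.L64.em e1 * z0 ∈ TT chevE8 KK) (h2 : z0⁻¹ * _root_.Cfsg.Agent.H939.L64.em e2 * z0 ∈ TT chevE8 KK)
    (hv1 : ∀ i, cX e8T (z0⁻¹ * em e1 * z0) (sr i) = ζ ^ (V1 i).val)
    (hv3 : ∀ i, cX e8T (z0⁻¹ * em e2 * z0) (sr i) = ζ ^ (V3 i).val)
    (hF : ∀ X w k, aK (z0⁻¹ * phi chevE8 KK 2 1 z0) (er (_root_.Cfsg.Agent.H251.L34.mt X w k)) ∈ U X (nw w)) :
    ∃ Y : Set E2, Y.ncard = 27 ∧ (∀ g ∈ Y, Commute g e1 ∧ Commute g e2) ∧
      ∀ g ∈ Y, ∀ v, rE e1 v = v → rE e2 v = v → rE g v = v := by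
  choose G hG1 hG2 hG3 hG4 hG5 using exists_elt hζ h1 h2 hv1 hv3 hF
  let G' : ZMod 3 × ZMod 3 × ZMod 3 → E2 := fun p => G p.1 p.2.1 p.2.2
  have hinj : Function.Injective G' := by
    rintro ⟨a, b, c⟩ ⟨a', b', c'⟩ h
    have h : G a b c = G a' b' c' := h
    have key : ∀ i, Vf a b c i = Vf a' b' c' i := by
      intro i
      have h3 := hG2 a b c i
      rw [h, hG2 a' b' c' i] at h3
      exact (ZMod.val_injective 3 (hζ.pow_inj (ZMod.val_lt _) (ZMod.val_lt _) h3)).symm
    have ka : a = a' := key 6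
    have kb : b = b' := key 0
    have kc : c = c' := key 7
    rw [ka, kb, kc]
  refine ⟨Set.range G', ?_, ?_, ?_⟩
  · rw [Set.ncard_range_of_injective hinj]
    simp
  · rintro _ ⟨p, rfl⟩
    exact ⟨hG3 _ _ _, hG4 _ _ _⟩
  · rintro _ ⟨p, rfl⟩ v hv1' hv2'
    exact hG5 _ _ _ v hv1' hv2'

/-- **row E2b: END of type D, untwisted form** -/
theorem false_u {F : Type} [Field F] [Fintype F] (hF4 : Fintype.card F = 4) {H : Subgroup E2}
    {f : Cfsg.Agent.H888.L34.Model.P3 F →* E2} (S : Cfsg.Agent.H888.L34.Model.Sit H f)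
    (h0 : fixS (rE.comp f) ≠ ⊥) {s1 s2 : Cfsg.Agent.H888.L34.Model.P3 F}
    (hE : Nat.card (Subgroup.closure ({s1, s2} : Set (Cfsg.Agent.H888.L34.Model.P3 F))) = 9)
    {z0 : ↥(chevE8.group KK)} {ζ : KK} (hζ : IsPrimitiveRoot ζ 3)
    (h1 : z0⁻¹ * _root_.Cfsg.Agent.H939.L64.em (f s1) * z0 ∈ TT chevE8 KK) (h2 : z0⁻¹ * _root_.Cfsg.Agent.H939.L64.em (f s2) * z0 ∈ TT chevE8 KK)
    (hv1 : ∀ i, cX e8T (z0⁻¹ * em (f s1) * z0) (sr i) = ζ ^ (V1 i).val)
    (hv3 : ∀ i, cX e8T (z0⁻¹ * em (f s2) * z0) (sr i) = ζ ^ (V3 i).val)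
    (hF : ∀ X w k, aK (z0⁻¹ * phi chevE8 KK 2 1 z0) (er (_root_.Cfsg.Agent.H251.L34.mt X w k)) ∈ U X (nw w)) : False := by
  obtain ⟨Y, hY, hYc, hYf⟩ := end_u hζ h1 h2 hv1 hv3 hF
  refine Cfsg.Agent.H888.L34.Model.false_of_ncard S hF4 hE h0 (X := Y) (by rw [hY]; norm_num) ?_ ?_
  · intro g hg s hs
    have h3 : Subgroup.closure ({s1, s2} : Set (Cfsg.Agent.H888.L34.Model.P3 F)) ≤
        (Subgroup.centralizer ({g} : Set E2)).comap f := by
      rw [Subgroup.closure_le]
      rintro x (rfl | rfl)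
      · exact Subgroup.mem_centralizer_singleton_iff.2 (hYc g hg).1.eq.symm
      · exact Subgroup.mem_centralizer_singleton_iff.2 (hYc g hg).2.eq.symm
    exact (Subgroup.mem_centralizer_singleton_iff.1 (h3 hs)).symm
  · intro g hg v hv
    rw [hYf g hg v (hv s1) (hv s2)]
    exact hv

end Cfsg.Agent.H966.L34
end

-- part: H966/L34/EndDU2
section
/-!
# S5917, END of type D, untwisted form: adapter (helper966, row E2b)

* `card_nine` : two commuting elements of order three generate a group of order nine;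
* `U_of_IX` : `IX X w v → v ∈ U X w`;
* `false_shift` : the contradiction from helper942's `EF.frob_shift` with `a = 0`.
-/

set_option autoImplicit false
set_option linter.unusedSectionVars false
set_option maxRecDepth 100000

namespace Cfsg.Agent.H966.L34

open Cfsg Cfsg.Lie Cfsg.Lie.ChevalleyDatum
open Cfsg.Agent.ChevalleyStructure.Elts Cfsg.Agent.ChevalleyStructure.CoxeterGeom
open Cfsg.Agent.Tits.Roots Cfsg.Agent.Nodes.Reps
open Cfsg.Agent.BpExc.TorChev
open Cfsg.Agent.H129.TorusUntw (phi)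
open Cfsg.Agent.H129.TorusChar (cX)
open Cfsg.Agent.BpExc.RowsUntw (e8T)
open Cfsg.Agent.H939.L64
open Cfsg.Agent.H413.L16 (er er_of fr_er)
open Cfsg.Agent.H201.L34 (V1)
open Cfsg.Agent.H251.L34 (V3 nw mt_lt)
open Cfsg.Agent.H942.DF

/-- two commuting independent elements of order three generate a group of order nine -/
theorem card_nine {G : Type*} [Group G] {s1 s2 : G} (o1 : orderOf s1 = 3) (o2 : orderOf s2 = 3) (hc : Commute s1 s2)
    (hn : s2 ∉ Subgroup.zpowers s1) : Nat.card (Subgroup.closure ({s1, s2} : Set G)) = 9 := by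
  have hcom : ∀ (x : Subgroup.zpowers s1) (y : Subgroup.zpowers s2),
      Commute ((Subgroup.zpowers s1).subtype x) ((Subgroup.zpowers s2).subtype y) := by
    rintro ⟨x, i, rfl⟩ ⟨y, j, rfl⟩
    exact hc.zpow_zpow i j
  let φ := (Subgroup.zpowers s1).subtype.noncommCoprod (Subgroup.zpowers s2).subtype hcom
  have hr : φ.range = Subgroup.closure {s1, s2} := by
    rw [MonoidHom.noncommCoprod_range, Subgroup.range_subtype, Subgroup.range_subtype,
      Subgroup.zpowers_eq_closure, Subgroup.zpowers_eq_closure, ← Subgroup.closure_union, Set.singleton_union]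
  have hp : Fact (Nat.Prime 3) := ⟨Nat.prime_three⟩
  have hinj : Function.Injective φ := by
    rw [injective_iff_map_eq_one]
    rintro ⟨⟨x, hx⟩, ⟨y, hy⟩⟩ h
    have h : x * y = 1 := h
    have hyx : y = x⁻¹ := (inv_eq_of_mul_eq_one_right h).symm
    by_cases hy1 : y = 1
    · have hx1 : x = 1 := by rw [hy1, mul_one] at h; exact h
      exact Prod.ext (Subtype.ext hx1) (Subtype.ext hy1)
    · exfalso
      apply hn
      have hy3 : orderOf y = 3 := by
        obtain ⟨j, rfl⟩ := Subgroup.mem_zpowers_iff.1 hy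
        refine orderOf_eq_prime ?_ hy1
        rw [← zpow_natCast, ← zpow_mul, mul_comm, zpow_mul, zpow_natCast, ← o2, pow_orderOf_eq_one, one_zpow]
      have hle : Subgroup.zpowers y ≤ Subgroup.zpowers s2 := Subgroup.zpowers_le.2 hy
      have hfin : Finite (Subgroup.zpowers s2) := by
        apply Nat.finite_of_card_ne_zero
        rw [Nat.card_zpowers, o2]
        norm_num
      have heq : Subgroup.zpowers y = Subgroup.zpowers s2 := by
        apply Subgroup.eq_of_le_of_card_ge hle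
        rw [Nat.card_zpowers, Nat.card_zpowers, hy3, o2]
      have h2 : s2 ∈ Subgroup.zpowers y := heq ▸ Subgroup.mem_zpowers s2
      refine (Subgroup.zpowers_le.2 ?_ : Subgroup.zpowers y ≤ Subgroup.zpowers s1) h2
      rw [hyx]
      exact inv_mem hx
  have h1 : Nat.card (Subgroup.zpowers s1 × Subgroup.zpowers s2) = 9 := by
    rw [Nat.card_prod, Nat.card_zpowers, Nat.card_zpowers, o1, o2]
  rw [← hr, ← h1]
  exact (Nat.card_congr (MonoidHom.ofInjective hinj).toEquiv).symm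

theorem U_of_IX {X : Fin 3} {w : Fin 8} {v : LK} (h : IX X w v) : v ∈ U X w := by
  obtain ⟨h1, h2⟩ := h
  have hnr : chevE8.nroots = 240 := Cfsg.Agent.H413.L16.nr
  have key : v = ∑ k : Fin 8, v (Sum.inr ⟨H251.L34.mt X w k, lt_of_lt_of_eq (mt_lt X w k) hnr.symm⟩) •
      er (H251.L34.mt X w k) := by
    funext i
    rw [Finset.sum_apply]
    rcases i with i | s
    · rw [h1 i, Finset.sum_eq_zero]
      intro k _
      rw [Pi.smul_apply, er_of (lt_of_lt_of_eq (mt_lt X w k) hnr.symm), Pi.single_eq_of_ne (by simp), smul_zero]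
    · by_cases hk : ∃ k, (s : ℕ) = H251.L34.mt X w k
      · obtain ⟨k, hk⟩ := hk
        rw [Finset.sum_eq_single k]
        · rw [Pi.smul_apply, er_of (lt_of_lt_of_eq (mt_lt X w k) hnr.symm)]
          have hs : s = ⟨H251.L34.mt X w k, lt_of_lt_of_eq (mt_lt X w k) hnr.symm⟩ := Fin.ext hk
          rw [← hs, Pi.single_eq_same, smul_eq_mul, mul_one]
        · intro k' _ hne
          rw [Pi.smul_apply, er_of (lt_of_lt_of_eq (mt_lt X w k') hnr.symm), Pi.single_eq_of_ne, smul_zero]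
          intro h3
          have h4 : (s : ℕ) = H251.L34.mt X w k' := congrArg Fin.val (Sum.inr.inj h3)
          exact hne (H251.L34.mt_inj _ _ _ _ _ _ (h4.symm.trans hk)).2.2
        · intro h3
          exact absurd (Finset.mem_univ k) h3
      · have h3 : v (Sum.inr s) = 0 := by
          by_contra h4
          exact hk (h2 s h4)
        rw [h3, Finset.sum_eq_zero]
        intro k _
        rw [Pi.smul_apply, er_of (lt_of_lt_of_eq (mt_lt X w k) hnr.symm), Pi.single_eq_of_ne, smul_zero]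
        intro h5
        exact hk ⟨k, congrArg Fin.val (Sum.inr.inj h5)⟩
  rw [key]
  exact Submodule.sum_mem _ fun k _ => Submodule.smul_mem _ _ (Submodule.subset_span ⟨k, rfl⟩)

theorem IX_er (X : Fin 3) (w k : Fin 8) : IX X w (er (H251.L34.mt X w k)) := by
  have hnr : chevE8.nroots = 240 := Cfsg.Agent.H413.L16.nr
  rw [er_of (lt_of_lt_of_eq (mt_lt X w k) hnr.symm)]
  refine ⟨fun i => Pi.single_eq_of_ne (by simp) _, fun s hs => ⟨k, ?_⟩⟩
  by_contra hne
  apply hs
  apply Pi.single_eq_of_ne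
  intro h
  exact hne (congrArg Fin.val (Sum.inr.inj h))

/-- **row E2b** over helper942's interface -/
theorem false_shift {F : Type} [Field F] [Fintype F] (hF4 : Fintype.card F = 4) {H : Subgroup E2}
    {f : Cfsg.Agent.H888.L34.Model.P3 F →* E2} (S : Cfsg.Agent.H888.L34.Model.Sit H f)
    (h0 : fixS (rE.comp f) ≠ ⊥) {s1 s2 : Cfsg.Agent.H888.L34.Model.P3 F}
    (o1 : s1 ^ 3 = 1) (o2 : s2 ^ 3 = 1) (hn1 : s1 ≠ 1) (hc : Commute s1 s2) (hn2 : s2 ∉ Subgroup.zpowers s1)
    {z0 : ↥(chevE8.group KK)} {ζ : KK}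
    (h : EF (z0⁻¹ * _root_.Cfsg.Agent.H939.L64.em (f s1) * z0) (z0⁻¹ * _root_.Cfsg.Agent.H939.L64.em (f s2) * z0) ζ)
    (hF : ∀ X w v, IX X w v → IX X (nw w) (aK (z0⁻¹ * phi chevE8 KK 2 1 z0) (fr v))) : False := by
  have hp : Fact (Nat.Prime 3) := ⟨Nat.prime_three⟩
  have hn2' : s2 ≠ 1 := by
    rintro rfl
    exact hn2 (one_mem _)
  refine false_u hF4 S h0 (card_nine (orderOf_eq_prime o1 hn1) (orderOf_eq_prime o2 hn2') hc hn2) h.hζ h.h1 h.h2
    h.v1 h.v2 fun X w k => ?_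
  have h1 := hF X w _ (IX_er X w k)
  rw [fr_er] at h1
  exact U_of_IX h1

end Cfsg.Agent.H966.L34
end

-- part: H966/L34/EndDU3
section
/-!
# S5917, END of type D, untwisted form: final form over helper939's `Fsit` (helper966, row E2b)

* `ef_of` : the frame `EF` of a situation `Fsit V3`;
* `fixS_ne` : `fixAll (rho f) ≠ ⊥ → fixS (rE.comp f) ≠ ⊥`;
* `endD_u` : the contradiction in the untwisted form.
-/

set_option autoImplicit false
set_option linter.unusedSectionVars false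
set_option maxRecDepth 100000

namespace Cfsg.Agent.H966.L34

open Cfsg Cfsg.Lie Cfsg.Lie.ChevalleyDatum
open Cfsg.Agent.H691.L34
open Cfsg.Agent.H129.TorusUntw (phi)
open Cfsg.Agent.H939.L64
open Cfsg.Agent.H939.L34 (Fsit UQ)
open Cfsg.Agent.H437.L34 (fg rho)
open Cfsg.Agent.H888.L34.Model (Sit P3)
open Cfsg.Agent.H251.L34 (V3 nw)
open Cfsg.Agent.H942.DF

variable {F : Type} [Field F] {H : Subgroup E2} {f : P3 F →* E2} {z : ↥(chevE8.group KK)} {ζ : KK}
  {g1 g2 qi qj : G3 F}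

/-- the frame -/
theorem ef_of (h : Fsit V3 H f z ζ g1 g2 qi qj) :
    EF (z⁻¹ * _root_.Cfsg.Agent.H939.L64.em (fg f g1) * z) (z⁻¹ * _root_.Cfsg.Agent.H939.L64.em (fg f g2) * z) ζ :=
  ⟨h.prim, h.m1, h.m2, h.v1, h.v2⟩

/-- the fixed vectors over the big field -/
theorem fixS_ne (h0 : fixAll (rho f) ≠ ⊥) : fixS (rE.comp f) ≠ ⊥ := by
  intro e
  apply h0
  rw [Cfsg.Agent.H437.L34.fixAll_rho_eq_bot]
  intro v hv
  apply Cfsg.Agent.H437.L34.up_injective
  rw [Cfsg.Agent.H437.L34.up_zero]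
  have h1 : up v ∈ fixS (rE.comp f) := by
    intro s
    show rE (f s) (up v) = up v
    rw [rE_apply, Cfsg.Agent.H436.L34.aK_em_up, hv s]
  rw [e] at h1
  exact (Submodule.mem_bot _).1 h1

variable [Fintype F]

/-- **row E2b**: the untwisted form of type D is impossible -/
theorem endD_u (hF4 : Fintype.card F = 4) (h : Fsit V3 H f z ζ g1 g2 qi qj) (h0 : fixAll (rho f) ≠ ⊥)
    (hF : ∀ X w v, IX X w v → IX X (nw w) (aK (z⁻¹ * phi chevE8 KK 2 1 z) (fr v))) : False := by
  obtain ⟨-, -, -, -, -, -, -, r1, r2, r3⟩ := h.uq.rel f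
  obtain ⟨i1, i2⟩ := h.uq.indep h.sit.inj
  have hf := h.sit.inj
  refine false_shift hF4 h.sit (fixS_ne h0) (s1 := QuotientGroup.mk' _ g1) (s2 := QuotientGroup.mk' _ g2)
    (hf ?_) (hf ?_) (fun e => i1 ?_) ?_ ?_ (ef_of h) hF
  · rw [map_pow, map_one]
    exact r1
  · rw [map_pow, map_one]
    exact r2
  · show f (QuotientGroup.mk' _ g1) = 1
    rw [e, map_one]
  · apply hf
    rw [map_mul, map_mul]
    exact r3
  · intro hm
    obtain ⟨k, hk⟩ := (Submonoid.mem_powers_iff _ _).1 (by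
      have := mem_powers_iff_mem_zpowers (G := P3 F) (x := QuotientGroup.mk' _ g1) (y := QuotientGroup.mk' _ g2)
      exact this.2 hm)
    apply i2 k
    show f (QuotientGroup.mk' _ g2) = (f (QuotientGroup.mk' _ g1)) ^ k
    rw [← hk, map_pow]

end Cfsg.Agent.H966.L34
end

-- part: H940/L34/SqZ
section
/-!
# S5917, type D, row (ii'): squares in the derived algebra (helper940)

`sqz_of` : `x ∈ Mp` acting with scalar square on every module `(X, w)`: `sq x = hx d` with `d 0 = d 1 = 0`.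
-/

set_option autoImplicit false
set_option maxRecDepth 100000

namespace Cfsg.Agent.H940.L34.Cyc

open Cfsg Cfsg.Lie
open Cfsg.Agent.H939.L64 Cfsg.Agent.H413.L16 Cfsg.Agent.H251.L34 Cfsg.Agent.H876.L64
open Cfsg.Agent.H942.DF (EF NG VV TZ Mp hx RX zero_cases slt hv_inl)

variable {t1 t2 : ↥(chevE8.group KK)} {ζ : KK}

theorem z00 (h : EF t1 t2 ζ) {m : LK} (hm : VV t1 t2 ζ 0 0 m) : Cfsg.Agent.H400.L34.Z00 m := by
  intro s hs
  by_contra h0
  obtain ⟨e1, e3⟩ := h.root hm h0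
  obtain ⟨b, hb⟩ := zero_cases (slt s) e1 e3
  exact hs b hb

theorem VV_br {u v : LK} (hu : VV t1 t2 ζ 0 0 u) (hv' : VV t1 t2 ζ 0 0 v) : VV t1 t2 ζ 0 0 (brK u v) := by
  rw [Cfsg.Agent.H942.DF.VV00] at hu hv' ⊢
  rw [aK_brK, aK_brK, hu.1, hu.2, hv'.1, hv'.2]
  exact ⟨rfl, rfl⟩

/-- the square of an element of the derived algebra -/
theorem sq_Mp (h : EF t1 t2 ζ) {x : LK} (hx' : x ∈ Mp t1 t2 ζ) (hm : VV t1 t2 ζ 0 0 x) : H201.L34.sq x ∈ Mp t1 t2 ζ := by
  have h1 := (sq_mod h hm).2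
  have h2 : hv (fun i => x (Sum.inl i) ^ 2) ∈ Mp t1 t2 ζ := by
    refine hv_mem h ?_
    obtain ⟨k0, k5, k6, k7⟩ := Mp_le h hx'
    have e : ∀ k, co (hv fun i => x (Sum.inl i) ^ 2) k = co x k ^ 2 := fun k => rfl
    refine ⟨?_, ?_, ?_, ?_⟩
    · rw [e, k0]; ring
    · rw [e, k5]; ring
    · rw [e, k6]; ring
    · rw [e, k7]; ring
  have h3 : H201.L34.sq x = (H201.L34.sq x + hv (fun i => x (Sum.inl i) ^ 2)) + hv (fun i => x (Sum.inl i) ^ 2) := by
    rw [add_assoc, add_self', add_zero]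
  rw [h3]
  exact add_mem h1 h2

/-- the elements fixed by `E` preserve the modules; an element acting as a scalar on them is central -/
theorem central_of (h : EF t1 t2 ζ) {y : LK} (hy : VV t1 t2 ζ 0 0 y)
    (hs : ∀ X w, ∃ c : KK, ∀ k, brK y (er (_root_.Cfsg.Agent.H251.L34.mt X w k)) = c • er (_root_.Cfsg.Agent.H251.L34.mt X w k)) : ∃ d, y = hx d := by
  apply h.exists_hx
  refine ⟨hy, fun m hm => ?_⟩
  refine Cfsg.Agent.H400.L34.faith (z00 h (VV_br hy hm)) fun X w k => ?_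
  obtain ⟨c, hc⟩ := hs X w
  have h1 : brK y (brK m (er (_root_.Cfsg.Agent.H251.L34.mt X w k))) = c • brK m (er (_root_.Cfsg.Agent.H251.L34.mt X w k)) := by
    have e : ∀ v, brM y v = brK y v := fun v => rfl
    rw [← e, Cfsg.Agent.H400.L34.br_mt (z00 h hm) X w k, map_add, map_smul, map_sum, smul_add, Finset.smul_sum, e, hc,
      smul_comm]
    congr 1
    refine Finset.sum_congr rfl fun b _ => ?_
    rw [map_smul, e]
    split_ifs with hb
    · rw [hc, smul_comm]
    · rw [H201.L34.br_zero_r, smul_zero, smul_zero]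
  have h2 := jac y m (er (_root_.Cfsg.Agent.H251.L34.mt X w k))
  rw [h1, hc, H201.L34.br_smul_r] at h2
  have h3 : brK (brK y m) (er (_root_.Cfsg.Agent.H251.L34.mt X w k)) = brK (brK y m) (er (_root_.Cfsg.Agent.H251.L34.mt X w k)) + c • brK m (er (_root_.Cfsg.Agent.H251.L34.mt X w k)) +
      c • brK m (er (_root_.Cfsg.Agent.H251.L34.mt X w k)) := by
    rw [add_assoc, add_self', add_zero]
  rw [h3, ← h2, add_self']

/-- **(ii') from scalar squares** -/
theorem sqz_of (h : EF t1 t2 ζ) {x : LK} (hx' : x ∈ Mp t1 t2 ζ) (hm : VV t1 t2 ζ 0 0 x)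
    (hs : ∀ X w, ∃ c : KK, ∀ k, brK x (brK x (er (_root_.Cfsg.Agent.H251.L34.mt X w k))) = c • er (_root_.Cfsg.Agent.H251.L34.mt X w k)) :
    ∃ d : Fin 4 → KK, d 0 = 0 ∧ d 1 = 0 ∧ H201.L34.sq x = hx d := by
  obtain ⟨d, hd⟩ := central_of h (VV_sq h hm) (y := H201.L34.sq x) (by
    intro X w
    obtain ⟨c, hc⟩ := hs X w
    exact ⟨c, fun k => by rw [H201.L34.br_sq, hc]⟩)
  have h1 := h.Z2_of (x := d) (by rw [← hd]; exact sq_Mp h hx' hm)
  exact ⟨d, h1.1, h1.2, hd⟩

end Cfsg.Agent.H940.L34.Cyc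
end

-- part: H940/L34/NZero
section
/-!
# Nilpotent operators commuting with a quaternion group on a free orthogonal space of dimension 8 (helper940, for S5917)

`i`, `j` isometries generating a quaternion group, `f` a vector with non-zero trace `tr f`. `TT f` : the operators `X`
commuting with `i`, `j` with `b (X v) v = 0` for all `v` and `b (X f) (tr f) = 0`.
* `nil_mem` : the nilpotent `X` commuting with `i`, `j` with `b (X v) v = μ q v` belong to `TT f`;
* `finrank_TT` : `finrank (TT f) ≤ 3`;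
* `scalar_TT` : `c • 1 ∈ TT f` only for `c = 0`.
-/

set_option autoImplicit false

namespace Cfsg.Agent.H940.L34.NZero

open Cfsg.Agent.H940.L34

variable {K V : Type*} [Field K] [CharP K 2] [AddCommGroup V] [Module K V]

/-- the trace of a vector -/
def tr (i j z : V →ₗ[K] V) (f : V) : V := f + z f + (i f + i (z f)) + (j f + j (z f)) + (j (i f) + j (i (z f)))

/-- the data -/
structure Dat (i j z : V →ₗ[K] V) (b : V →ₗ[K] V →ₗ[K] K) (q : V → K) (f : V) : Prop where
  h : Q8 i j z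
  hq : ∀ v w, q (v + w) = q v + q w + b v w
  qi : ∀ v, q (i v) = q v
  qj : ∀ v, q (j v) = q v
  hb : ∀ v, (∀ w, b w v = 0) → v = 0
  hV : Module.finrank K V = 8
  hf : tr i j z f ≠ 0

namespace Dat

variable {i j z : V →ₗ[K] V} {b : V →ₗ[K] V →ₗ[K] K} {q : V → K} {f : V}

theorem KK2 (a : K) : a + a = 0 := CharTwo.add_self_eq_zero a

theorem sym (D : Dat i j z b q f) (v w : V) : b v w = b w v := by
  have h1 := D.hq v w
  have h2 := D.hq w v
  rw [add_comm w v, h1] at h2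
  linear_combination h2

theorem alt (D : Dat i j z b q f) (v : V) : b v v = 0 := by
  have h0 : q 0 = 0 := by
    have h1 := D.hq 0 0
    rw [add_zero, map_zero, add_zero] at h1
    linear_combination -h1
  have h2 : v + v = 0 := by rw [← two_smul K v, CharTwo.two_eq_zero, zero_smul]
  have h1 := D.hq v v
  rw [h2, h0] at h1
  linear_combination -h1 - KK2 (q v)

theorem bi (D : Dat i j z b q f) (v w : V) : b (i v) (i w) = b v w := by
  have h1 := D.hq (i v) (i w)
  rw [← map_add, D.qi, D.qi, D.qi, D.hq] at h1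
  linear_combination -h1

theorem bj (D : Dat i j z b q f) (v w : V) : b (j v) (j w) = b v w := by
  have h1 := D.hq (j v) (j w)
  rw [← map_add, D.qj, D.qj, D.qj, D.hq] at h1
  linear_combination -h1

theorem bz (D : Dat i j z b q f) (v w : V) : b (z v) (z w) = b v w := by
  rw [← D.h.ii, ← D.h.ii, D.bi, D.bi]

/-- moving operators -/
theorem mz (D : Dat i j z b q f) (v w : V) : b (z v) w = b v (z w) := by rw [← D.bz (z v), D.h.zz]

theorem mi (D : Dat i j z b q f) (v w : V) : b (i v) w = b v (i (z w)) := by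
  rw [← D.bi v (i (z w)), D.h.ii, D.h.zz]

theorem mj (D : Dat i j z b q f) (v w : V) : b (j v) w = b v (j (z w)) := by
  rw [← D.bj v (j (z w)), D.h.jj, D.h.zz]

/-- spanning -/
theorem eq_zero (D : Dat i j z b q f) {v : V} (h1 : b v f = 0) (hz : b v (z f) = 0) (hi : b v (i f) = 0)
    (hiz : b v (i (z f)) = 0) (hj : b v (j f) = 0) (hjz : b v (j (z f)) = 0) (hji : b v (j (i f)) = 0)
    (hjiz : b v (j (i (z f))) = 0) : v = 0 := by
  have hi4 : ∀ x, i (i (i (i x))) = x := fun x => by rw [D.h.ii, D.h.ii, D.h.zz]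
  have hjj : ∀ x, j (j x) = i (i x) := fun x => by rw [D.h.ii, D.h.jj]
  have hij : ∀ x, i (j x) = i (i (j (i x))) := fun x => by rw [D.h.ji, D.h.ii, D.h.zz]
  have hzi : ∀ x, i (i (i x)) = i (z x) := fun x => by rw [D.h.ii x]
  have hx : Cfsg.Agent.H633.L34.nn i (Cfsg.Agent.H633.L34.al j (Cfsg.Agent.H633.L34.al i f)) ≠ 0 := by
    have h := D.hf
    intro h0
    apply h
    rw [← h0]
    simp only [Cfsg.Agent.H633.L34.nn_apply, Cfsg.Agent.H633.L34.al_apply, map_add, D.h.ii, tr, D.h.zi, D.h.zj]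
    abel
  have hs := Cfsg.Agent.H633.L34.fam_span hi4 hjj hij D.hV hx
  refine D.hb v fun w => ?_
  have hw : w ∈ Submodule.span K (Set.range (Cfsg.Agent.H633.L34.fam i j f)) := by rw [hs]; trivial
  have hle : Submodule.span K (Set.range (Cfsg.Agent.H633.L34.fam i j f)) ≤ LinearMap.ker (b v) := by
    rw [Submodule.span_le]
    rintro _ ⟨k, rfl⟩
    rw [SetLike.mem_coe, LinearMap.mem_ker]
    (revert k; simp only [Cfsg.Agent.H633.L34.fam, Cfsg.Agent.H633.L34.nn_apply, Cfsg.Agent.H633.L34.al_apply, map_add, D.h.ii, D.h.zi, D.h.zj, h1, hz, hi, hiz, hj, hjz, hji, hjiz, _root_.Fin.forall_fin_succ, Fin.isValue, _root_.Matrix.cons_val_zero, _root_.Matrix.cons_val_succ, _root_.add_zero, _root_.Matrix.cons_val_fin_one, _root_.implies_true, _root_.and_self])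
  rw [D.sym]
  exact hle hw

theorem tr_i (D : Dat i j z b q f) : i (tr i j z f) = tr i j z f := by
  simp only [tr, map_add, D.h.zi, D.h.zj, D.h.ji', D.h.ii, D.h.jj, D.h.zz]
  abel

theorem tr_j (D : Dat i j z b q f) : j (tr i j z f) = tr i j z f := by
  simp only [tr, map_add, D.h.zi, D.h.zj, D.h.ji', D.h.ii, D.h.jj, D.h.zz]
  abel

theorem tr_z (D : Dat i j z b q f) : z (tr i j z f) = tr i j z f := by
  rw [← D.h.ii, D.tr_i, D.tr_i]

/-- the form of a vector with the trace -/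
theorem b_tr (D : Dat i j z b q f) (v : V) : b v (tr i j z f) = b v f + b v (z f) + (b v (i f) + b v (i (z f))) +
    (b v (j f) + b v (j (z f))) + (b v (j (i f)) + b v (j (i (z f)))) := by
  simp only [tr, map_add]

theorem b_g_tr (D : Dat i j z b q f) (v : V) : b (i v) (tr i j z f) = b v (tr i j z f) ∧
    b (j v) (tr i j z f) = b v (tr i j z f) ∧ b (z v) (tr i j z f) = b v (tr i j z f) := by
  refine ⟨?_, ?_, ?_⟩
  · rw [D.mi, D.tr_z, D.tr_i]
  · rw [D.mj, D.tr_z, D.tr_j]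
  · rw [D.mz, D.tr_z]

theorem kap_ne (D : Dat i j z b q f) : b f (tr i j z f) ≠ 0 := by
  intro h0
  apply D.hf
  have hi := fun v => (D.b_g_tr v).1
  have hj := fun v => (D.b_g_tr v).2.1
  have hz := fun v => (D.b_g_tr v).2.2
  apply D.eq_zero
  all_goals rw [D.sym]
  all_goals simp only [hi, hj, hz, h0]

/-- a vector fixed by the group -/
theorem fixed_eq (D : Dat i j z b q f) {v : V} (h1 : i v = v) (h2 : j v = v) : ∃ c : K, v = c • tr i j z f := by
  have hz : z v = v := by rw [← D.h.ii, h1, h1]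
  refine ⟨b f v / b f (tr i j z f), ?_⟩
  rw [← sub_eq_zero]
  have key : ∀ u, b u v = b f v → b u (tr i j z f) = b f (tr i j z f) →
      b (v - (b f v / b f (tr i j z f)) • tr i j z f) u = 0 := by
    intro u h3 h4
    rw [map_sub, LinearMap.sub_apply, map_smul, LinearMap.smul_apply, D.sym v, D.sym (tr i j z f), h3, h4, smul_eq_mul,
      div_mul_cancel₀ _ D.kap_ne, sub_self]
  have gi : ∀ u, b (i u) v = b u v := fun u => by rw [D.mi, hz, h1]
  have gj : ∀ u, b (j u) v = b u v := fun u => by rw [D.mj, hz, h2]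
  have gz : ∀ u, b (z u) v = b u v := fun u => by rw [D.mz, hz]
  have hi := fun v => (D.b_g_tr v).1
  have hj := fun v => (D.b_g_tr v).2.1
  have hz' := fun v => (D.b_g_tr v).2.2
  apply D.eq_zero
  all_goals apply key
  all_goals simp only [gi, gj, gz, hi, hj, hz']

end Dat

section TT

variable (i j z : V →ₗ[K] V) (b : V →ₗ[K] V →ₗ[K] K) (f : V)

/-- the space of operators -/
def TT : Submodule K (V →ₗ[K] V) where
  carrier := {X | (∀ v, X (i v) = i (X v)) ∧ (∀ v, X (j v) = j (X v)) ∧ (∀ v, b (X v) v = 0) ∧ b (X f) (tr i j z f) = 0}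
  zero_mem' := by
    refine ⟨fun v => ?_, fun v => ?_, fun v => ?_, ?_⟩ <;> simp only [_root_.LinearMap.zero_apply, _root_.map_zero]
  add_mem' := by
    rintro X Y ⟨h1, h2, h3, h4⟩ ⟨k1, k2, k3, k4⟩
    refine ⟨fun v => ?_, fun v => ?_, fun v => ?_, ?_⟩
    · rw [LinearMap.add_apply, LinearMap.add_apply, h1, k1, map_add]
    · rw [LinearMap.add_apply, LinearMap.add_apply, h2, k2, map_add]
    · rw [LinearMap.add_apply, map_add, LinearMap.add_apply, h3, k3, add_zero]
    · rw [LinearMap.add_apply, map_add, LinearMap.add_apply, h4, k4, add_zero]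
  smul_mem' := by
    rintro c X ⟨h1, h2, h3, h4⟩
    refine ⟨fun v => ?_, fun v => ?_, fun v => ?_, ?_⟩
    · rw [LinearMap.smul_apply, LinearMap.smul_apply, h1, map_smul]
    · rw [LinearMap.smul_apply, LinearMap.smul_apply, h2, map_smul]
    · rw [LinearMap.smul_apply, map_smul, LinearMap.smul_apply, h3, smul_zero]
    · rw [LinearMap.smul_apply, map_smul, LinearMap.smul_apply, h4, smul_zero]

end TT

variable {i j z : V →ₗ[K] V} {b : V →ₗ[K] V →ₗ[K] K} {q : V → K} {f : V}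

theorem mem_TT {X : V →ₗ[K] V} : X ∈ TT i j z b f ↔ (∀ v, X (i v) = i (X v)) ∧ (∀ v, X (j v) = j (X v)) ∧
    (∀ v, b (X v) v = 0) ∧ b (X f) (tr i j z f) = 0 := Iff.rfl

/-- the polar form of `b (X v) v = μ q v` -/
theorem polar (D : Dat i j z b q f) {X : V →ₗ[K] V} {μ : K} (h : ∀ v, b (X v) v = μ * q v) (v w : V) :
    b (X v) w + b (X w) v = μ * b v w := by
  have h1 := h (v + w)
  simp only [map_add, LinearMap.add_apply] at h1
  rw [h, h, D.hq] at h1
  linear_combination h1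

end Cfsg.Agent.H940.L34.NZero
end

-- part: H940/L34/NZeroB
section
/-!
# Operators commuting with the quaternion group: squares (helper940, for S5917)

* `TT_sq` : `X ∈ TT f` has square zero;
* `sq_scalar` : `X` commuting with `i`, `j`, `b (X v) v = 0` for all `v`: `X ∘ X` is a scalar.
-/

set_option autoImplicit false

namespace Cfsg.Agent.H940.L34.NZero

open Cfsg.Agent.H940.L34

variable {K V : Type*} [Field K] [CharP K 2] [AddCommGroup V] [Module K V]
  {i j z : V →ₗ[K] V} {b : V →ₗ[K] V →ₗ[K] K} {q : V → K} {f : V}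

theorem add2 (K : Type*) [Field K] [CharP K 2] {V : Type*} [AddCommGroup V] [Module K V] (v : V) : v + v = 0 := by
  rw [← two_smul K v, CharTwo.two_eq_zero, zero_smul]

/-- symmetry -/
theorem self_adj (D : Dat i j z b q f) {X : V →ₗ[K] V} (ha : ∀ v, b (X v) v = 0) (v w : V) : b (X v) w = b (X w) v := by
  have h1 := polar D (μ := 0) (fun v => by rw [ha, zero_mul]) v w
  linear_combination h1 - Dat.KK2 (b (X w) v)

/-- the values on the basis -/
theorem TT_vals (D : Dat i j z b q f) {X : V →ₗ[K] V} (hX : X ∈ TT i j z b f) : b (X f) f = 0 ∧ b (X f) (z f) = 0 ∧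
    b (X f) (i (z f)) = b (X f) (i f) ∧ b (X f) (j (z f)) = b (X f) (j f) ∧
    b (X f) (j (i (z f))) = b (X f) (j (i f)) := by
  obtain ⟨hi, hj, ha, ht⟩ := mem_TT.1 hX
  have hp := self_adj D ha
  have e1 : b (X f) (i (z f)) = b (X f) (i f) := by rw [← D.mi, ← hi, hp]
  have e2 : b (X f) (j (z f)) = b (X f) (j f) := by rw [← D.mj, ← hj, hp]
  have e3 : b (X f) (j (i (z f))) = b (X f) (j (i f)) := by
    rw [D.h.ji', D.h.zz, hp, hi, hj, D.mi, D.mj, D.h.zi, D.h.zz]
  have e4 : b (X f) f = 0 := ha f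
  refine ⟨e4, ?_, e1, e2, e3⟩
  have h1 := D.b_tr (X f)
  rw [ht, e1, e2, e3, e4] at h1
  linear_combination -h1 - Dat.KK2 (b (X f) (i f)) - Dat.KK2 (b (X f) (j f)) - Dat.KK2 (b (X f) (j (i f)))

theorem TT_f (D : Dat i j z b q f) {X : V →ₗ[K] V} (hX : X ∈ TT i j z b f) : X f + z (X f) = 0 := by
  obtain ⟨e1, e2, e3, e4, e5⟩ := TT_vals D hX
  have k : ∀ u, b (X f + z (X f)) u = b (X f) u + b (X f) (z u) := fun u => by
    rw [map_add, LinearMap.add_apply, D.mz]
  have zji : ∀ u, z (j (i u)) = j (i (z u)) := fun u => by rw [D.h.zj, D.h.zi]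
  apply D.eq_zero
  · rw [k, e1, e2, add_zero]
  · rw [k, D.h.zz, e1, e2, add_zero]
  · rw [k, D.h.zi, e3, Dat.KK2]
  · rw [k, D.h.zi, D.h.zz, e3, Dat.KK2]
  · rw [k, D.h.zj, e4, Dat.KK2]
  · rw [k, D.h.zj, D.h.zz, e4, Dat.KK2]
  · rw [k, zji, e5, Dat.KK2]
  · rw [k, zji, D.h.zz, e5, Dat.KK2]

theorem TT_im (D : Dat i j z b q f) {X : V →ₗ[K] V} (hX : X ∈ TT i j z b f) (v : V) : X v + z (X v) = 0 := by
  obtain ⟨hi, hj, ha, ht⟩ := mem_TT.1 hX
  have hp := self_adj D ha
  have hz : ∀ v, X (z v) = z (X v) := fun v => by rw [← D.h.ii, ← D.h.ii, hi, hi]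
  have h0 := TT_f D hX
  have h1 : z (X f) = X f := by
    have := congrArg (fun y => X f + y) h0
    simp only [add_zero] at this
    rwa [← add_assoc, add2 K, zero_add] at this
  have k : ∀ u, b (X v + z (X v)) u = b (X u + z (X u)) v := fun u => by
    rw [map_add, LinearMap.add_apply, D.mz, hp v u, hp v (z u), map_add, LinearMap.add_apply, hz]
  apply D.eq_zero
  all_goals rw [k]
  all_goals simp only [hi, hj, hz, D.h.zi, D.h.zj, h1, D.h.zz, add2 K, map_zero, LinearMap.zero_apply]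

/-- vectors fixed by `z` -/
theorem ker_z (D : Dat i j z b q f) {u : V} (hu : u + z u = 0) : ∃ v, u = v + z v := by
  have hi4 : ∀ x, i (i (i (i x))) = x := fun x => by rw [D.h.ii, D.h.ii, D.h.zz]
  have hjj : ∀ x, j (j x) = i (i x) := fun x => by rw [D.h.ii, D.h.jj]
  have hij : ∀ x, i (j x) = i (i (j (i x))) := fun x => by rw [D.h.ji, D.h.ii, D.h.zz]
  have hx : Cfsg.Agent.H633.L34.nn i (Cfsg.Agent.H633.L34.al j (Cfsg.Agent.H633.L34.al i f)) ≠ 0 := by
    have h := D.hf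
    intro h0
    apply h
    rw [← h0]
    simp only [Cfsg.Agent.H633.L34.nn_apply, Cfsg.Agent.H633.L34.al_apply, map_add, D.h.ii, tr, D.h.zi, D.h.zj]
    abel
  have hs := Cfsg.Agent.H633.L34.fam_span hi4 hjj hij D.hV hx
  have hu' : u ∈ Submodule.span K (Set.range (Cfsg.Agent.H633.L34.fam i j f)) := by rw [hs]; trivial
  obtain ⟨c, hc⟩ := (Submodule.mem_span_range_iff_exists_fun K).1 hu'
  simp only [Fin.sum_univ_eight, Cfsg.Agent.H633.L34.fam] at hc
  have hc' : c 0 • f + c 1 • Cfsg.Agent.H633.L34.al i f + c 2 • Cfsg.Agent.H633.L34.al j f +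
      c 3 • Cfsg.Agent.H633.L34.al j (Cfsg.Agent.H633.L34.al i f) + c 4 • Cfsg.Agent.H633.L34.nn i f +
      c 5 • Cfsg.Agent.H633.L34.nn i (Cfsg.Agent.H633.L34.al i f) +
      c 6 • Cfsg.Agent.H633.L34.nn i (Cfsg.Agent.H633.L34.al j f) +
      c 7 • Cfsg.Agent.H633.L34.nn i (Cfsg.Agent.H633.L34.al j (Cfsg.Agent.H633.L34.al i f)) = u := hc
  have h1 : Cfsg.Agent.H633.L34.nn i u = 0 := by
    rw [Cfsg.Agent.H633.L34.nn_apply, D.h.ii, hu]
  have nnn := Cfsg.Agent.H633.L34.nn_nn hi4 hjj hij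
  have h2 : c 0 • Cfsg.Agent.H633.L34.nn i f + c 1 • Cfsg.Agent.H633.L34.nn i (Cfsg.Agent.H633.L34.al i f) +
      c 2 • Cfsg.Agent.H633.L34.nn i (Cfsg.Agent.H633.L34.al j f) +
      c 3 • Cfsg.Agent.H633.L34.nn i (Cfsg.Agent.H633.L34.al j (Cfsg.Agent.H633.L34.al i f)) = 0 := by
    rw [← hc'] at h1
    simpa only [map_add, map_smul, nnn, smul_zero, add_zero] using h1
  obtain ⟨a0, a1, a2, a3⟩ := Cfsg.Agent.H633.L34.ind4 hi4 hjj hij hx h2
  rw [a0, a1, a2, a3, zero_smul, zero_smul, zero_smul, zero_smul, add_zero, add_zero, add_zero, zero_add] at hc'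
  refine ⟨c 4 • f + c 5 • Cfsg.Agent.H633.L34.al i f + c 6 • Cfsg.Agent.H633.L34.al j f +
    c 7 • Cfsg.Agent.H633.L34.al j (Cfsg.Agent.H633.L34.al i f), ?_⟩
  rw [← D.h.ii, ← Cfsg.Agent.H633.L34.nn_apply, map_add, map_add, map_add, map_smul, map_smul, map_smul, map_smul]
  exact hc'.symm

/-- **the elements of `TT f` have square zero** -/
theorem TT_sq (D : Dat i j z b q f) {X : V →ₗ[K] V} (hX : X ∈ TT i j z b f) (v : V) : X (X v) = 0 := by
  obtain ⟨hi, hj, ha, ht⟩ := mem_TT.1 hX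
  have hz : ∀ v, X (z v) = z (X v) := fun v => by rw [← D.h.ii, ← D.h.ii, hi, hi]
  obtain ⟨u, hu⟩ := ker_z D (TT_im D hX v)
  rw [hu, map_add, hz, TT_im D hX u]

/-- **an infinitesimal isometry commuting with the group: the square is a scalar** -/
theorem sq_scalar (D : Dat i j z b q f) {X : V →ₗ[K] V} (hi : ∀ v, X (i v) = i (X v)) (hj : ∀ v, X (j v) = j (X v))
    (ha : ∀ v, b (X v) v = 0) : ∃ c : K, ∀ v, X (X v) = c ^ 2 • v := by
  have h1 : i (X (tr i j z f)) = X (tr i j z f) := by rw [← hi, D.tr_i]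
  have h2 : j (X (tr i j z f)) = X (tr i j z f) := by rw [← hj, D.tr_j]
  obtain ⟨c, hc⟩ := D.fixed_eq h1 h2
  refine ⟨c, ?_⟩
  have hY : X + c • LinearMap.id ∈ TT i j z b f := by
    refine ⟨fun v => ?_, fun v => ?_, fun v => ?_, ?_⟩
    · rw [LinearMap.add_apply, LinearMap.add_apply, hi, LinearMap.smul_apply, LinearMap.smul_apply, map_add, map_smul]
      rfl
    · rw [LinearMap.add_apply, LinearMap.add_apply, hj, LinearMap.smul_apply, LinearMap.smul_apply, map_add, map_smul]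
      rfl
    · rw [LinearMap.add_apply, map_add, LinearMap.add_apply, ha, LinearMap.smul_apply, LinearMap.id_apply, map_smul,
        LinearMap.smul_apply, D.alt, smul_zero, add_zero]
    · rw [LinearMap.add_apply, map_add, LinearMap.add_apply, self_adj D ha, hc, LinearMap.smul_apply, LinearMap.id_apply,
        map_smul, LinearMap.smul_apply, map_smul, LinearMap.smul_apply, D.sym (tr i j z f), Dat.KK2]
  intro v
  have h3 := TT_sq D hY v
  simp only [LinearMap.add_apply, LinearMap.smul_apply, LinearMap.id_apply, map_add, map_smul, smul_add, smul_smul] at h3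
  have h4 : X (X v) + c • X v + (c • X v + (c * c) • v) = (X (X v) + c ^ 2 • v) + (c • X v + c • X v) := by
    rw [pow_two]; abel
  rw [h4, add2 K, add_zero] at h3
  have h5 := congrArg (fun y => y + c ^ 2 • v) h3
  simp only [zero_add] at h5
  rwa [add_assoc, add2 K, add_zero] at h5

end Cfsg.Agent.H940.L34.NZero
end

-- part: H544/L34/Q8Lin
section
/-!
# S5917, type D: linear algebra of the quaternion group in characteristic 2 (helper544)

`i j z` : operators with `i ^ 2 = j ^ 2 = z`, `z ^ 2 = 1`, `i j = z j i` over an algebraically closed field of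
characteristic two.
* `choui` : if `z` is free (`ker (1 + z) ≤ im (1 + z)`) and `Tr = (1 + z)(1 + i)(1 + j) = 0` then the space is zero;
* `form_zero` : `z` free, dimension at most `8`, an invariant nondegenerate alternating form with `(x, z x) = 0` for all `x`:
  the space is zero;
* `toral_zero` : `P` a selfadjoint idempotent commuting with `i`, `j` of the form `A + z A z`, `A` selfadjoint, is zero.
-/

set_option autoImplicit false
set_option linter.unusedSectionVars false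

namespace Cfsg.Agent.H544.L34

theorem addself (K : Type*) {X : Type*} [Field K] [CharP K 2] [AddCommGroup X] [Module K X] (x : X) : x + x = 0 := by
  rw [← two_smul K, CharTwo.two_eq_zero, zero_smul]

section Choui

variable {K X : Type*} [Field K] [CharP K 2] [IsAlgClosed K] [AddCommGroup X] [Module K X] [FiniteDimensional K X]

/-- the operators `a = 1 + i`, `b = 1 + j`, `c = 1 + z` -/
structure Abc (a b c : Module.End K X) : Prop where
  aa : ∀ x, a (a x) = c x
  bb : ∀ x, b (b x) = c x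
  cc : ∀ x, c (c x) = 0
  ac : ∀ x, c (a x) = a (c x)
  bc : ∀ x, c (b x) = b (c x)
  ba : ∀ x, b (a x) = a (b x) + c x + a (c x) + b (c x) + a (b (c x))

theorem Abc.tr' {a b c : Module.End K X} (h : Abc a b c) (tr : ∀ x, a (b (c x)) = 0) (x : X) :
    b (a x) = a (b x) + c x + a (c x) + b (c x) := by
  rw [h.ba, tr, add_zero]

theorem choui {a b c : Module.End K X} (h : Abc a b c) (tr : ∀ x, a (b (c x)) = 0)
    (free : ∀ x, c x = 0 → ∃ y, x = c y) (x : X) : x = 0 := by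
  classical
  by_contra hx
  have h2 : (2 : K) = 0 := CharTwo.two_eq_zero
  -- the subspace `J = a I`, `I = im c`
  set J : Submodule K X := LinearMap.range (a ∘ₗ c) with hJ
  have memJ : ∀ {u : X}, u ∈ J ↔ ∃ v, a (c v) = u := fun {u} => LinearMap.mem_range
  -- `ker a` on `I`
  have F1 : ∀ u, a (c u) = 0 → c u ∈ J := by
    intro u hu
    obtain ⟨v, hv⟩ := free (a u) (by rw [h.ac, hu])
    refine memJ.2 ⟨v, ?_⟩
    have h1 : a (a u) = a (c v) := by rw [hv]
    rw [h.aa] at h1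
    exact h1.symm
  have hbJ : ∀ u, b (c u) ∈ J := fun u => by
    have h1 : b (c u) = c (b u) := (h.bc u).symm
    rw [h1]
    apply F1
    rw [h.bc, tr]
  have hI : ∃ u, c u ≠ 0 := by
    by_contra hn
    push Not at hn
    obtain ⟨y, hy⟩ := free x (hn x)
    exact hx (by rw [hy, hn])
  have hJ0 : ∃ u, a (c u) ≠ 0 := by
    by_contra hn
    push Not at hn
    obtain ⟨u, hu⟩ := hI
    obtain ⟨v, hv⟩ := memJ.1 (F1 u (hn u))
    exact hu (by rw [← hv, hn])
  -- a section
  let f : X →ₗ[K] J := LinearMap.rangeRestrict (a ∘ₗ c)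
  obtain ⟨s, hs⟩ := LinearMap.exists_rightInverse_of_surjective f (LinearMap.range_rangeRestrict _)
  have hs' : ∀ w : J, a (c (s w)) = (w : X) := fun w => by
    have := congrArg (fun g => ((g w : J) : X)) hs
    exact this
  let T : Module.End K J := LinearMap.codRestrict J (b ∘ₗ c ∘ₗ s) (fun w => hbJ _)
  have : Nontrivial J := by
    obtain ⟨u, hu⟩ := hJ0
    exact ⟨⟨⟨_, memJ.2 ⟨u, rfl⟩⟩, 0, fun hh => hu (congrArg Subtype.val hh)⟩⟩
  obtain ⟨l, hl⟩ := Module.End.exists_eigenvalue T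
  obtain ⟨w, hw⟩ := hl.exists_hasEigenvector
  have hw1 : T w = l • w := hw.apply_eq_smul
  have hw0 : w ≠ 0 := hw.2
  set y := s w with hy
  have e1 : b (c y) = l • a (c y) := by
    have := congrArg Subtype.val hw1
    rw [hs']
    exact this
  have e0 : a (c y) ≠ 0 := by
    rw [hs']
    exact fun hh => hw0 (Subtype.ext hh)
  -- `x'`
  obtain ⟨y1, E1⟩ := free (l • a y + b y) (by
    rw [map_add, map_smul, h.ac, h.bc, e1]
    exact addself K _)
  have E2 : a (b y) = a (c y1) + l • c y := by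
    have h1 : a (l • a y + b y) = a (c y1) := by rw [E1]
    rw [map_add, map_smul, h.aa] at h1
    rw [← h1]
    linear_combination (norm := module) (-h2) • (l • c y)
  have E3 : b (c y1) = l • a (c y1) + (l * l + l + 1) • c y + (l * l + l) • a (c y) := by
    have h1 : b (l • a y + b y) = b (c y1) := by rw [E1]
    rw [map_add, map_smul, h.bb, h.tr' tr, E2, e1] at h1
    rw [← h1]
    module
  have hcc : ∀ u, a (a (c u)) = 0 := fun u => by rw [h.aa, h.cc]
  have hl2 : l * l + l + 1 = 0 := by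
    have h1 : a (b (c y1)) = a (l • a (c y1) + (l * l + l + 1) • c y + (l * l + l) • a (c y)) := by rw [E3]
    rw [tr, map_add, map_add, map_smul, map_smul, map_smul, hcc, hcc, smul_zero, smul_zero, add_zero, zero_add] at h1
    rcases smul_eq_zero.1 h1.symm with h2 | h2
    · exact h2
    · exact absurd h2 e0
  have hl3 : l * l + l = 1 := by linear_combination hl2 - h2
  rw [hl2, zero_smul, add_zero, hl3, one_smul] at E3
  -- `x''`
  obtain ⟨y2, E4⟩ := free (l • a y1 + b y1 + a y) (by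
    rw [map_add, map_add, map_smul, h.ac, h.bc, h.ac, E3]
    linear_combination (norm := module) h2 • (l • a (c y1) + a (c y)))
  have E5 : a (b y1) = a (c y2) + l • c y1 + c y := by
    have h1 : a (l • a y1 + b y1 + a y) = a (c y2) := by rw [E4]
    rw [map_add, map_add, map_smul, h.aa, h.aa] at h1
    rw [← h1]
    linear_combination (norm := module) (-h2) • (l • c y1 + c y)
  have E6 : b (c y2) = l • a (c y2) + c y + l • (a (c y1) + b (c y1)) + a (c y1) + (1 + l) • a (c y) := by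
    have h1 : b (l • a y1 + b y1 + a y) = b (c y2) := by rw [E4]
    rw [map_add, map_add, map_smul, h.bb, h.tr' tr, h.tr' tr, E5, E2, e1] at h1
    rw [← h1]
    linear_combination (norm := module) hl2 • c y1 + (h2 * l) • c y
  have h1 : a (b (c y2)) = a (l • a (c y2) + c y + l • (a (c y1) + b (c y1)) + a (c y1) + (1 + l) • a (c y)) := by
    rw [E6]
  rw [tr] at h1
  simp only [map_add, map_smul, hcc, tr, smul_zero, add_zero, zero_add] at h1
  exact e0 h1.symm

end Choui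

section Form

variable {K X : Type*} [Field K] [CharP K 2] [IsAlgClosed K] [AddCommGroup X] [Module K X] [FiniteDimensional K X]

/-- the quaternion group as operators -/
structure Quat (i j z : Module.End K X) : Prop where
  ii : ∀ x, i (i x) = z x
  jj : ∀ x, j (j x) = z x
  zz : ∀ x, z (z x) = x
  ij : ∀ x, i (j x) = z (j (i x))

variable {i j z : Module.End K X}

theorem Quat.zi (h : Quat i j z) (x : X) : z (i x) = i (z x) := by rw [← h.ii, ← h.ii]

theorem Quat.zj (h : Quat i j z) (x : X) : z (j x) = j (z x) := by rw [← h.jj, ← h.jj]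

theorem Quat.ji (h : Quat i j z) (x : X) : j (i x) = z (i (j x)) := by rw [h.ij, h.zz]

theorem Quat.abc (h : Quat i j z) : Abc (1 + i) (1 + j) (1 + z) := by
  have h2 : (2 : K) = 0 := CharTwo.two_eq_zero
  refine ⟨fun x => ?_, fun x => ?_, fun x => ?_, fun x => ?_, fun x => ?_, fun x => ?_⟩
  · simp only [LinearMap.add_apply, Module.End.one_apply, map_add, h.ii]
    linear_combination (norm := module) h2 • i x
  · simp only [LinearMap.add_apply, Module.End.one_apply, map_add, h.jj]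
    linear_combination (norm := module) h2 • j x
  · simp only [LinearMap.add_apply, Module.End.one_apply, map_add, h.zz]
    linear_combination (norm := module) h2 • (x + z x)
  · simp only [LinearMap.add_apply, Module.End.one_apply, map_add, h.zi]
    module
  · simp only [LinearMap.add_apply, Module.End.one_apply, map_add, h.zj]
    module
  · simp only [LinearMap.add_apply, Module.End.one_apply, map_add, h.ji, h.zi, h.zj]
    linear_combination (norm := module) (-h2) • ((2 : K) • x + (2 : K) • z x + i x + i (z x) + j x + j (z x) + i (j x))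

end Form

end Cfsg.Agent.H544.L34
end

-- part: H940/L34/NZeroC
section
/-!
# Squares of the fixed elements of `D` (helper940, for S5917, row (ii'))

* `exists_tr` : `1 + z` of rank 4 on a space of dimension 8: there is a vector with non-zero trace;
* `scal_sq` : in the situation of helper633's bridge, `x ∈ D` fixed by `i`, `j`: `rho x ∘ rho x` is a scalar.
-/

set_option autoImplicit false

namespace Cfsg.Agent.H940.L34.NZero

open Cfsg.Agent.H940.L34 Cfsg.Agent.H633.L34.Psi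

section

variable {K V : Type*} [Field K] [CharP K 2] [IsAlgClosed K] [AddCommGroup V] [Module K V] {i j z : V →ₗ[K] V}

theorem exists_tr (h : Q8 i j z) (hV : Module.finrank K V = 8)
    (hr : Module.finrank K (LinearMap.range (z + 1 : V →ₗ[K] V)) = 4) : ∃ f, tr i j z f ≠ 0 := by
  have : FiniteDimensional K V := FiniteDimensional.of_finrank_pos (by rw [hV]; norm_num)
  by_contra hcon
  push Not at hcon
  have hQ : Cfsg.Agent.H544.L34.Quat (K := K) i j z :=
    ⟨h.ii, h.jj, h.zz, fun x => by rw [h.ji, h.zz]⟩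
  have hle : LinearMap.range (z + 1 : V →ₗ[K] V) ≤ LinearMap.ker (z + 1 : V →ₗ[K] V) := by
    rintro _ ⟨x, rfl⟩
    rw [LinearMap.mem_ker]
    simp only [LinearMap.add_apply, Module.End.one_apply, map_add, h.zz]
    rw [show x + z x + (z x + x) = (x + x) + (z x + z x) by abel, add2 K, add2 K, add_zero]
  have h1 := LinearMap.finrank_range_add_finrank_ker (z + 1 : V →ₗ[K] V)
  have heq : LinearMap.range (z + 1 : V →ₗ[K] V) = LinearMap.ker (z + 1 : V →ₗ[K] V) :=
    Submodule.eq_of_le_of_finrank_le hle (by omega)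
  have key : ∀ x : V, x = 0 := fun x => Cfsg.Agent.H544.L34.choui hQ.abc (fun y => by
    rw [← hcon y]
    simp only [LinearMap.add_apply, Module.End.one_apply, map_add, tr, h.ji', h.zi, h.zj, h.zz]
    abel) (fun y hy => by
    have h2 : y ∈ LinearMap.ker (z + 1 : V →ₗ[K] V) := by
      rw [LinearMap.mem_ker, LinearMap.add_apply, Module.End.one_apply, add_comm]
      exact hy
    rw [← heq] at h2
    obtain ⟨u, hu⟩ := h2
    refine ⟨u, ?_⟩
    rw [← hu, LinearMap.add_apply, LinearMap.add_apply, Module.End.one_apply, add_comm]) x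
  have hnt : Nontrivial V := Module.nontrivial_of_finrank_pos (R := K) (by rw [hV]; norm_num)
  obtain ⟨x, hx⟩ := exists_ne (0 : V)
  exact hx (key x)

end

section

variable {K : Type*} [Field K] [CharP K 2] [IsAlgClosed K] {L M : Type*} [AddCommGroup L] [Module K L] [AddCommGroup M]
  [Module K M] {L0 D : Submodule K L} {rho : L →ₗ[K] M →ₗ[K] M} {b : M →ₗ[K] M →ₗ[K] K} {Q : M → K} {c : L → K}
  {nw : Fin 8 → Fin 8} {lam : Fin 8 → L → K}

/-- the data of `NZero` -/
theorem dat (hV : Module.finrank K M = 8) (B : Blk L0 D rho b Q c nw lam) {pi pj : M →ₗ[K] M}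
    (h : Q8 pi pj (pi ∘ₗ pi)) (qi : ∀ v, Q (pi v) = Q v) (qj : ∀ v, Q (pj v) = Q v)
    (hr : Module.finrank K (LinearMap.range (pi ∘ₗ pi + 1 : M →ₗ[K] M)) = 4) : ∃ f, Dat pi pj (pi ∘ₗ pi) b Q f := by
  obtain ⟨f, hf⟩ := exists_tr h hV hr
  exact ⟨f, h, B.pol, qi, qj, fun v hv => B.nd v hv, hV, hf⟩

theorem c_zero (hV : Module.finrank K M = 8) (B : Blk L0 D rho b Q c nw lam) {x : L} (hx : x ∈ D) : c x = 0 := by
  have hnt : Nontrivial M := Module.nontrivial_of_finrank_pos (R := K) (by rw [hV]; norm_num)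
  obtain ⟨u, hu⟩ := exists_ne (0 : M)
  obtain ⟨w, hw⟩ : ∃ w, b w u ≠ 0 := by
    by_contra hcon
    push Not at hcon
    exact hu (B.nd u hcon)
  have h1 := B.hc x (B.DL hx) (w + u)
  rw [B.pol] at h1
  simp only [map_add, LinearMap.add_apply] at h1
  rw [B.hc x (B.DL hx), B.hc x (B.DL hx), B.inv x hx w u, B.sym w (rho x u)] at h1
  have h2 := Dat.KK2 (b (rho x u) w)
  have h3 : c x * b w u = 0 := by linear_combination h2 - h1
  rcases mul_eq_zero.1 h3 with h4 | h4
  · exact h4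
  · exact absurd h4 hw

/-- **the square is a scalar** -/
theorem scal_sq (hV : Module.finrank K M = 8) (B : Blk L0 D rho b Q c nw lam) {i j : L → L} {si sj : Fin 8 → Fin 8}
    {pi pj : M →ₗ[K] M} (h : Q8 pi pj (pi ∘ₗ pi)) (qi : ∀ v, Q (pi v) = Q v) (qj : ∀ v, Q (pj v) = Q v)
    (Fi : Fam L0 rho lam i si pi) (Fj : Fam L0 rho lam j sj pj)
    (hr : Module.finrank K (LinearMap.range (pi ∘ₗ pi + 1 : M →ₗ[K] M)) = 4) {x : L} (hx : x ∈ D) (hi : i x = x)
    (hj : j x = x) : ∃ a : K, ∀ v, rho x (rho x v) = a • v := by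
  obtain ⟨f, D'⟩ := dat hV B h qi qj hr
  have key : ∀ (g : L → L) (sg : Fin 8 → Fin 8) (p : M →ₗ[K] M), Fam L0 rho lam g sg p → g x = x →
      ∀ v, rho x (p v) = p (rho x v) := by
    intro g sg p F hg v
    have h1 := F 0 x (B.DL hx) v
    rw [hg] at h1
    change rho x (p v) = p (rho x v) + (lam 0 x + lam (sg 0) (g x)) • p v at h1
    rw [hg, B.lamD 0 x hx, B.lamD (sg 0) x hx, add_zero, zero_smul, add_zero] at h1
    exact h1
  obtain ⟨a, ha⟩ := sq_scalar D' (X := rho x) (key i si pi Fi hi) (key j sj pj Fj hj) (fun v => by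
    rw [B.hc x (B.DL hx), c_zero hV B hx, zero_mul])
  exact ⟨a ^ 2, ha⟩

end

end Cfsg.Agent.H940.L34.NZero
end

-- part: H940/L34/SqZb
section
/-!
# S5917, type D, row (ii'): glue with the representation `AA` of helper544 (helper940)
-/

set_option autoImplicit false
set_option maxRecDepth 100000

namespace Cfsg.Agent.H940.L34.Cyc

open Cfsg Cfsg.Lie
open Cfsg.Agent.H939.L64 Cfsg.Agent.H413.L16 Cfsg.Agent.H251.L34 Cfsg.Agent.H876.L64
open Cfsg.Agent.H942.DF (EF NG VV TZ Mp hx RX zero_cases slt hv_inl)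
open Cfsg.Agent.H544.L34 (io AA la br_io AA_eq io_single)

variable {t1 t2 : ↥(chevE8.group KK)} {ζ : KK}

theorem hs_of {x : LK} (hx' : Cfsg.Agent.H400.L34.Z00 x) (hla : ∀ X w, la X w x = 0)
    (ha : ∀ X, ∃ a : KK, ∀ v, AA X 0 x (AA X 0 x v) = a • v) (X : Fin 3) (w : Fin 8) :
    ∃ c : KK, ∀ k, brK x (brK x (er (_root_.Cfsg.Agent.H251.L34.mt X w k))) = c • er (_root_.Cfsg.Agent.H251.L34.mt X w k) := by
  obtain ⟨a, h⟩ := ha X
  refine ⟨a, fun k => ?_⟩
  rw [← io_single, br_io hx', br_io hx', AA_eq hx', hla, zero_smul, add_zero, h, map_smul]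

/-- **(ii')** -/
theorem sqz (h : EF t1 t2 ζ) {x : LK} (hx' : x ∈ Mp t1 t2 ζ) (hm : VV t1 t2 ζ 0 0 x) (hla : ∀ X w, la X w x = 0)
    (ha : ∀ X, ∃ a : KK, ∀ v, AA X 0 x (AA X 0 x v) = a • v) :
    ∃ d : Fin 4 → KK, d 0 = 0 ∧ d 1 = 0 ∧ H201.L34.sq x = hx d :=
  sqz_of h hx' hm (hs_of (z00 h hm) hla ha)

end Cfsg.Agent.H940.L34.Cyc
end

-- part: H940/L34/SqDFr
section
/-!
# S5917, type D, row (ii') in the frame `DFr` of helper544 (helper940)

`iip` : `x ∈ Mp` fixed by `i`, `j`: `sq x = hx d` with `d 0 = d 1 = 0`.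
-/

set_option autoImplicit false
set_option maxRecDepth 100000

namespace Cfsg.Agent.H940.L34.Cyc

open Cfsg Cfsg.Lie
open Cfsg.Agent.H939.L64 Cfsg.Agent.H413.L16 Cfsg.Agent.H251.L34 Cfsg.Agent.H876.L64
open Cfsg.Agent.H413.L64 (charKK)
open Cfsg.Agent.H942.DF (Mp hx)
open Cfsg.Agent.H544.L34 (blk M0 mem_M0' Mp_le_M0 DFr trl fr8)

variable {t1 t2 : ↥(chevE8.group KK)} {ζ : KK} {i j : ↥(chevE8.group KK)}

/-- **(ii')** -/
theorem iip (f : DFr t1 t2 ζ i j) (h3 : 3 ≤ Module.finrank KK ((M0 t1 t2).map (trl i j))) {x : LK}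
    (hx' : x ∈ Mp t1 t2 ζ) (hi : aK i x = x) (hj : aK j x = x) :
    ∃ d : Fin 4 → KK, d 0 = 0 ∧ d 1 = 0 ∧ H201.L34.sq x = hx d := by
  have hch := charKK
  refine sqz f.ef hx' (mem_M0'.1 (Mp_le_M0 hx')) (fun X w => (blk f.ef X).lamD w x hx') fun X => ?_
  obtain ⟨pi, pj, h1, h2, h3', h4, h5, -, h6, -⟩ := f.psi X
  exact NZero.scal_sq fr8 (blk f.ef X) h1 h2 h3' h4 h5 (f.free h3 X h1 h2 h3' h6) hx' hi hj

end Cfsg.Agent.H940.L34.Cyc
end

-- part: H968/L34/EndDB
section
/-!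
# S5917, END type D: the assembly, second step (helper968)
-/

set_option autoImplicit false
set_option linter.unusedSectionVars false
set_option maxRecDepth 100000

namespace Cfsg.Agent.H968.L34

open Matrix Cfsg Cfsg.Lie Cfsg.Lie.ChevalleyDatum
open Cfsg.Agent.H691.L34
open Cfsg.Agent.H939.L64
open Cfsg.Agent.H251.L34 (V3)
open Cfsg.Agent.H437.L34 (fg rho)
open Cfsg.Agent.H888.L34.Model (Sit P3)
open Cfsg.Agent.H939.L34 (Fsit UQ DNIL TRZ)
open Cfsg.Agent.H544.L34 (DFr M0 trl)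

variable {F : Type} [Field F] {H : Subgroup E2} {f : P3 F →* E2} {z : ↥(chevE8.group KK)} {ζ : KK} {g1 g2 qi qj : G3 F}

theorem y5_holds : Y5 := fun hx h1 hd _ hw h0 h3 => Cfsg.Agent.H159.L34.y5end13 hx h1 hd hw h0 h3

/-- conjugated relations -/
theorem rels {G K : Type*} [Group G] [Group K] (φ : G →* K) (z : K) {a b i j : G} (r1 : i * a * i⁻¹ = b)
    (r2 : i * b * i⁻¹ = a⁻¹) (r3 : j * a * j⁻¹ = a * b) (r4 : j * b * j⁻¹ = a * b⁻¹) (r5 : i ^ 4 = 1)
    (r6 : j ^ 2 = i ^ 2) (r7 : i * j * i⁻¹ = j⁻¹) :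
    (z⁻¹ * φ i * z) * (z⁻¹ * φ a * z) * (z⁻¹ * φ i * z)⁻¹ = z⁻¹ * φ b * z ∧
    (z⁻¹ * φ i * z) * (z⁻¹ * φ b * z) * (z⁻¹ * φ i * z)⁻¹ = (z⁻¹ * φ a * z)⁻¹ ∧
    (z⁻¹ * φ j * z) * (z⁻¹ * φ a * z) * (z⁻¹ * φ j * z)⁻¹ = (z⁻¹ * φ a * z) * (z⁻¹ * φ b * z) ∧
    (z⁻¹ * φ j * z) * (z⁻¹ * φ b * z) * (z⁻¹ * φ j * z)⁻¹ = (z⁻¹ * φ a * z) * (z⁻¹ * φ b * z)⁻¹ ∧
    (z⁻¹ * φ i * z) ^ 4 = 1 ∧ (z⁻¹ * φ j * z) * (z⁻¹ * φ j * z) = (z⁻¹ * φ i * z) * (z⁻¹ * φ i * z) ∧
    (z⁻¹ * φ i * z) * (z⁻¹ * φ j * z) * (z⁻¹ * φ i * z)⁻¹ = (z⁻¹ * φ j * z)⁻¹ := by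
  let c : G →* K := (MulAut.conj z⁻¹).toMonoidHom.comp φ
  have hc : ∀ e, z⁻¹ * φ e * z = c e := fun e => by
    show z⁻¹ * φ e * z = z⁻¹ * φ e * (z⁻¹)⁻¹
    rw [inv_inv]
  rw [hc, hc, hc, hc]
  refine ⟨?_, ?_, ?_, ?_, ?_, ?_, ?_⟩
  · rw [← map_inv, ← map_mul, ← map_mul, r1]
  · rw [← map_inv, ← map_mul, ← map_mul, r2, map_inv]
  · rw [← map_inv, ← map_mul, ← map_mul, r3, map_mul]
  · rw [← map_inv, ← map_mul, ← map_mul, r4, map_mul, map_inv]
  · rw [← map_pow, r5, map_one]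
  · rw [← map_mul, ← map_mul, ← pow_two, ← pow_two, r6]
  · rw [← map_inv, ← map_mul, ← map_mul, r7, map_inv]

/-- the frame relations -/
theorem dfr_of (S : Fsit V3 H f z ζ g1 g2 qi qj) : DFr (z⁻¹ * H939.L64.em (fg f g1) * z)
    (z⁻¹ * H939.L64.em (fg f g2) * z) ζ (z⁻¹ * H939.L64.em (fg f qi) * z) (z⁻¹ * H939.L64.em (fg f qj) * z) := by
  obtain ⟨r1, r2, r3, r4, r5, r6, r7, -, -, -⟩ := S.uq.rel f
  obtain ⟨a1, a2, a3, a4, a5, a6, a7⟩ := rels H939.L64.em z r1 r2 r3 r4 r5 r6 r7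
  exact ⟨ef_of S, a1, a2, a3, a4, a5, a6, a7⟩

/-- **END of type D** from D-NIL, the zero lemma and the rank of the trace -/
theorem endD_of' [Fintype F] (dnil : DNIL) (trz : TRZ) (hF : Fintype.card F = 4) (S : Fsit V3 H f z ζ g1 g2 qi qj)
    (h3 : 3 ≤ Module.finrank KK ((M0 (z⁻¹ * H939.L64.em (fg f g1) * z) (z⁻¹ * H939.L64.em (fg f g2) * z)).map
      (trl (z⁻¹ * H939.L64.em (fg f qi) * z) (z⁻¹ * H939.L64.em (fg f qj) * z))))
    (p5 : ∃ y : P3 F, f y ^ 5 = 1 ∧ f y ≠ 1 ∧ Module.finrank KK (Cfsg.Agent.H943.RepAdd.eig rE (f y) 1) = 48)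
    (h0 : fixAll (rho f) ≠ ⊥) : False :=
  endD_of dnil trz y5_holds hF S
    (fun _ hx _ hP => Cfsg.Agent.H940.L34.Cyc.iip (dfr_of S) h3 hx hP.1 hP.2)
    (fun hI => Cfsg.Agent.H966.L34.endD_u hF S h0 hI) p5 h0

end Cfsg.Agent.H968.L34
end

private theorem dce_2272c5774a83 : _root_.True := by
  try have : _root_.True := by simp only [_root_.Cfsg.Agent.H940.L34.NZero.tr.eq_1]
  try have : _root_.True := by simp only [_root_.Cfsg.Agent.H966.L34.U.eq_1]
  exact _root_.True.intro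
end

-- part: H968/L34/TrThree
section
prune_inst 0x20000400600000000000051000000060080000020000000000800002080944620000200006101112000088804008000002000020400000000000040000000000088002000100a004460007000000000000000000020000000000000000000000000000000
set_option linter.all false
open scoped Cfsg.Agent.FastGrp

-- part: H968/L34/PFive
section
/-!
# S5917: an element of order 5 of the socle has a fixed space of dimension 48 (helper968)
-/

set_option autoImplicit false
set_option linter.unusedSectionVars false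
set_option maxRecDepth 100000

namespace Cfsg.Agent.H968.L34

open Matrix Cfsg Cfsg.Lie Cfsg.Lie.ChevalleyDatum
open Cfsg.Agent.H691.L34
open Cfsg.Agent.H939.L64
open Cfsg.Agent.H251.L34 (V3)
open Cfsg.Agent.H437.L34 (fg rho)
open Cfsg.Agent.H888.L34.Model (P3)
open Cfsg.Agent.H939.L34 (Fsit UQ)
open Cfsg.Agent.H943.RepAdd (eig)

variable {F : Type} [Field F] [Fintype F] {f : P3 F →* E2} {g1 g2 qi qj : G3 F}

theorem exists_five (hF : Fintype.card F = 4) (hf : Function.Injective f) (U : UQ g1 g2 qi qj) :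
    ∃ y : P3 F, f y ^ 5 = 1 ∧ f y ≠ 1 ∧ Module.finrank KK (eig rE (f y) 1) = 48 := by
  obtain ⟨n5, n7, h5, h7, hd⟩ := Cfsg.Agent.H437.L34.dims_rho hF f hf
  obtain ⟨a, b, c, d, p0, p3, p5, p7⟩ := Cfsg.Agent.H482.LF.PL hF (Cfsg.Agent.H437.L34.ct_rho f)
    (A := (⊥ : Submodule (ZMod 2) L2)) (B := ⊤)
    (fun g w hw => by rw [Submodule.mem_bot] at hw ⊢; rw [hw, map_zero]) (fun g w _ => trivial) bot_le
  have z : ∀ g, Module.finrank (ZMod 2) (fx (rho f) g (⊥ : Submodule (ZMod 2) L2)) = 0 := fun g => by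
    unfold fx
    rw [bot_inf_eq, finrank_bot]
  obtain ⟨ω, hω, e1, -, -, -⟩ := U
  obtain ⟨o3, c3⟩ := Cfsg.Agent.H888.L34.Ord.ho hω _ (List.mem_cons_self ..)
  have : Fact (Nat.Prime 5) := ⟨Nat.prime_five⟩
  have : Fact (Nat.Prime 7) := ⟨by norm_num⟩
  obtain ⟨x5, hx5⟩ := exists_prime_orderOf_dvd_card' (G := G3 F) 5
    (by rw [Cfsg.Agent.H904.L34.card_G3 hF]; norm_num)
  obtain ⟨x7, hx7⟩ := exists_prime_orderOf_dvd_card' (G := G3 F) 7
    (by rw [Cfsg.Agent.H904.L34.card_G3 hF]; norm_num)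
  rw [finrank_bot] at p0
  have q0 := hd.1.symm.trans p0
  have q3 := (hd.2.1 _ o3 c3).symm.trans (p3 _ o3 c3)
  have q5 := (hd.2.2.1 _ hx5).symm.trans (p5 _ hx5)
  have q7 := (hd.2.2.2 _ hx7).symm.trans (p7 _ hx7)
  rw [z] at q3 q5 q7
  have e48 : n5 = 48 := by (clear * - h5 h7 q3 q5 q7; omega)
  have hnc := Cfsg.Agent.H259.L34.not_center hx5 (by norm_num)
  refine ⟨QuotientGroup.mk' (Subgroup.center (G3 F)) x5, ?_, ?_, ?_⟩
  · rw [← map_pow, ← map_pow, ← hx5, pow_orderOf_eq_one, map_one, map_one]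
  · intro h
    apply hnc
    exact Cfsg.Agent.H437.L34.fg_eq_one f hf h
  · have h1 : fx (rho f) x5 (⊤ : Submodule (ZMod 2) L2) = LinearMap.ker (rho f x5 - LinearMap.id) := top_inf_eq _
    have h2 := Cfsg.Agent.H259.L34.fin2 (f (QuotientGroup.mk' (Subgroup.center (G3 F)) x5)) (rho f x5) (fun v => rfl)
    rw [← h2, ← h1, ← e48]
    exact hd.2.2.1 _ hx5

end Cfsg.Agent.H968.L34
end

-- part: H968/L34/EndDC
section
/-!
# S5917, END type D: from D-NIL, the zero lemma and the rank of the trace (helper968)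
-/

set_option autoImplicit false
set_option linter.unusedSectionVars false
set_option maxRecDepth 100000

namespace Cfsg.Agent.H968.L34

open Matrix Cfsg Cfsg.Lie Cfsg.Lie.ChevalleyDatum
open Cfsg.Agent.H691.L34
open Cfsg.Agent.H939.L64
open Cfsg.Agent.H251.L34 (V3)
open Cfsg.Agent.H437.L34 (fg rho)
open Cfsg.Agent.H888.L34.Model (P3)
open Cfsg.Agent.H939.L34 (Fsit UQ DNIL TRZ)
open Cfsg.Agent.H544.L34 (M0 trl)

variable {F : Type} [Field F] [Fintype F] {H : Subgroup E2} {f : P3 F →* E2} {z : ↥(chevE8.group KK)} {ζ : KK}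
  {g1 g2 qi qj : G3 F}

/-- **END of type D** from D-NIL, the zero lemma and the rank of the trace -/
theorem endD_h3 (dnil : DNIL) (trz : TRZ) (hF : Fintype.card F = 4) (S : Fsit V3 H f z ζ g1 g2 qi qj)
    (h3 : 3 ≤ Module.finrank KK ((M0 (z⁻¹ * H939.L64.em (fg f g1) * z) (z⁻¹ * H939.L64.em (fg f g2) * z)).map
      (trl (z⁻¹ * H939.L64.em (fg f qi) * z) (z⁻¹ * H939.L64.em (fg f qj) * z))))
    (h0 : fixAll (rho f) ≠ ⊥) : False :=
  endD_of' dnil trz hF S h3 (exists_five hF S.sit.inj S.uq) h0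

end Cfsg.Agent.H968.L34
end

-- part: H904/L34/Tr8
section
/-!
# S5917, part I (helper904): (S5) the rank of the trace of `Q₈` on the fixed vectors of `E`
-/

set_option autoImplicit false
set_option linter.unusedSectionVars false
set_option linter.unusedVariables false

namespace Cfsg.Agent.H904.L34.Unit

open Matrix Cfsg.Agent.H691.L34 Cfsg.Agent.H904.L34 Module
open scoped Pointwise

section free

variable {U V : Type*} [Group U] [Finite U] [AddCommGroup V] [Module (ZMod 2) V]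

/-- **fixed vectors of a subgroup are traces** in the regular module -/
theorem free_sub [Fintype U] (hU : IsPGroup 2 U) (ρ : Representation (ZMod 2) U V) [Module.Finite (ZMod 2) V]
    (W : Submodule (ZMod 2) V) (hW : ∀ u, ∀ w ∈ W, ρ u w ∈ W) (hdim : finrank (ZMod 2) W = Nat.card U) {w : V}
    (hwW : w ∈ W) (hw : ∑ u, ρ u w ≠ 0) (Q : Subgroup U) [Fintype Q] {x : V} (hx : x ∈ W)
    (hq : ∀ q ∈ Q, ρ q x = x) : ∃ y ∈ W, x = ∑ q : Q, ρ (q : U) y := by
  classical
  have hinj := orb_injective hU ρ hw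
  have hle : LinearMap.range (orb ρ w) ≤ W := by
    rintro _ ⟨c, rfl⟩
    rw [orb_apply]
    exact W.sum_mem fun u _ => W.smul_mem _ (hW u w hwW)
  have hr : LinearMap.range (orb ρ w) = W := by
    apply Submodule.eq_of_le_of_finrank_eq hle
    rw [LinearMap.finrank_range_of_inj hinj, Module.finrank_fintype_fun_eq_card, hdim, Nat.card_eq_fintype_card]
  rw [← hr] at hx
  obtain ⟨c, rfl⟩ := hx
  have hc : ∀ q ∈ Q, tr q c = c := fun q hQ => hinj (by rw [orb_tr, hq q hQ])
  obtain ⟨S, hS, -⟩ := Subgroup.exists_isComplement_right Q (1 : U)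
  rw [Subgroup.isComplement_iff_existsUnique] at hS
  let c0 : U → ZMod 2 := fun u => if u ∈ S then c u else 0
  have h1 : c = ∑ q : Q, tr (q : U) c0 := by
    funext u
    rw [Finset.sum_apply]
    obtain ⟨⟨⟨q0, hq0⟩, ⟨s0, hs0⟩⟩, h2, h3⟩ := hS u
    have h2' : q0 * s0 = u := h2
    rw [Finset.sum_eq_single (⟨q0, hq0⟩ : Q)]
    · have h4 : q0⁻¹ * u = s0 := by rw [← h2', inv_mul_cancel_left]
      have h6 : c (q0⁻¹ * u) = c u := congrFun (hc q0 hq0) u
      show c u = if q0⁻¹ * u ∈ S then c (q0⁻¹ * u) else 0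
      rw [if_pos (by rw [h4]; exact hs0), h6]
    · intro q _ hne
      show (if (q : U)⁻¹ * u ∈ S then c ((q : U)⁻¹ * u) else 0) = 0
      rw [if_neg]
      intro h5
      apply hne
      have h6 := h3 (⟨q, ⟨(q : U)⁻¹ * u, h5⟩⟩ : Q × S) (by
        show (q : U) * ((q : U)⁻¹ * u) = u
        rw [mul_inv_cancel_left])
      exact congrArg Prod.fst h6
    · intro h
      exact absurd (Finset.mem_univ _) h
  refine ⟨orb ρ w c0, ?_, ?_⟩
  · rw [← hr]
    exact ⟨c0, rfl⟩
  · conv_lhs => rw [h1]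
    rw [map_sum]
    exact Finset.sum_congr rfl fun q _ => orb_tr ρ w q c0

end free

section quat

variable {G : Type*} [Group G]

/-- relations of the quaternion group -/
structure QRel (i j : G) : Prop where
  i4 : i * i * (i * i) = 1
  jj : j * j = i * i
  ji : j * i = i * i * (i * j)
  ne : i * i ≠ 1

variable {i j : G}

theorem QRel.comm (h : QRel i j) : i * i * j = j * (i * i) := by
  rw [← h.jj, mul_assoc]

theorem QRel.order (h : QRel i j) : orderOf i = 4 := by
  haveI : Fact (Nat.Prime 2) := ⟨Nat.prime_two⟩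
  have h1 : orderOf i = 2 ^ (1 + 1) := by
    apply orderOf_eq_prime_pow
    · rw [pow_one, pow_two]
      exact h.ne
    · show i ^ (2 + 2) = 1
      rw [pow_add, pow_two]
      exact h.i4
  rw [h1]
  norm_num

theorem QRel.not_mem (h : QRel i j) (k : ℕ) : j ≠ i ^ k := by
  intro hj
  have h1 : j * i = i * j := by rw [hj, ← pow_succ, ← pow_succ']
  have h2 := h.ji
  rw [h1] at h2
  have h3 : 1 * (i * j) = i * i * (i * j) := by rw [one_mul]; exact h2
  exact h.ne (mul_right_cancel h3).symm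

/-- the quaternion group -/
def qg (h : QRel i j) : Subgroup G where
  carrier := {g | ∃ k : ℕ, g = i ^ k ∨ g = j * i ^ k}
  one_mem' := ⟨0, Or.inl (pow_zero i).symm⟩
  mul_mem' := by
    have key : ∀ k : ℕ, i ^ k * j = j * i ^ (3 * k) := by
      intro k
      induction k with
      | zero => simp
      | succ k ih =>
        have e : i * j = j * i ^ 3 := by
          have h1 : j * (i * i * i) = i * j := by
            calc j * (i * i * i) = (j * (i * i)) * i := by simp only [mul_assoc]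
              _ = i * i * (j * i) := by rw [← h.comm, mul_assoc]
              _ = (i * i * (i * i)) * (i * j) := by rw [h.ji, ← mul_assoc]
              _ = i * j := by rw [h.i4, one_mul]
          rw [← h1, pow_three']
        rw [pow_succ, mul_assoc, e, ← mul_assoc, ih, mul_assoc, ← pow_add]
        rfl
    rintro a b ⟨k, rfl | rfl⟩ ⟨l, rfl | rfl⟩
    · exact ⟨k + l, Or.inl (pow_add _ _ _).symm⟩
    · refine ⟨3 * k + l, Or.inr ?_⟩
      rw [← mul_assoc, key, mul_assoc, ← pow_add]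
    · refine ⟨k + l, Or.inr ?_⟩
      rw [mul_assoc, ← pow_add]
    · refine ⟨2 + (3 * k + l), Or.inl ?_⟩
      rw [mul_assoc, ← mul_assoc (i ^ k), key, mul_assoc, ← mul_assoc j j, h.jj, ← pow_two, ← pow_add, ← pow_add]
  inv_mem' := by
    have hi : ∀ k : ℕ, (i ^ k)⁻¹ = i ^ (3 * k) := by
      intro k
      rw [inv_eq_iff_mul_eq_one, ← pow_add]
      have h1 : k + 3 * k = 4 * k := by ring
      rw [h1, pow_mul]
      have h2 : i ^ 4 = 1 := by
        rw [← h.i4]
        simp only [pow_succ, pow_zero, one_mul, mul_assoc]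
      rw [h2, one_pow]
    have key : ∀ k : ℕ, i ^ k * j = j * i ^ (3 * k) := by
      intro k
      induction k with
      | zero => simp
      | succ k ih =>
        have e : i * j = j * i ^ 3 := by
          have h1 : j * (i * i * i) = i * j := by
            calc j * (i * i * i) = (j * (i * i)) * i := by simp only [mul_assoc]
              _ = i * i * (j * i) := by rw [← h.comm, mul_assoc]
              _ = (i * i * (i * i)) * (i * j) := by rw [h.ji, ← mul_assoc]
              _ = i * j := by rw [h.i4, one_mul]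
          rw [← h1, pow_three']
        rw [pow_succ, mul_assoc, e, ← mul_assoc, ih, mul_assoc, ← pow_add]
        rfl
    rintro a ⟨k, rfl | rfl⟩
    · exact ⟨3 * k, Or.inl (hi k)⟩
    · have hj : j⁻¹ = j * i ^ 2 := by
        rw [inv_eq_iff_mul_eq_one, ← mul_assoc, h.jj, pow_two, h.i4]
      refine ⟨3 * (3 * k) + 2, Or.inr ?_⟩
      rw [_root_.mul_inv_rev, hi, hj, ← mul_assoc, key, mul_assoc, ← pow_add]

/-- the eight elements -/
def qf (h : QRel i j) : Fin 4 ⊕ Fin 4 → qg h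
  | Sum.inl k => ⟨i ^ (k : ℕ), k, Or.inl rfl⟩
  | Sum.inr k => ⟨j * i ^ (k : ℕ), k, Or.inr rfl⟩

theorem qf_bij (h : QRel i j) : Function.Bijective (qf h) := by
  have ho := h.order
  have hlt : ∀ a b : Fin 4, i ^ (a : ℕ) = i ^ (b : ℕ) → a = b := by
    intro a b hab
    rw [pow_inj_mod, ho, Nat.mod_eq_of_lt a.2, Nat.mod_eq_of_lt b.2] at hab
    exact Fin.ext hab
  have hne : ∀ a b : ℕ, i ^ a ≠ j * i ^ b := by
    intro a b hab
    have h1 : j = i ^ a * (i ^ b)⁻¹ := by rw [hab, mul_inv_cancel_right]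
    have h2 : (i ^ b)⁻¹ = i ^ (3 * b) := by
      rw [inv_eq_iff_mul_eq_one, ← pow_add]
      have h1 : b + 3 * b = 4 * b := by ring
      rw [h1, pow_mul, ← ho, pow_orderOf_eq_one, one_pow]
    rw [h2, ← pow_add] at h1
    exact h.not_mem _ h1
  constructor
  · rintro (a | a) (b | b) hab
    · rw [hlt a b (congrArg Subtype.val hab)]
    · exact absurd (congrArg Subtype.val hab) (hne a b)
    · exact absurd (congrArg Subtype.val hab).symm (hne b a)
    · have h1 : j * i ^ (a : ℕ) = j * i ^ (b : ℕ) := congrArg Subtype.val hab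
      rw [hlt a b (mul_left_cancel h1)]
  · have hm : ∀ k : ℕ, i ^ (k % 4) = i ^ k := by
      intro k
      rw [← ho, pow_mod_orderOf]
    rintro ⟨g, k, rfl | rfl⟩
    · refine ⟨Sum.inl ⟨k % 4, Nat.mod_lt _ (by norm_num)⟩, Subtype.ext ?_⟩
      exact hm k
    · refine ⟨Sum.inr ⟨k % 4, Nat.mod_lt _ (by norm_num)⟩, Subtype.ext ?_⟩
      show j * i ^ (k % 4) = j * i ^ k
      rw [hm]

theorem card_qg (h : QRel i j) : Nat.card (qg h) = 2 ^ 3 := by
  rw [← Nat.card_congr (Equiv.ofBijective _ (qf_bij h)), Nat.card_sum, Nat.card_eq_fintype_card, Fintype.card_fin]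
  norm_num

theorem pgroup_qg (h : QRel i j) : IsPGroup 2 (qg h) := IsPGroup.of_card (card_qg h)

theorem sum_qg (h : QRel i j) [Fintype (qg h)] {A : Type*} [AddCommMonoid A] (f : G → A) :
    ∑ q : qg h, f q = (f 1 + f i + f (i * i) + f (i * i * i)) +
      (f j + f (j * i) + f (j * (i * i)) + f (j * (i * i * i))) := by
  rw [← Function.Bijective.sum_comp (qf_bij h) (fun q : qg h => f q), Fintype.sum_sum_type, Fin.sum_univ_four,
    Fin.sum_univ_four]
  have e0 : i ^ 0 = 1 := pow_zero i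
  have e1 : i ^ 1 = i := pow_one i
  have e2 : i ^ 2 = i * i := pow_two i
  have e3 : i ^ 3 = i * i * i := pow_three' i
  show (f (i ^ 0) + f (i ^ 1) + f (i ^ 2) + f (i ^ 3)) +
    (f (j * i ^ 0) + f (j * i ^ 1) + f (j * i ^ 2) + f (j * i ^ 3)) = _
  rw [e0, e1, e2, e3, mul_one]

end quat

/-! ### the operator `T8` -/

section op

variable {G V : Type*} [Group G] [AddCommGroup V] [Module (ZMod 2) V]

/-- the trace of the quaternion group -/
def T8 (ρ : Representation (ZMod 2) G V) (i j : G) : V →ₗ[ZMod 2] V :=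
  (LinearMap.id + ρ i + ρ (i * i) + ρ (i * i * i)) + ρ j ∘ₗ (LinearMap.id + ρ i + ρ (i * i) + ρ (i * i * i))

theorem T8_apply (ρ : Representation (ZMod 2) G V) (i j : G) (v : V) :
    T8 ρ i j v = (v + ρ i v + ρ (i * i) v + ρ (i * i * i) v) +
      ρ j (v + ρ i v + ρ (i * i) v + ρ (i * i * i) v) := rfl

theorem rmul (ρ : Representation (ZMod 2) G V) (g h : G) (x : V) : ρ g (ρ h x) = ρ (g * h) x := by
  rw [map_mul]
  rfl

theorem sum_T8 (ρ : Representation (ZMod 2) G V) {i j : G} (h : QRel i j) [Fintype (qg h)] (y : V) :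
    ∑ q : qg h, ρ (q : G) y = T8 ρ i j y := by
  rw [sum_qg h (fun g => ρ g y), T8_apply]
  have h1 : ρ (1 : G) y = y := by rw [map_one]; rfl
  simp only [map_add, rmul, h1]

variable [Finite G] [Module.Finite (ZMod 2) V]

theorem T8_mkQ (ρ : Representation (ZMod 2) G V) (i j : G) (W : Submodule (ZMod 2) V)
    (hW : ∀ g, W ≤ W.comap (ρ g)) (v : V) :
    W.mkQ (T8 ρ i j v) = T8 (ρ.quotient W hW) i j (W.mkQ v) := rfl

theorem neg2 (w : V) : -w = w := by
  have h4 := odd_smul (n := 3) (by decide) w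
  have h5 : (3 : ℕ) • w = w + w + w := by rw [succ_nsmul, two_nsmul]
  rw [h5] at h4
  exact neg_eq_of_add_eq_zero_left (add_eq_right.1 h4)

theorem add2 (w : V) : w + w = 0 := by
  nth_rewrite 1 [← neg2 w]
  exact neg_add_cancel w

/-- **Superadditivity of the rank of an operator on the fixed space.** -/
theorem rank_super_gen (ρ : Representation (ZMod 2) G V) {C : Subgroup G} (hC : Odd (Nat.card C))
    (W : Submodule (ZMod 2) V) (hW : ∀ g, W ≤ W.comap (ρ g)) (T : V →ₗ[ZMod 2] V) (T' : (V ⧸ W) →ₗ[ZMod 2] (V ⧸ W))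
    (hT : ∀ v, W.mkQ (T v) = T' (W.mkQ v)) :
    finrank (ZMod 2) ((VE ρ C ⊓ W).map T) + finrank (ZMod 2) ((VE (ρ.quotient W hW) C).map T') ≤
      finrank (ZMod 2) ((VE ρ C).map T) := by
  have h := finrank_map_add W.mkQ ((VE ρ C).map T)
  rw [Submodule.ker_mkQ] at h
  have hc : W.mkQ ∘ₗ T = T' ∘ₗ W.mkQ := LinearMap.ext hT
  have h1 : ((VE ρ C).map T).map W.mkQ = (VE (ρ.quotient W hW) C).map T' := by
    rw [← map_VE ρ hC W hW, ← Submodule.map_comp, ← Submodule.map_comp, hc]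
  have h2 : (VE ρ C ⊓ W).map T ≤ (VE ρ C).map T ⊓ W := by
    rintro _ ⟨v, ⟨hv, hvW⟩, rfl⟩
    refine ⟨⟨v, hv, rfl⟩, ?_⟩
    have h5 := hT v
    have h6 : W.mkQ v = 0 := (Submodule.Quotient.mk_eq_zero W).2 hvW
    rw [h6, map_zero] at h5
    exact (Submodule.Quotient.mk_eq_zero W).1 h5
  have h3 := Submodule.finrank_mono h2
  rw [h1] at h
  omega

theorem inf_eq_bot_gen (ρ : Representation (ZMod 2) G V) {C : Subgroup G} (hC : Odd (Nat.card C))
    (W : Submodule (ZMod 2) V) (hW : ∀ g, W ≤ W.comap (ρ g)) (T : V →ₗ[ZMod 2] V) (T' : (V ⧸ W) →ₗ[ZMod 2] (V ⧸ W))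
    (hT : ∀ v, W.mkQ (T v) = T' (W.mkQ v))
    (h : finrank (ZMod 2) ((VE ρ C).map T) ≤ finrank (ZMod 2) ((VE (ρ.quotient W hW) C).map T')) :
    (VE ρ C).map T ⊓ W = ⊥ := by
  have h0 := finrank_map_add W.mkQ ((VE ρ C).map T)
  rw [Submodule.ker_mkQ] at h0
  have hc : W.mkQ ∘ₗ T = T' ∘ₗ W.mkQ := LinearMap.ext hT
  have h1 : ((VE ρ C).map T).map W.mkQ = (VE (ρ.quotient W hW) C).map T' := by
    rw [← map_VE ρ hC W hW, ← Submodule.map_comp, ← Submodule.map_comp, hc]
  rw [h1] at h0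
  apply Submodule.finrank_eq_zero.1
  omega

/-- an involution has rank at most half the dimension -/
theorem half (t : V →ₗ[ZMod 2] V) (U : Submodule (ZMod 2) V) (h : ∀ x ∈ U, t (t x) = x) (hU : ∀ x ∈ U, t x ∈ U) :
    2 * finrank (ZMod 2) (U.map (LinearMap.id + t)) ≤ finrank (ZMod 2) U := by
  have h1 := finrank_map_add (LinearMap.id + t) U
  have h2 : U.map (LinearMap.id + t) ≤ U ⊓ LinearMap.ker (LinearMap.id + t) := by
    rintro _ ⟨x, hx, rfl⟩
    refine ⟨U.add_mem hx (hU x hx), ?_⟩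
    show (LinearMap.id + t : V →ₗ[ZMod 2] V) ((LinearMap.id + t : V →ₗ[ZMod 2] V) x) = 0
    simp only [LinearMap.add_apply, LinearMap.id_apply, map_add]
    rw [h x hx, add_comm (t x) x]
    exact add2 _
  have h3 := Submodule.finrank_mono h2
  omega

/-- **the rank of the trace is at most a quarter of the rank of `1 + z`** -/
theorem rank_T8_le (ρ : Representation (ZMod 2) G V) {i j : G} (h : QRel i j) (M : Submodule (ZMod 2) V)
    (hi : ∀ x ∈ M, ρ i x ∈ M) (hj : ∀ x ∈ M, ρ j x ∈ M) :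
    4 * finrank (ZMod 2) (M.map (T8 ρ i j)) ≤ finrank (ZMod 2) (M.map (ρ (i * i) - LinearMap.id)) := by
  have hid : (ρ (i * i) - LinearMap.id : V →ₗ[ZMod 2] V) = LinearMap.id + ρ (i * i) := by
    apply LinearMap.ext
    intro x
    rw [LinearMap.sub_apply, LinearMap.add_apply, sub_eq_add_neg, LinearMap.id_apply, neg2, add_comm]
  rw [hid]
  set M1 := M.map (LinearMap.id + ρ (i * i)) with hM1
  set M2 := M1.map (LinearMap.id + ρ i) with hM2
  have hzz : ∀ x : V, ρ (i * i) (ρ (i * i) x) = x := by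
    intro x
    rw [rmul, h.i4, map_one]
    rfl
  have z1 : ∀ x ∈ M1, ρ (i * i) x = x := by
    rintro _ ⟨m, -, rfl⟩
    simp only [LinearMap.add_apply, LinearMap.id_apply, map_add]
    rw [hzz, add_comm]
  have i1 : ∀ x ∈ M1, ρ i x ∈ M1 := by
    rintro _ ⟨m, hm, rfl⟩
    refine ⟨ρ i m, hi m hm, ?_⟩
    simp only [LinearMap.add_apply, LinearMap.id_apply, map_add, rmul, mul_assoc]
  have j1 : ∀ x ∈ M1, ρ j x ∈ M1 := by
    rintro _ ⟨m, hm, rfl⟩
    refine ⟨ρ j m, hj m hm, ?_⟩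
    simp only [LinearMap.add_apply, LinearMap.id_apply, map_add, rmul]
    rw [h.comm]
  have j2 : ∀ x ∈ M2, ρ j x ∈ M2 := by
    rintro _ ⟨x, hx, rfl⟩
    refine ⟨ρ j x, j1 x hx, ?_⟩
    simp only [LinearMap.add_apply, LinearMap.id_apply, map_add]
    congr 1
    rw [rmul, rmul, h.ji, ← rmul (g := i * i), ← rmul (g := i)]
    exact (z1 _ (i1 _ (j1 x hx))).symm
  have h1 := half (ρ i) M1 (fun x hx => by rw [rmul]; exact z1 x hx) i1
  have h2 := half (ρ j) M2 (by
    rintro _ ⟨x, hx, rfl⟩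
    rw [rmul, h.jj]
    simp only [LinearMap.add_apply, LinearMap.id_apply, map_add]
    rw [z1 x hx, z1 _ (i1 x hx)]) j2
  have h3 : M.map (T8 ρ i j) = M2.map (LinearMap.id + ρ j) := by
    rw [hM2, hM1, ← Submodule.map_comp, ← Submodule.map_comp]
    congr 1
    apply LinearMap.ext
    intro x
    rw [T8_apply]
    simp only [LinearMap.comp_apply, LinearMap.add_apply, LinearMap.id_apply, map_add, rmul, mul_assoc]
    abel
  rw [h3]
  rw [← hM2] at h1
  omega

end op

/-! ### the Steinberg modules -/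

section st

variable {F : Type} [Field F] [Fintype F] {V : Type} [AddCommGroup V] [Module (ZMod 2) V] [Module.Finite (ZMod 2) V]
  {ρ : Representation (ZMod 2) (G3 F) V}

/-- 2-subgroups are conjugate into `U` -/
theorem exists_conj_sub (hF : Fintype.card F = 4) {Q : Subgroup (G3 F)} (hQ : IsPGroup 2 Q) :
    ∃ g : G3 F, ∀ q ∈ Q, g⁻¹ * q * g ∈ UU F := by
  haveI : Fact (Nat.Prime 2) := ⟨Nat.prime_two⟩
  obtain ⟨P, hP⟩ := (pgroup_UU hF).exists_le_sylow
  have hPU : (P : Subgroup (G3 F)) = UU F := by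
    symm
    apply Subgroup.eq_of_le_of_card_ge hP
    obtain ⟨n, hn⟩ := IsPGroup.iff_card.1 P.2
    have h1 : Nat.card (P : Subgroup (G3 F)) = 2 ^ n := hn
    rw [h1, card_UU hF]
    apply Nat.pow_le_pow_right (by norm_num)
    by_contra hlt
    push Not at hlt
    have h2 : 2 ^ 7 ∣ Nat.card (G3 F) := (pow_dvd_pow 2 hlt).trans (h1 ▸ Subgroup.card_subgroup_dvd_card _)
    rw [card_G3 hF] at h2
    norm_num at h2
  obtain ⟨R, hR⟩ := hQ.exists_le_sylow
  obtain ⟨g, hg⟩ := MulAction.exists_smul_eq (G3 F) P R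
  refine ⟨g, fun q hq => ?_⟩
  have h3 : q ∈ (R : Subgroup (G3 F)) := hR hq
  rw [← hg] at h3
  have h4 : q ∈ (MulAut.conj g) • (P : Subgroup (G3 F)) := h3
  rw [Subgroup.mem_pointwise_smul_iff_inv_smul_mem] at h4
  have h5 : (MulAut.conj g)⁻¹ • q = g⁻¹ * q * g := by
    rw [← map_inv, MulAut.smul_def, MulAut.conj_apply, inv_inv]
  rw [h5, hPU] at h4
  exact h4

/-- **Steinberg modules are free over the 2-subgroups.** -/
theorem free_64_sub (hF : Fintype.card F = 4) {W : Submodule (ZMod 2) V} (hW : ∀ g, ∀ w ∈ W, ρ g w ∈ W) (h : Is64 ρ W)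
    (Q : Subgroup (G3 F)) [Fintype Q] (hQ : IsPGroup 2 Q) {x : V} (hx : x ∈ W) (hqx : ∀ q ∈ Q, ρ q x = x) :
    ∃ y ∈ W, x = ∑ q : Q, ρ (q : G3 F) y := by
  classical
  obtain ⟨hd, w, hwW, hw⟩ := h
  obtain ⟨g, hg⟩ := exists_conj_sub hF hQ
  letI := Fintype.ofFinite (UU F)
  let ρ' : Representation (ZMod 2) (UU F) V := ρ.comp (UU F).subtype
  have hsum : ∑ u, ρ' u w ≠ 0 := by
    rw [Up, finsum_eq_sum_of_fintype] at hw
    exact hw
  let f : UU F →* G3 F := (MulAut.conj g).toMonoidHom.comp (UU F).subtype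
  have hf : ∀ u, f u = g * u * g⁻¹ := fun u => rfl
  let Q' : Subgroup (UU F) := Q.comap f
  letI := Fintype.ofFinite Q'
  have hx' : ρ g⁻¹ x ∈ W := hW _ _ hx
  have hqx' : ∀ q ∈ Q', ρ' q (ρ g⁻¹ x) = ρ g⁻¹ x := by
    intro q hq
    have hq' : g * (q : G3 F) * g⁻¹ ∈ Q := hq
    show ρ (q : G3 F) (ρ g⁻¹ x) = ρ g⁻¹ x
    rw [rmul]
    have h1 : (q : G3 F) * g⁻¹ = g⁻¹ * (g * q * g⁻¹) := by group
    rw [h1, ← rmul, hqx _ hq']
  obtain ⟨y, hy, e⟩ := free_sub (pgroup_UU hF) ρ' W (fun u w hw => hW u w hw)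
    (by rw [card_UU hF]; exact hd.1) hwW hsum Q' hx' hqx'
  refine ⟨ρ g y, hW _ _ hy, ?_⟩
  have e1 : x = ρ g (ρ g⁻¹ x) := by
    rw [rmul, mul_inv_cancel, map_one]
    rfl
  rw [e1, e, map_sum]
  let φ : Q' → Q := fun q => ⟨g * (q : UU F) * g⁻¹, q.2⟩
  have hφ : Function.Bijective φ := by
    constructor
    · intro a b hab
      have h1 : g * ((a : UU F) : G3 F) * g⁻¹ = g * ((b : UU F) : G3 F) * g⁻¹ := congrArg Subtype.val hab
      exact Subtype.ext (Subtype.ext (mul_left_cancel (mul_right_cancel h1)))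
    · rintro ⟨q, hq⟩
      refine ⟨⟨⟨g⁻¹ * q * g, hg q hq⟩, ?_⟩, ?_⟩
      · show g * (g⁻¹ * q * g) * g⁻¹ ∈ Q
        have h1 : g * (g⁻¹ * q * g) * g⁻¹ = q := by group
        rw [h1]
        exact hq
      · apply Subtype.ext
        show g * (g⁻¹ * q * g) * g⁻¹ = q
        group
  rw [← Function.Bijective.sum_comp hφ (fun q : Q => ρ (q : G3 F) (ρ g y))]
  apply Finset.sum_congr rfl
  intro q _
  show ρ g (ρ ((q : UU F) : G3 F) y) = ρ (g * ((q : UU F) : G3 F) * g⁻¹) (ρ g y)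
  rw [rmul, rmul]
  congr 2
  group

theorem exists_fix_two {X : Submodule (ZMod 2) V} (hX : X ≠ ⊥) (t : V →ₗ[ZMod 2] V) (h : ∀ x ∈ X, t (t x) = x)
    (hU : ∀ x ∈ X, t x ∈ X) : X ⊓ LinearMap.ker (LinearMap.id + t) ≠ ⊥ := by
  obtain ⟨x, hx, hx0⟩ := (Submodule.ne_bot_iff X).1 hX
  rw [Submodule.ne_bot_iff]
  by_cases h0 : x + t x = 0
  · exact ⟨x, ⟨hx, h0⟩, hx0⟩
  · refine ⟨x + t x, ⟨X.add_mem hx (hU x hx), ?_⟩, h0⟩
    show x + t x + t (x + t x) = 0
    rw [map_add, h x hx, add_comm (t x) x]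
    exact add2 _

theorem qrel {w : F} (hw : w ^ 2 + w + 1 = 0) (hF : Fintype.card F = 4) : QRel (gi w hw hF) (gj w hw hF) := by
  refine ⟨zz_mul hw hF, jj hw hF, ?_, zz_ne hw hF⟩
  -- `j i j = i`, `j⁻¹ = i² j`
  have h1 := ji hw hF
  have hj4 : gj w hw hF * gj w hw hF * (gj w hw hF * gj w hw hF) = 1 := by
    rw [jj, zz_mul]
  have h2 : gj w hw hF * gi w hw hF = gi w hw hF * (gj w hw hF * (gj w hw hF * gj w hw hF)) := by
    calc gj w hw hF * gi w hw hF
        = gj w hw hF * gi w hw hF * (gj w hw hF * gj w hw hF * (gj w hw hF * gj w hw hF)) := by rw [hj4, mul_one]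
      _ = (gj w hw hF * (gi w hw hF * gj w hw hF)) * (gj w hw hF * (gj w hw hF * gj w hw hF)) := by
          simp only [mul_assoc]
      _ = gi w hw hF * (gj w hw hF * (gj w hw hF * gj w hw hF)) := by rw [h1]
  rw [h2, ← mul_assoc (gj w hw hF), jj]
  simp only [mul_assoc]

/-- the fixed space of `E` is invariant under `Q₈` -/
theorem VE_inv {w : F} (hw : w ^ 2 + w + 1 = 0) (hF : Fintype.card F = 4) (hc : CT ρ) :
    (∀ x ∈ VE ρ (EE w hw), ρ (gi w hw hF) x ∈ VE ρ (EE w hw)) ∧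
    ∀ x ∈ VE ρ (EE w hw), ρ (gj w hw hF) x ∈ VE ρ (EE w hw) := by
  constructor
  · intro x hx
    rw [mem_VE_iff hw hc] at hx ⊢
    exact gi_VE hw hF hc hx.1 hx.2
  · intro x hx
    rw [mem_VE_iff hw hc] at hx ⊢
    exact gj_VE hw hF hc hx.1 hx.2

/-- `av` commutes with elements whose inverse preserves fixed vectors -/
theorem conj_gen {w : F} (hw : w ^ 2 + w + 1 = 0) {x : G3 F} (h1 : x * g1 w hw * x⁻¹ ∈ EE w hw)
    (h2 : x * g2 * x⁻¹ ∈ EE w hw) : ∀ g ∈ EE w hw, x * g * x⁻¹ ∈ EE w hw := by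
  intro g hg
  have h3 : EE w hw ≤ (EE w hw).comap (MulAut.conj x).toMonoidHom := by
    apply EE_le
    · show x * s0 w hw * x⁻¹ ∈ EE w hw
      rw [← s0_comm, mul_inv_cancel_right]
      exact s0_mem hw
    · exact h1
    · exact h2
  exact h3 hg

theorem conj_gi {w : F} (hw : w ^ 2 + w + 1 = 0) (hF : Fintype.card F = 4) :
    ∀ g ∈ EE w hw, gi w hw hF * g * (gi w hw hF)⁻¹ ∈ EE w hw := by
  apply conj_gen
  · rw [r1, mul_inv_cancel_right]
    exact g2_mem hw
  · have h1 : gi w hw hF * g2 * (gi w hw hF)⁻¹ = (g1 w hw)⁻¹ := by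
      rw [mul_inv_eq_iff_eq_mul, eq_inv_mul_iff_mul_eq, r2]
    rw [h1]
    exact (EE w hw).inv_mem (g1_mem hw)

theorem conj_gj {w : F} (hw : w ^ 2 + w + 1 = 0) (hF : Fintype.card F = 4) :
    ∀ g ∈ EE w hw, gj w hw hF * g * (gj w hw hF)⁻¹ ∈ EE w hw := by
  apply conj_gen
  · have h1 : gj w hw hF * g1 w hw * (gj w hw hF)⁻¹ = s0 w hw * (g1 w hw * g2) := by
      rw [mul_inv_eq_iff_eq_mul, r3]
      simp only [mul_assoc]
    rw [h1]
    exact (EE w hw).mul_mem (s0_mem hw) ((EE w hw).mul_mem (g1_mem hw) (g2_mem hw))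
  · have h1 : gj w hw hF * g2 * (gj w hw hF)⁻¹ = s0 w hw * (s0 w hw * (g1 w hw * (g2 * g2))) := by
      rw [mul_inv_eq_iff_eq_mul, r4]
      simp only [mul_assoc]
    rw [h1]
    exact (EE w hw).mul_mem (s0_mem hw) ((EE w hw).mul_mem (s0_mem hw) ((EE w hw).mul_mem (g1_mem hw)
      ((EE w hw).mul_mem (g2_mem hw) (g2_mem hw))))

theorem av_T8 {w : F} (hw : w ^ 2 + w + 1 = 0) (hF : Fintype.card F = 4) (y : V) :
    T8 ρ (gi w hw hF) (gj w hw hF) (av ρ (EE w hw) y) = av ρ (EE w hw) (T8 ρ (gi w hw hF) (gj w hw hF) y) := by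
  have hi : ∀ x : V, ρ (gi w hw hF) (av ρ (EE w hw) x) = av ρ (EE w hw) (ρ (gi w hw hF) x) :=
    av_comm ρ (conj_gi hw hF)
  have hj : ∀ x : V, ρ (gj w hw hF) (av ρ (EE w hw) x) = av ρ (EE w hw) (ρ (gj w hw hF) x) :=
    av_comm ρ (conj_gj hw hF)
  rw [T8_apply, T8_apply]
  simp only [← rmul, map_add, hi, hj]

/-- **the trace of `Q₈` does not vanish on the fixed space of `E` in a Steinberg module** -/
theorem T8_64 {w : F} (hw : w ^ 2 + w + 1 = 0) (hF : Fintype.card F = 4) (hc : CT ρ) {W : Submodule (ZMod 2) V}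
    (hW : ∀ g, ∀ w ∈ W, ρ g w ∈ W) (h : Is64 ρ W) :
    1 ≤ finrank (ZMod 2) ((VE ρ (EE w hw) ⊓ W).map (T8 ρ (gi w hw hF) (gj w hw hF))) := by
  classical
  have hq := qrel hw hF
  obtain ⟨hi, hj⟩ := VE_inv (ρ := ρ) hw hF hc
  set M := VE ρ (EE w hw) ⊓ W with hM
  have hdim := dims_EE hw hF hc hW h.1
  have hM0 : M ≠ ⊥ := by
    intro h0
    rw [← hM, h0, finrank_bot] at hdim
    omega
  have mi : ∀ x ∈ M, ρ (gi w hw hF) x ∈ M := fun x hx => ⟨hi x hx.1, hW _ x hx.2⟩
  have mj : ∀ x ∈ M, ρ (gj w hw hF) x ∈ M := fun x hx => ⟨hj x hx.1, hW _ x hx.2⟩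
  have e1 : ∀ x : V, ρ (1 : G3 F) x = x := fun x => by rw [map_one]; rfl
  -- fixed vectors of `z`, `i`, `j`
  set M1 := M ⊓ LinearMap.ker (LinearMap.id + ρ (gi w hw hF * gi w hw hF)) with hM1
  have n1 : M1 ≠ ⊥ := exists_fix_two hM0 _ (fun x _ => by rw [rmul, hq.i4, e1])
    (fun x hx => by rw [← rmul]; exact mi _ (mi _ hx))
  have k1 : ∀ x ∈ M1, ρ (gi w hw hF * gi w hw hF) x = x := by
    rintro x ⟨-, hx⟩
    have h1 : x + ρ (gi w hw hF * gi w hw hF) x = 0 := hx
    have h2 := eq_neg_of_add_eq_zero_right h1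
    rw [h2, neg2]
  have mem1 : ∀ x ∈ M, ρ (gi w hw hF * gi w hw hF) x = x → x ∈ M1 := by
    intro x hx h1
    refine ⟨hx, ?_⟩
    show x + ρ (gi w hw hF * gi w hw hF) x = 0
    rw [h1]
    exact add2 x
  have i1 : ∀ x ∈ M1, ρ (gi w hw hF) x ∈ M1 := by
    intro x hx
    apply mem1 _ (mi x hx.1)
    rw [rmul, mul_assoc, ← rmul, k1 x hx]
  have j1 : ∀ x ∈ M1, ρ (gj w hw hF) x ∈ M1 := by
    intro x hx
    apply mem1 _ (mj x hx.1)
    rw [rmul, hq.comm, ← rmul, k1 x hx]
  set M2 := M1 ⊓ LinearMap.ker (LinearMap.id + ρ (gi w hw hF)) with hM2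
  have n2 : M2 ≠ ⊥ := exists_fix_two n1 _ (fun x hx => by rw [rmul, k1 x hx]) i1
  have k2 : ∀ x ∈ M2, ρ (gi w hw hF) x = x := by
    rintro x ⟨-, hx⟩
    have h1 : x + ρ (gi w hw hF) x = 0 := hx
    have h2 := eq_neg_of_add_eq_zero_right h1
    rw [h2, neg2]
  have j2 : ∀ x ∈ M2, ρ (gj w hw hF) x ∈ M2 := by
    intro x hx
    refine ⟨j1 x hx.1, ?_⟩
    show ρ (gj w hw hF) x + ρ (gi w hw hF) (ρ (gj w hw hF) x) = 0
    have h1 : ρ (gi w hw hF) (ρ (gj w hw hF) x) = ρ (gj w hw hF) x := by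
      have h2 : ρ (gj w hw hF) (ρ (gi w hw hF) x) = ρ (gi w hw hF * gi w hw hF) (ρ (gi w hw hF) (ρ (gj w hw hF) x)) := by
        rw [rmul, rmul, rmul, hq.ji, mul_assoc (gi w hw hF * gi w hw hF)]
      rw [k2 x hx] at h2
      rw [k1 _ (i1 _ (j1 x hx.1))] at h2
      exact h2.symm
    rw [h1]
    exact add2 _
  set M3 := M2 ⊓ LinearMap.ker (LinearMap.id + ρ (gj w hw hF)) with hM3
  have n3 : M3 ≠ ⊥ := exists_fix_two n2 _ (fun x hx => by rw [rmul, hq.jj, k1 x hx.1]) j2
  have k3 : ∀ x ∈ M3, ρ (gj w hw hF) x = x := by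
    rintro x ⟨-, hx⟩
    have h1 : x + ρ (gj w hw hF) x = 0 := hx
    have h2 := eq_neg_of_add_eq_zero_right h1
    rw [h2, neg2]
  obtain ⟨x, hx, hx0⟩ := (Submodule.ne_bot_iff M3).1 n3
  have xi : ρ (gi w hw hF) x = x := k2 x hx.1
  have xj : ρ (gj w hw hF) x = x := k3 x hx
  have xM : x ∈ M := hx.1.1.1
  letI := Fintype.ofFinite (qg hq)
  have xq : ∀ q ∈ qg hq, ρ q x = x := by
    have xpow : ∀ k : ℕ, ρ (gi w hw hF ^ k) x = x := by
      intro k
      induction k with
      | zero => rw [pow_zero, e1]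
      | succ k ih => rw [pow_succ, ← rmul, xi, ih]
    rintro q ⟨k, rfl | rfl⟩
    · exact xpow k
    · rw [← rmul, xpow, xj]
  obtain ⟨y, hy, e⟩ := free_64_sub hF hW h (qg hq) (pgroup_qg hq) xM.2 xq
  rw [sum_T8 ρ hq] at e
  have e2 : x = T8 ρ (gi w hw hF) (gj w hw hF) (av ρ (EE w hw) y) := by
    rw [av_T8, ← e, av_eq_self ρ (EE_odd hw) xM.1]
  have h3 : x ∈ M.map (T8 ρ (gi w hw hF) (gj w hw hF)) :=
    ⟨av ρ (EE w hw) y, ⟨av_mem ρ _ y, av_mem_of_inv ρ W hW hy⟩, e2.symm⟩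
  rw [Nat.one_le_iff_ne_zero]
  intro h0
  have h4 := Submodule.finrank_eq_zero.1 h0
  rw [h4] at h3
  exact hx0 ((Submodule.mem_bot _).1 h3)

end st

section main

variable {F : Type} [Field F] [Fintype F]

/-- **The dimensions of every module, with the ranks of `1 + z` and of the trace.** -/
theorem main3 {w : F} (hw : w ^ 2 + w + 1 = 0) (hF : Fintype.card F = 4) : ∀ (n : ℕ) (V : Type) [AddCommGroup V]
    [Module (ZMod 2) V] [Module.Finite (ZMod 2) V] (ρ : Representation (ZMod 2) (G3 F) V), finrank (ZMod 2) V ≤ n →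
    CT ρ → ∃ a b c d : ℕ, Dims ρ ⊤ (a + 16 * b + 9 * c + 64 * d) (a + 4 * b + 3 * c + 22 * d) (a + 4 * b + c + 12 * d)
      (a + 4 * b + 10 * d) ∧
      4 * d ≤ finrank (ZMod 2) ((VE ρ (EE w hw)).map (ρ (gi w hw hF * gi w hw hF) - LinearMap.id)) ∧
      d ≤ finrank (ZMod 2) ((VE ρ (EE w hw)).map (T8 ρ (gi w hw hF) (gj w hw hF))) := by
  intro n
  induction n with
  | zero =>
    intro V _ _ _ ρ hn _
    have h0 : ∀ X : Submodule (ZMod 2) V, finrank (ZMod 2) X = 0 := fun X =>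
      Nat.le_zero.1 ((Submodule.finrank_le X).trans hn)
    exact ⟨0, 0, 0, 0, ⟨h0 _, fun g _ _ => h0 _, fun g _ => h0 _, fun g _ => h0 _⟩, Nat.zero_le _, Nat.zero_le _⟩
  | succ n ih =>
    intro V _ _ _ ρ hn hc
    rcases Nat.eq_zero_or_pos (finrank (ZMod 2) V) with hzero | hpos
    · have h0 : ∀ X : Submodule (ZMod 2) V, finrank (ZMod 2) X = 0 := fun X =>
        Nat.le_zero.1 ((Submodule.finrank_le X).trans hzero.le)
      exact ⟨0, 0, 0, 0, ⟨h0 _, fun g _ _ => h0 _, fun g _ => h0 _, fun g _ => h0 _⟩, Nat.zero_le _, Nat.zero_le _⟩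
    · have : Nontrivial V := Module.finrank_pos_iff.1 hpos
      obtain ⟨W, hs⟩ := exists_simp (ρ := ρ)
      have hW : ∀ g, ∀ w ∈ W, ρ g w ∈ W := hs.1
      have hW' : ∀ g, W ≤ W.comap (ρ g) := fun g w hw => hW g w hw
      have hWpos : 0 < finrank (ZMod 2) W := by
        rw [Nat.pos_iff_ne_zero]
        intro h
        exact hs.2.1 (Submodule.finrank_eq_zero.1 h)
      have hq := Submodule.finrank_quotient_add_finrank W
      obtain ⟨a, b, c, d, hd, hr, hr2⟩ := ih (V ⧸ W) (ρ.quotient W hW') (by omega) (CT_quotient hc W hW')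
      have hsup := rank_super ρ (EE_odd hw) W hW' (gi w hw hF * gi w hw hF)
      have hsup2 := rank_super_gen ρ (EE_odd hw) W hW' (T8 ρ (gi w hw hF) (gj w hw hF))
        (T8 (ρ.quotient W hW') (gi w hw hF) (gj w hw hF)) (T8_mkQ ρ _ _ W hW')
      rcases H482.LF.simp_cases hF hc hs with h | h | h | h | h
      · have hdW := dims_trivial h (finrank_of_simp_trivial hs h)
        refine ⟨a + 1, b, c, d, ?_, by omega, by omega⟩
        have h3 := dims_add W hW' hdW hd
        convert h3 using 1 <;> ring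
      · refine ⟨a, b, c + 1, d, ?_, by omega, by omega⟩
        have h3 := dims_add W hW' (H360.L34.nine_dims hF h) hd
        convert h3 using 1 <;> ring
      · refine ⟨a, b, c + 1, d, ?_, by omega, by omega⟩
        have h3 := dims_add W hW' (H360.L34.nine_dims hF h) hd
        convert h3 using 1 <;> ring
      · refine ⟨a, b + 1, c, d, ?_, by omega, by omega⟩
        have h3 := dims_add W hW' h hd
        convert h3 using 1 <;> ring
      · have h3 := dims_add W hW' h.1 hd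
        have h4 := dims_EE hw hF hc hW h.1
        have h5 := rank_free ρ (EE_odd hw) W hW (EE_conj hw hF)
          (fun x hx hzx => free_64 hF hW h (zz_mul hw hF) (zz_ne hw hF) hx hzx)
        have h6 := T8_64 hw hF hc hW h
        refine ⟨a, b, c, d + 1, ?_, by omega, by omega⟩
        convert h3 using 1 <;> ring

end main

section facts

variable {F : Type} [Field F] [Fintype F] {V : Type} [AddCommGroup V] [Module (ZMod 2) V] [Module.Finite (ZMod 2) V]
  {ρ : Representation (ZMod 2) (G3 F) V}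

theorem VE_eq {w : F} (hw : w ^ 2 + w + 1 = 0) (hc : CT ρ) : VE ρ (EE w hw) =
    LinearMap.ker (ρ (g1 w hw) - LinearMap.id) ⊓ LinearMap.ker (ρ g2 - LinearMap.id) := by
  ext x
  rw [mem_VE_iff hw hc, Submodule.mem_inf, LinearMap.mem_ker, LinearMap.mem_ker, LinearMap.sub_apply,
    LinearMap.sub_apply, LinearMap.id_apply, sub_eq_zero, sub_eq_zero]

/-- the numbers of an invariant subspace of dimension less than 64 and of the quotient -/
theorem quot_three {w : F} (hw : w ^ 2 + w + 1 = 0) (hF : Fintype.card F = 4) (hc : CT ρ) {n5 n7 : ℕ}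
    (hn5 : n5 = 68 ∨ n5 = 48) (hn7 : n7 = 80 ∨ n7 = 38)
    (hd : Dims ρ (⊤ : Submodule (ZMod 2) V) 248 86 n5 n7) {X : Submodule (ZMod 2) V} (hX : _root_.Cfsg.Agent.H691.L34.Inv ρ X)
    (h64 : finrank (ZMod 2) X < 64) (hX' : ∀ g, X ≤ X.comap (ρ g)) :
    3 ≤ finrank (ZMod 2) ((VE (ρ.quotient X hX') (EE w hw)).map
      (T8 (ρ.quotient X hX') (gi w hw hF) (gj w hw hF))) := by
  haveI : Fact (Nat.Prime 3) := ⟨Nat.prime_three⟩
  haveI : Fact (Nat.Prime 5) := ⟨Nat.prime_five⟩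
  haveI : Fact (Nat.Prime 7) := ⟨by norm_num⟩
  have e1 : orderOf (g1 w hw) = 3 := by
    apply orderOf_eq_prime (g1_cube hw)
    intro h1
    have h2 := g12_ne hw hF
    rw [h1, one_mul, mul_one] at h2
    exact h2 rfl
  have c1 : g1 w hw ∉ Subgroup.center (G3 F) := fun h => g12_ne hw hF (Subgroup.mem_center_iff.1 h g2).symm
  obtain ⟨x5, hx5⟩ := exists_prime_orderOf_dvd_card' (G := G3 F) 5 (by rw [card_G3 hF]; norm_num)
  obtain ⟨x7, hx7⟩ := exists_prime_orderOf_dvd_card' (G := G3 F) 7 (by rw [card_G3 hF]; norm_num)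
  obtain ⟨a, b, c, d, hq, -, hr⟩ := main3 hw hF _ (V ⧸ X) (ρ.quotient X hX') le_rfl (CT_quotient hc X hX')
  obtain ⟨a', b', c', d', p0, p3, p5, p7⟩ := H482.LF.PL hF hc (A := (⊥ : Submodule (ZMod 2) V)) (B := X)
    (fun g x hx => by rw [(Submodule.mem_bot _).1 hx, map_zero]; exact Submodule.zero_mem _) hX bot_le
  have hbot : ∀ g, fx ρ g (⊥ : Submodule (ZMod 2) V) = ⊥ := fun g => bot_inf_eq _
  have z3 := p3 _ e1 c1
  have z5 := p5 _ hx5
  have z7 := p7 _ hx7
  rw [hbot, finrank_bot] at z3 z5 z7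
  rw [finrank_bot] at p0
  have q0 := Submodule.finrank_quotient_add_finrank X
  have q3 := fx_add (ρ := ρ) X hX' (g := g1 w hw) (by rw [e1]; decide)
  have q5 := fx_add (ρ := ρ) X hX' (g := x5) (by rw [hx5]; decide)
  have q7 := fx_add (ρ := ρ) X hX' (g := x7) (by rw [hx7]; decide)
  rw [hd.2.1 _ e1 c1, z3, hq.2.1 _ e1 c1] at q3
  rw [hd.2.2.1 _ hx5, z5, hq.2.2.1 _ hx5] at q5
  rw [hd.2.2.2 _ hx7, z7, hq.2.2.2 _ hx7] at q7
  have t0 : finrank (ZMod 2) (⊤ : Submodule (ZMod 2) V) = 248 := hd.1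
  have t1 : finrank (ZMod 2) (⊤ : Submodule (ZMod 2) (V ⧸ X)) = _ := hq.1
  rw [finrank_top] at t0 t1
  rw [t0, t1] at q0
  (clear * - hn5 hn7 h64 hr p0 q0 q3 q5 q7; omega)

/-- **(S5)** the facts on the trace -/
theorem tr_facts {w : F} (hw : w ^ 2 + w + 1 = 0) (hF : Fintype.card F = 4) (hc : CT ρ) {n5 n7 : ℕ}
    (hn5 : n5 = 68 ∨ n5 = 48) (hn7 : n7 = 80 ∨ n7 = 38)
    (hd : Dims ρ (⊤ : Submodule (ZMod 2) V) 248 86 n5 n7)
    (h20 : Module.finrank (ZMod 2) (LinearMap.ker (ρ (g1 w hw) - LinearMap.id) ⊓ LinearMap.ker (ρ g2 - LinearMap.id) ⊓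
      LinearMap.ker (ρ (gi w hw hF * gi w hw hF) - LinearMap.id) : Submodule (ZMod 2) V) = 20) :
    finrank (ZMod 2) (VE ρ (EE w hw)) = 32 ∧
    finrank (ZMod 2) ((VE ρ (EE w hw)).map (ρ (gi w hw hF * gi w hw hF) - LinearMap.id)) = 12 ∧
    finrank (ZMod 2) ((VE ρ (EE w hw)).map (T8 ρ (gi w hw hF) (gj w hw hF))) = 3 ∧
    ∀ X : Submodule (ZMod 2) V, _root_.Cfsg.Agent.H691.L34.Inv ρ X → finrank (ZMod 2) X < 64 →
      (VE ρ (EE w hw)).map (T8 ρ (gi w hw hF) (gj w hw hF)) ⊓ X = ⊥ := by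
  have hVE := VE_eq (ρ := ρ) hw hc
  rw [← hVE] at h20
  have h32 := dims_EE hw hF hc (W := ⊤) (fun _ _ _ => Submodule.mem_top) hd
  rw [inf_top_eq] at h32
  have hrk := finrank_map_add (ρ (gi w hw hF * gi w hw hF) - LinearMap.id) (VE ρ (EE w hw))
  obtain ⟨vi, vj⟩ := VE_inv (ρ := ρ) hw hF hc
  have hle := rank_T8_le ρ (qrel hw hF) (VE ρ (EE w hw)) vi vj
  have hup : finrank (ZMod 2) ((VE ρ (EE w hw)).map (T8 ρ (gi w hw hF) (gj w hw hF))) ≤ 3 := by omega
  have key : ∀ X : Submodule (ZMod 2) V, _root_.Cfsg.Agent.H691.L34.Inv ρ X → finrank (ZMod 2) X < 64 →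
      3 ≤ finrank (ZMod 2) ((VE ρ (EE w hw)).map (T8 ρ (gi w hw hF) (gj w hw hF))) ∧
      (VE ρ (EE w hw)).map (T8 ρ (gi w hw hF) (gj w hw hF)) ⊓ X = ⊥ := by
    intro X hX h64
    have hX' : ∀ g, X ≤ X.comap (ρ g) := fun g w hw => hX g w hw
    have h3 := quot_three hw hF hc hn5 hn7 hd hX h64 hX'
    have hsup2 := rank_super_gen ρ (EE_odd hw) X hX' (T8 ρ (gi w hw hF) (gj w hw hF))
      (T8 (ρ.quotient X hX') (gi w hw hF) (gj w hw hF)) (T8_mkQ ρ _ _ X hX')
    refine ⟨by omega, ?_⟩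
    exact inf_eq_bot_gen ρ (EE_odd hw) X hX' _ _ (T8_mkQ ρ _ _ X hX') (by omega)
  have h0 := (key ⊥ (fun g x hx => by rw [(Submodule.mem_bot _).1 hx, map_zero]; exact Submodule.zero_mem _)
    (by rw [finrank_bot]; norm_num)).1
  exact ⟨by omega, by omega, by omega, fun X hX h64 => (key X hX h64).2⟩

/-- traces are fixed by the quaternion group -/
theorem T8_fix (ρ : Representation (ZMod 2) (G3 F) V) {i j : G3 F} (h : QRel i j) (y : V) :
    ρ i (T8 ρ i j y) = T8 ρ i j y ∧ ρ j (T8 ρ i j y) = T8 ρ i j y := by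
  classical
  letI := Fintype.ofFinite (qg h)
  have key : ∀ g ∈ qg h, ρ g (T8 ρ i j y) = T8 ρ i j y := by
    intro g hg
    rw [← sum_T8 ρ h, map_sum]
    apply Fintype.sum_equiv (Equiv.mulLeft (⟨g, hg⟩ : qg h))
    intro q
    rw [Equiv.coe_mulLeft, rmul]
    rfl
  refine ⟨key _ ⟨1, Or.inl (pow_one i).symm⟩, key _ ⟨0, Or.inr ?_⟩⟩
  rw [pow_zero, mul_one]

theorem T8_mem {w : F} (hw : w ^ 2 + w + 1 = 0) (hF : Fintype.card F = 4) (hc : CT ρ) {y : V}
    (hy : y ∈ VE ρ (EE w hw)) : T8 ρ (gi w hw hF) (gj w hw hF) y ∈ VE ρ (EE w hw) ∧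
    ρ (gi w hw hF) (T8 ρ (gi w hw hF) (gj w hw hF) y) = T8 ρ (gi w hw hF) (gj w hw hF) y ∧
    ρ (gj w hw hF) (T8 ρ (gi w hw hF) (gj w hw hF) y) = T8 ρ (gi w hw hF) (gj w hw hF) y := by
  refine ⟨?_, T8_fix ρ (qrel hw hF) y⟩
  obtain ⟨vi, vj⟩ := VE_inv (ρ := ρ) hw hF hc
  rw [T8_apply]
  have h1 := vi y hy
  have h2 : ρ (gi w hw hF * gi w hw hF) y ∈ VE ρ (EE w hw) := by rw [← rmul]; exact vi _ h1
  have h3 : ρ (gi w hw hF * gi w hw hF * gi w hw hF) y ∈ VE ρ (EE w hw) := by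
    rw [mul_assoc, ← rmul, ← rmul]; exact vi _ (vi _ h1)
  have h4 := Submodule.add_mem _ (Submodule.add_mem _ (Submodule.add_mem _ hy h1) h2) h3
  exact Submodule.add_mem _ h4 (vj _ h4)

end facts

end Cfsg.Agent.H904.L34.Unit
end

-- part: H955/L34/Gen
section
/-!
# S5917: the unitary group is generated by `s0`, `g1`, `g2`, `gi`, `gj` (helper955)
-/

set_option autoImplicit false
set_option linter.unusedSectionVars false

namespace Cfsg.Agent.H955.L34.Gen

open Matrix Cfsg.Agent.H691.L34 Cfsg.Agent.H904.L34 Cfsg.Agent.H904.L34.Unit Module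

variable {F : Type} [Field F] [Fintype F]

theorem cases4 (hF : Fintype.card F = 4) {w : F} (hw : w ^ 2 + w + 1 = 0) {x : F} (hx : x ≠ 0) :
    x = 1 ∨ x = w ∨ x = w ^ 2 := by
  have h : x ^ 3 = 1 := pow_three hF hx
  have h1 : (x - 1) * ((x - w) * (x - w ^ 2)) = 0 := by
    have h3 : w ^ 3 = 1 := by linear_combination (w - 1) * hw
    linear_combination h + (-x ^ 2 + x) * hw + (x - 1) * h3
  rcases mul_eq_zero.1 h1 with h | h
  · exact Or.inl (sub_eq_zero.1 h)
  rcases mul_eq_zero.1 h with h | h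
  · exact Or.inr (Or.inl (sub_eq_zero.1 h))
  · exact Or.inr (Or.inr (sub_eq_zero.1 h))

/-- the entries of a matrix -/
theorem eta (M : M3 F) : M = !![M 0 0, M 0 1, M 0 2; M 1 0, M 1 1, M 1 2; M 2 0, M 2 1, M 2 2] := by
  ext i j
  fin_cases i <;> fin_cases j <;> rfl

section

variable (hF : Fintype.card F = 4) {w : F} (hw : w ^ 2 + w + 1 = 0) {T : Subgroup (G3 F)} (h0 : s0 w hw ∈ T)
  (h1 : g1 w hw ∈ T) (h2 : g2 ∈ T) (hi : gi w hw hF ∈ T) (hj : gj w hw hF ∈ T)

include hF h0 in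
/-- scalars -/
theorem exists_sc {x : F} (hx : x ≠ 0) : ∃ g ∈ T, g.1 = !![x, 0, 0; 0, x, 0; 0, 0, x] := by
  rcases cases4 hF hw hx with rfl | rfl | rfl
  · exact ⟨1, T.one_mem, one_eq⟩
  · exact ⟨_, h0, rfl⟩
  · refine ⟨s0 w hw * s0 w hw, T.mul_mem h0 h0, ?_⟩
    rw [co_mul]
    show (!![w, 0, 0; 0, w, 0; 0, 0, w] * !![w, 0, 0; 0, w, 0; 0, 0, w] : M3 F) = _
    rw [mulM]
    refine eqM ?_ ?_ ?_ ?_ ?_ ?_ ?_ ?_ ?_ <;> ring

include hF h1 in
/-- diagonal elements -/
theorem exists_dg {x : F} (hx : x ≠ 0) : ∃ g ∈ T, g.1 = !![1, 0, 0; 0, x, 0; 0, 0, x ^ 2] := by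
  rcases cases4 hF hw hx with rfl | rfl | rfl
  · refine ⟨1, T.one_mem, ?_⟩
    rw [co_one, one_eq, one_pow]
  · exact ⟨_, h1, rfl⟩
  · refine ⟨g1 w hw * g1 w hw, T.mul_mem h1 h1, ?_⟩
    rw [co_mul]
    show (!![1, 0, 0; 0, w, 0; 0, 0, w ^ 2] * !![1, 0, 0; 0, w, 0; 0, 0, w ^ 2] : M3 F) = _
    rw [mulM]
    refine eqM ?_ ?_ ?_ ?_ ?_ ?_ ?_ ?_ ?_ <;> ring

/-- the equations of a unitary matrix -/
theorem unit_eq {g : G3 F} (hg : hact g (1 : M3 F) = 1) :
    (∀ i j, g.1 i 0 * g.1 j 0 ^ 2 + g.1 i 1 * g.1 j 1 ^ 2 + g.1 i 2 * g.1 j 2 ^ 2 = (1 : M3 F) i j) ∧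
    g.1 0 0 ^ 3 + g.1 1 0 ^ 3 + g.1 2 0 ^ 3 = 1 := by
  have e1 : g.1 * ct g.1 = 1 := by
    have h : g.1 * 1 * ct g.1 = 1 := hg
    rwa [Matrix.mul_one] at h
  have e2 : ct g.1 * g.1 = 1 := mul_eq_one_comm.1 e1
  constructor
  · intro i j
    have h : (g.1 * ct g.1) i j = (1 : M3 F) i j := by rw [e1]
    rw [Matrix.mul_apply, Fin.sum_univ_three] at h
    exact h
  · have h : (ct g.1 * g.1) 0 0 = (1 : M3 F) 0 0 := by rw [e2]
    rw [Matrix.mul_apply, Fin.sum_univ_three] at h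
    have h3 : g.1 0 0 ^ 2 * g.1 0 0 + g.1 1 0 ^ 2 * g.1 1 0 + g.1 2 0 ^ 2 * g.1 2 0 = 1 := h
    linear_combination h3

include hF h1 hi in
/-- the elements fixing the first basis vector -/
theorem stab {g : G3 F} (hg : hact g (1 : M3 F) = 1) (c0 : g.1 0 0 = 1) (c1 : g.1 1 0 = 0) (c2 : g.1 2 0 = 0) :
    g ∈ T := by
  have t2 : (2 : F) = 0 := two_zero hF
  obtain ⟨hu, -⟩ := unit_eq hg
  have hdet : g.1 0 0 * g.1 1 1 * g.1 2 2 - g.1 0 0 * g.1 1 2 * g.1 2 1 - g.1 0 1 * g.1 1 0 * g.1 2 2 +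
      g.1 0 1 * g.1 1 2 * g.1 2 0 + g.1 0 2 * g.1 1 0 * g.1 2 1 - g.1 0 2 * g.1 1 1 * g.1 2 0 = 1 := by
    have h := g.2
    rwa [Matrix.det_fin_three] at h
  have u01 := hu 0 1
  have u02 := hu 0 2
  have u11 := hu 1 1
  have u12 := hu 1 2
  have o01 : (1 : M3 F) 0 1 = 0 := Matrix.one_apply_ne (by decide)
  have o02 : (1 : M3 F) 0 2 = 0 := Matrix.one_apply_ne (by decide)
  have o12 : (1 : M3 F) 1 2 = 0 := Matrix.one_apply_ne (by decide)
  have o11 : (1 : M3 F) 1 1 = 1 := Matrix.one_apply_eq _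
  rw [o01, c0, c1] at u01
  rw [o02, c0, c2] at u02
  rw [o12, c1, c2] at u12
  rw [o11, c1] at u11
  rw [c0, c1, c2] at hdet
  have he := eta g.1
  rw [c0, c1, c2] at he
  generalize g.1 0 1 = a at *
  generalize g.1 0 2 = b at *
  generalize g.1 1 1 = p at *
  generalize g.1 1 2 = q at *
  generalize g.1 2 1 = r at *
  generalize g.1 2 2 = s at *
  have hd : p * s - q * r = 1 := by linear_combination hdet
  have hd2 : p ^ 2 * s ^ 2 + q ^ 2 * r ^ 2 = 1 := by
    linear_combination (p * s - q * r + 1) * hd + (p * q * r * s) * t2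
  have ha : a = 0 := by
    linear_combination s ^ 2 * u01 + q ^ 2 * u02 - a * hd2 - (b * q ^ 2 * s ^ 2) * t2
  have hb : b = 0 := by
    linear_combination r ^ 2 * u01 + p ^ 2 * u02 - b * hd2 - (a * p ^ 2 * r ^ 2) * t2
  subst ha hb
  by_cases hq : q = 0
  · subst hq
    have hp : p ≠ 0 := by
      rintro rfl
      apply one_ne_zero (α := F)
      linear_combination -hd
    have hp3 : p ^ 3 = 1 := pow_three hF hp
    have hr : r = 0 := by
      have h3 : p * r ^ 2 = 0 := by linear_combination u12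
      rcases mul_eq_zero.1 h3 with h | h
      · exact absurd h hp
      · exact pow_eq_zero_iff (two_ne_zero) |>.1 h
    subst hr
    have hs : s = p ^ 2 := by linear_combination p ^ 2 * hd - s * hp3
    subst hs
    obtain ⟨t, ht, e⟩ := exists_dg hF hw h1 hp
    have : g = t := Subtype.ext (he.trans e.symm)
    rwa [this]
  · have hq3 : q ^ 3 = 1 := pow_three hF hq
    have hp : p = 0 := by
      have h3 : p ^ 3 = 0 := by linear_combination u11 - hq3
      exact pow_eq_zero_iff (three_ne_zero) |>.1 h3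
    subst hp
    have hs : s = 0 := by
      have h3 : q * s ^ 2 = 0 := by linear_combination u12
      rcases mul_eq_zero.1 h3 with h | h
      · exact absurd h hq
      · exact pow_eq_zero_iff (two_ne_zero) |>.1 h
    subst hs
    have hr : r = q ^ 2 := by linear_combination (-q ^ 2) * hd - r * hq3 - q ^ 2 * t2
    subst hr
    obtain ⟨t, ht, e⟩ := exists_dg hF hw h1 hq
    have h3 : g = t * (gi w hw hF * gi w hw hF) := by
      apply Subtype.ext
      rw [co_mul, e, ii, mulM, he]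
      refine eqM ?_ ?_ ?_ ?_ ?_ ?_ ?_ ?_ ?_ <;> ring
    rw [h3]
    exact T.mul_mem ht (T.mul_mem hi hi)

include hF h0 h1 h2 hi hj in
/-- the first column -/
theorem column {x y z : F} (h : x ^ 3 + y ^ 3 + z ^ 3 = 1) : ∃ t ∈ T, t.1 0 0 = x ∧ t.1 1 0 = y ∧ t.1 2 0 = z := by
  have t2 : (2 : F) = 0 := two_zero hF
  by_cases hx : x = 0
  · subst hx
    by_cases hy : y = 0
    · subst hy
      have hz : z ≠ 0 := by
        rintro rfl
        apply one_ne_zero (α := F)
        linear_combination -h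
      obtain ⟨t, ht, e⟩ := exists_sc hF hw h0 hz
      refine ⟨t * (g2 * g2), T.mul_mem ht (T.mul_mem h2 h2), ?_⟩
      have e2 : (t * (g2 * g2) : G3 F).1 = !![z, 0, 0; 0, z, 0; 0, 0, z] * (!![0, 0, 1; 1, 0, 0; 0, 1, 0] *
          !![0, 0, 1; 1, 0, 0; 0, 1, 0]) := by rw [co_mul, co_mul, e]; rfl
      rw [mulM, mulM] at e2
      rw [e2]
      refine ⟨?_, ?_, ?_⟩
      · show z * (0 * 0 + 0 * 1 + 1 * 0) + 0 * (1 * 0 + 0 * 1 + 0 * 0) + 0 * (0 * 0 + 1 * 1 + 0 * 0) = 0
        ring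
      · show 0 * (0 * 0 + 0 * 1 + 1 * 0) + z * (1 * 0 + 0 * 1 + 0 * 0) + 0 * (0 * 0 + 1 * 1 + 0 * 0) = 0
        ring
      · show 0 * (0 * 0 + 0 * 1 + 1 * 0) + 0 * (1 * 0 + 0 * 1 + 0 * 0) + z * (0 * 0 + 1 * 1 + 0 * 0) = z
        ring
    · have hy3 : y ^ 3 = 1 := pow_three hF hy
      have hz : z = 0 := by
        have h3 : z ^ 3 = 0 := by linear_combination h - hy3
        exact pow_eq_zero_iff (three_ne_zero) |>.1 h3
      subst hz
      obtain ⟨t, ht, e⟩ := exists_sc hF hw h0 hy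
      refine ⟨t * g2, T.mul_mem ht h2, ?_⟩
      have e2 : (t * g2 : G3 F).1 = !![y, 0, 0; 0, y, 0; 0, 0, y] * !![0, 0, 1; 1, 0, 0; 0, 1, 0] := by
        rw [co_mul, e]; rfl
      rw [mulM] at e2
      rw [e2]
      refine ⟨?_, ?_, ?_⟩
      · show y * 0 + 0 * 1 + 0 * 0 = 0
        ring
      · show 0 * 0 + y * 1 + 0 * 0 = y
        ring
      · show 0 * 0 + 0 * 1 + y * 0 = 0
        ring
  · have hx3 : x ^ 3 = 1 := pow_three hF hx
    by_cases hy : y = 0
    · subst hy
      have hz : z = 0 := by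
        have h3 : z ^ 3 = 0 := by linear_combination h - hx3
        exact pow_eq_zero_iff (three_ne_zero) |>.1 h3
      subst hz
      obtain ⟨t, ht, e⟩ := exists_sc hF hw h0 hx
      refine ⟨t, ht, ?_⟩
      rw [e]
      exact ⟨rfl, rfl, rfl⟩
    · have hy3 : y ^ 3 = 1 := pow_three hF hy
      have hz : z ≠ 0 := by
        rintro rfl
        apply one_ne_zero (α := F)
        linear_combination h - hx3 - hy3
      have hz3 : z ^ 3 = 1 := pow_three hF hz
      obtain ⟨t, ht, e⟩ := exists_sc hF hw h0 hx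
      obtain ⟨d, hd, e'⟩ := exists_dg hF hw h1 (x := z * y ^ 2) (mul_ne_zero hz (pow_ne_zero 2 hy))
      have hk : y ^ 2 * x ^ 2 * z ^ 2 ≠ 0 := mul_ne_zero (mul_ne_zero (pow_ne_zero 2 hy) (pow_ne_zero 2 hx))
        (pow_ne_zero 2 hz)
      -- an element with first column `(1, k, k)`
      obtain ⟨q, hq, q0, q1, q2⟩ : ∃ q ∈ T, q.1 0 0 = 1 ∧ q.1 1 0 = y ^ 2 * x ^ 2 * z ^ 2 ∧
          q.1 2 0 = y ^ 2 * x ^ 2 * z ^ 2 := by
        rcases cases4 hF hw hk with h | h | h <;> rw [h]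
        · exact ⟨_, hi, rfl, rfl, rfl⟩
        · refine ⟨gi w hw hF * gj w hw hF, T.mul_mem hi hj, ?_⟩
          have e2 : (gi w hw hF * gj w hw hF : G3 F).1 = !![1, 1, 1; 1, w ^ 2, w; 1, w, w ^ 2] *
              !![1, w, w; w ^ 2, w ^ 2, w; w ^ 2, w, w ^ 2] := rfl
          rw [mulM] at e2
          rw [e2]
          refine ⟨?_, ?_, ?_⟩
          · show 1 * 1 + 1 * w ^ 2 + 1 * w ^ 2 = 1
            linear_combination w ^ 2 * t2
          · show 1 * 1 + w ^ 2 * w ^ 2 + w * w ^ 2 = w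
            linear_combination (w ^ 2 - 1) * hw + t2
          · show 1 * 1 + w * w ^ 2 + w ^ 2 * w ^ 2 = w
            linear_combination (w ^ 2 - 1) * hw + t2
        · exact ⟨_, hj, rfl, rfl, rfl⟩
      refine ⟨t * (d * q), T.mul_mem ht (T.mul_mem hd hq), ?_⟩
      have e2 : (t * (d * q) : G3 F).1 = !![x, 0, 0; 0, x, 0; 0, 0, x] * (!![1, 0, 0; 0, z * y ^ 2, 0; 0, 0, (z * y ^ 2) ^ 2]
          * !![q.1 0 0, q.1 0 1, q.1 0 2; q.1 1 0, q.1 1 1, q.1 1 2; q.1 2 0, q.1 2 1, q.1 2 2]) := by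
        rw [co_mul, co_mul, e, e', ← eta]
      rw [mulM, mulM] at e2
      rw [e2]
      refine ⟨?_, ?_, ?_⟩
      · show x * (1 * q.1 0 0 + 0 * q.1 1 0 + 0 * q.1 2 0) + 0 * (0 * q.1 0 0 + z * y ^ 2 * q.1 1 0 + 0 * q.1 2 0) +
          0 * (0 * q.1 0 0 + 0 * q.1 1 0 + (z * y ^ 2) ^ 2 * q.1 2 0) = x
        rw [q0]
        ring
      · show 0 * (1 * q.1 0 0 + 0 * q.1 1 0 + 0 * q.1 2 0) + x * (0 * q.1 0 0 + z * y ^ 2 * q.1 1 0 + 0 * q.1 2 0) +
          0 * (0 * q.1 0 0 + 0 * q.1 1 0 + (z * y ^ 2) ^ 2 * q.1 2 0) = y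
        rw [q1]
        linear_combination (y ^ 4 * z ^ 3) * hx3 + y ^ 4 * hz3 + y * hy3
      · show 0 * (1 * q.1 0 0 + 0 * q.1 1 0 + 0 * q.1 2 0) + 0 * (0 * q.1 0 0 + z * y ^ 2 * q.1 1 0 + 0 * q.1 2 0) +
          x * (0 * q.1 0 0 + 0 * q.1 1 0 + (z * y ^ 2) ^ 2 * q.1 2 0) = z
        rw [q2]
        linear_combination (y ^ 6 * z ^ 4) * hx3 + (y ^ 6 * z) * hz3 + (z * y ^ 3 + z) * hy3

include hF h0 h1 h2 hi hj in
/-- **the unitary group is generated by `s0`, `g1`, `g2`, `gi`, `gj`** -/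
theorem mem_of_unitary (hT : ∀ t ∈ T, hact t (1 : M3 F) = 1) {g : G3 F} (hg : hact g (1 : M3 F) = 1) : g ∈ T := by
  obtain ⟨t, ht, e0, e1, e2⟩ := column hF hw h0 h1 h2 hi hj (unit_eq hg).2
  have hcol : ∀ k, (t⁻¹ * g : G3 F).1 k 0 = (1 : M3 F) k 0 := by
    intro k
    have h3 : (t⁻¹ * g : G3 F).1 k 0 = (t⁻¹ * t : G3 F).1 k 0 := by
      rw [co_mul, co_mul, Matrix.mul_apply, Matrix.mul_apply, Fin.sum_univ_three, Fin.sum_univ_three, e0, e1, e2]
    rw [h3, inv_mul_cancel]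
    rfl
  have h3 : t⁻¹ * g ∈ T := stab hF hw h1 hi
    ((RR hF).mul_mem ((RR hF).inv_mem (hT t ht)) hg) (hcol 0) (hcol 1) (hcol 2)
  have h4 : g = t * (t⁻¹ * g) := by group
  rw [h4]
  exact T.mul_mem ht h3

end

/-- (S8) the vectors fixed by `E`, `gi`, `gj` are fixed by the unitary group -/
theorem hgen (hF : Fintype.card F = 4) {w : F} (hw : w ^ 2 + w + 1 = 0) {V : Type} [AddCommGroup V] [Module (ZMod 2) V]
    {ρ : Representation (ZMod 2) (G3 F) V} {E : Subgroup (G3 F)}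
    (hE : ∀ g : G3 F, g ∈ E ↔ (hact g (1 : M3 F) = 1 ∧ g ^ 3 = 1)) (v : V) (hv : v ∈ VE ρ E)
    (hi : ρ (gi w hw hF) v = v) (hj : ρ (gj w hw hF) v = v) (g : G3 F) (hg : hact g (1 : M3 F) = 1) : ρ g v = v := by
  rw [mem_VE] at hv
  let T : Subgroup (G3 F) :=
    { carrier := {g | hact g (1 : M3 F) = 1 ∧ ρ g v = v}
      one_mem' := ⟨(RR hF).one_mem, by rw [map_one]; rfl⟩
      mul_mem' := by
        rintro g h ⟨hg1, hg⟩ ⟨hh1, hh⟩
        refine ⟨(RR hF).mul_mem hg1 hh1, ?_⟩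
        rw [map_mul, Module.End.mul_apply, hh, hg]
      inv_mem' := by
        rintro g ⟨hg1, hg⟩
        refine ⟨(RR hF).inv_mem hg1, ?_⟩
        have h5 : ρ g⁻¹ (ρ g v) = v := by
          rw [← Module.End.mul_apply, ← map_mul, inv_mul_cancel, map_one]
          rfl
        rwa [hg] at h5 }
  have h0 : s0 w hw ∈ T := ⟨mem_R_s0 hw hF, hv _ ((hE _).2 ⟨mem_R_s0 hw hF, s0_cube hw⟩)⟩
  have h1 : g1 w hw ∈ T := ⟨mem_R_g1 hw hF, hv _ ((hE _).2 ⟨mem_R_g1 hw hF, g1_cube hw⟩)⟩
  have h2 : (g2 : G3 F) ∈ T := ⟨mem_R_g2 hF, hv _ ((hE _).2 ⟨mem_R_g2 hF, g2_cube⟩)⟩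
  exact (mem_of_unitary hF hw (T := T) h0 h1 h2 ⟨mem_gi hw hF, hi⟩ ⟨mem_gj hw hF, hj⟩ (fun t ht => ht.1) hg).2

end Cfsg.Agent.H955.L34.Gen
end

-- part: H955/L34/Gen550
section
/-!
# S5917: the unitary group is generated by helper550's matrices `gD`, `gP`, `gW`, `gJ` (helper955)
-/

set_option autoImplicit false
set_option linter.unusedSectionVars false

namespace Cfsg.Agent.H955.L34.Gen

open Matrix Cfsg.Agent.H691.L34 Cfsg.Agent.H904.L34 Cfsg.Agent.H904.L34.Unit Module Cfsg.Agent.H550.L34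

variable {F : Type} [Field F] [Fintype F] {ω : F}

theorem om_w (h : Om ω) : (ω + 1) ^ 2 + (ω + 1) + 1 = 0 := by
  linear_combination h.eq + (2 * ω + 2) * h.two

theorem om_sq (h : Om ω) : (ω + 1) ^ 2 = ω := by
  linear_combination h.eq + (ω + 1) * h.two

/-- **the unitary group is generated by `gD`, `gP`, `gW`, `gJ`** -/
theorem mem_of_unitary550 (hF : Fintype.card F = 4) (h : Om ω) {T : Subgroup (G3 F)} (hD : gD h ∈ T) (hP : gP h ∈ T)
    (hW : gW h ∈ T) (hJ : gJ h ∈ T) (hT : ∀ t ∈ T, hact t (1 : M3 F) = 1) {g : G3 F} (hg : hact g (1 : M3 F) = 1) :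
    g ∈ T := by
  have hw := om_w h
  have hs := om_sq h
  have e1 : g1 (ω + 1) hw = gD h * gD h := by
    apply Subtype.ext
    rw [co_mul]
    show (!![1, 0, 0; 0, ω + 1, 0; 0, 0, (ω + 1) ^ 2] : M3 F) =
      !![1, 0, 0; 0, ω, 0; 0, 0, ω + 1] * !![1, 0, 0; 0, ω, 0; 0, 0, ω + 1]
    rw [mulM]
    refine eqM ?_ ?_ ?_ ?_ ?_ ?_ ?_ ?_ ?_ <;> first | ring1 | linear_combination -h.eq | linear_combination h.eq
  have e2 : (g2 : G3 F) = gP h * gP h := by
    apply Subtype.ext
    rw [co_mul]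
    show (!![0, 0, 1; 1, 0, 0; 0, 1, 0] : M3 F) =
      !![0, 1, 0; 0, 0, 1; 1, 0, 0] * !![0, 1, 0; 0, 0, 1; 1, 0, 0]
    rw [mulM]
    refine eqM ?_ ?_ ?_ ?_ ?_ ?_ ?_ ?_ ?_ <;> ring
  have e3 : gi (ω + 1) hw hF = gW h := by
    apply Subtype.ext
    show (!![1, 1, 1; 1, (ω + 1) ^ 2, (ω + 1); 1, (ω + 1), (ω + 1) ^ 2] : M3 F) = !![1, 1, 1; 1, ω, ω + 1; 1, ω + 1, ω]
    rw [hs]
  have e4 : gj (ω + 1) hw hF = gJ h := by
    apply Subtype.ext
    show (!![1, (ω + 1), (ω + 1); (ω + 1) ^ 2, (ω + 1) ^ 2, (ω + 1); (ω + 1) ^ 2, (ω + 1), (ω + 1) ^ 2] : M3 F) =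
      !![1, ω + 1, ω + 1; ω, ω, ω + 1; ω, ω + 1, ω]
    rw [hs]
  have h1 : g1 (ω + 1) hw ∈ T := by rw [e1]; exact T.mul_mem hD hD
  have h2 : (g2 : G3 F) ∈ T := by rw [e2]; exact T.mul_mem hP hP
  have h0 : s0 (ω + 1) hw ∈ T := by
    have h3 := g12 hw
    have h4 : s0 (ω + 1) hw = g1 (ω + 1) hw * g2 * (g2 * g1 (ω + 1) hw)⁻¹ := by rw [h3, mul_inv_cancel_right]
    rw [h4]
    exact T.mul_mem (T.mul_mem h1 h2) (T.inv_mem (T.mul_mem h2 h1))
  exact mem_of_unitary hF hw h0 h1 h2 (by rw [e3]; exact hW) (by rw [e4]; exact hJ) hT hg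

/-- a vector fixed by `gD`, `gP`, `gW`, `gJ` is fixed by the unitary group -/
theorem fix_of550 (hF : Fintype.card F = 4) (h : Om ω) {V : Type} [AddCommGroup V] [Module (ZMod 2) V]
    {ρ : Representation (ZMod 2) (G3 F) V} {v : V} (hD : ρ (gD h) v = v) (hP : ρ (gP h) v = v) (hW : ρ (gW h) v = v)
    (hJ : ρ (gJ h) v = v) {g : G3 F} (hg : hact g (1 : M3 F) = 1) : ρ g v = v := by
  let T : Subgroup (G3 F) :=
    { carrier := {g | hact g (1 : M3 F) = 1 ∧ ρ g v = v}
      one_mem' := ⟨(RR hF).one_mem, by rw [map_one]; rfl⟩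
      mul_mem' := by
        rintro g h ⟨hg1, hg⟩ ⟨hh1, hh⟩
        refine ⟨(RR hF).mul_mem hg1 hh1, ?_⟩
        rw [map_mul, Module.End.mul_apply, hh, hg]
      inv_mem' := by
        rintro g ⟨hg1, hg⟩
        refine ⟨(RR hF).inv_mem hg1, ?_⟩
        have h5 : ρ g⁻¹ (ρ g v) = v := by
          rw [← Module.End.mul_apply, ← map_mul, inv_mul_cancel, map_one]
          rfl
        rwa [hg] at h5 }
  have uD : hact (gD h) (1 : M3 F) = 1 := by
    rw [hact_def, Matrix.mul_one]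
    exact DD h
  have uP : hact (gP h) (1 : M3 F) = 1 := by
    rw [hact_def, Matrix.mul_one]
    exact PP h
  have uW : hact (gW h) (1 : M3 F) = 1 := by
    rw [hact_def, Matrix.mul_one]
    exact WW h
  have uJ : hact (gJ h) (1 : M3 F) = 1 := by
    rw [hact_def, Matrix.mul_one]
    exact JJ h
  exact (mem_of_unitary550 hF h (T := T) ⟨uD, hD⟩ ⟨uP, hP⟩ ⟨uW, hW⟩ ⟨uJ, hJ⟩ (fun t ht => ht.1) hg).2

end Cfsg.Agent.H955.L34.Gen
end

-- part: H904/L34/Uq
section
/-!
# S5917, part I (helper904): (U2) and (S5) for helper550's matrices `gD`, `gP`, `gW`, `gJ`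
-/

set_option autoImplicit false
set_option linter.unusedSectionVars false
set_option linter.unusedVariables false

namespace Cfsg.Agent.H904.L34.Uq

open Matrix Cfsg.Agent.H691.L34 Cfsg.Agent.H904.L34 Cfsg.Agent.H904.L34.Unit Module Cfsg.Agent.H550.L34
open Cfsg.Agent.H955.L34.Gen (om_w)

variable {F : Type} [Field F] [Fintype F] {ω : F}

theorem eq_D (h : Om ω) : g1 (ω + 1) (om_w h) = gD h * gD h := by
  apply Subtype.ext
  rw [co_mul]
  show (!![1, 0, 0; 0, ω + 1, 0; 0, 0, (ω + 1) ^ 2] : M3 F) =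
    !![1, 0, 0; 0, ω, 0; 0, 0, ω + 1] * !![1, 0, 0; 0, ω, 0; 0, 0, ω + 1]
  rw [mulM]
  refine eqM ?_ ?_ ?_ ?_ ?_ ?_ ?_ ?_ ?_ <;> first | ring1 | linear_combination -h.eq | linear_combination h.eq

theorem eq_P (h : Om ω) : (g2 : G3 F) = gP h * gP h := by
  apply Subtype.ext
  rw [co_mul]
  show (!![0, 0, 1; 1, 0, 0; 0, 1, 0] : M3 F) =
    !![0, 1, 0; 0, 0, 1; 1, 0, 0] * !![0, 1, 0; 0, 0, 1; 1, 0, 0]
  rw [mulM]
  refine eqM ?_ ?_ ?_ ?_ ?_ ?_ ?_ ?_ ?_ <;> ring

theorem eq_W (h : Om ω) (hF : Fintype.card F = 4) : gi (ω + 1) (om_w h) hF = gW h := by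
  apply Subtype.ext
  show (!![1, 1, 1; 1, (ω + 1) ^ 2, (ω + 1); 1, (ω + 1), (ω + 1) ^ 2] : M3 F) = !![1, 1, 1; 1, ω, ω + 1; 1, ω + 1, ω]
  rw [Cfsg.Agent.H955.L34.Gen.om_sq h]

theorem eq_J (h : Om ω) (hF : Fintype.card F = 4) : gj (ω + 1) (om_w h) hF = gJ h := by
  apply Subtype.ext
  show (!![1, (ω + 1), (ω + 1); (ω + 1) ^ 2, (ω + 1) ^ 2, (ω + 1); (ω + 1) ^ 2, (ω + 1), (ω + 1) ^ 2] : M3 F) =
    !![1, ω + 1, ω + 1; ω, ω, ω + 1; ω, ω + 1, ω]
  rw [Cfsg.Agent.H955.L34.Gen.om_sq h]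

variable {V : Type} [AddCommGroup V] [Module (ZMod 2) V] {ρ : Representation (ZMod 2) (G3 F) V}

theorem fixD (h : Om ω) (v : V) : ρ (g1 (ω + 1) (om_w h)) v = v ↔ ρ (gD h) v = v := by
  rw [eq_D h]
  constructor
  · intro e
    have h1 : gD h = gD h * gD h * (gD h * gD h) := by
      have h3 := D_3 h
      calc gD h = gD h ^ 3 * gD h := by rw [h3, one_mul]
        _ = gD h * gD h * (gD h * gD h) := by simp only [pow_succ, pow_zero, one_mul, mul_assoc]
    conv_lhs => rw [h1, ← rmul, e, e]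
  · intro e
    rw [← rmul, e, e]

theorem fixP (h : Om ω) (v : V) : ρ (g2 : G3 F) v = v ↔ ρ (gP h) v = v := by
  rw [eq_P h]
  constructor
  · intro e
    have h1 : gP h = gP h * gP h * (gP h * gP h) := by
      have h3 := P_3 h
      calc gP h = gP h ^ 3 * gP h := by rw [h3, one_mul]
        _ = gP h * gP h * (gP h * gP h) := by simp only [pow_succ, pow_zero, one_mul, mul_assoc]
    conv_lhs => rw [h1, ← rmul, e, e]
  · intro e
    rw [← rmul, e, e]

/-- the fixed space of `gD`, `gP` -/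
def MDP (ρ : Representation (ZMod 2) (G3 F) V) (h : Om ω) : Submodule (ZMod 2) V :=
  LinearMap.ker (ρ (gD h) - LinearMap.id) ⊓ LinearMap.ker (ρ (gP h) - LinearMap.id)

theorem mem_MDP {h : Om ω} {v : V} : v ∈ MDP ρ h ↔ ρ (gD h) v = v ∧ ρ (gP h) v = v := by
  rw [MDP, Submodule.mem_inf, LinearMap.mem_ker, LinearMap.mem_ker, LinearMap.sub_apply, LinearMap.sub_apply,
    LinearMap.id_apply, sub_eq_zero, sub_eq_zero]

theorem VE_MDP (h : Om ω) (hc : CT ρ) : VE ρ (EE (ω + 1) (om_w h)) = MDP ρ h := by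
  ext v
  rw [mem_VE_iff (om_w h) hc, mem_MDP, fixD h, fixP h]

theorem h20_of (h : Om ω) (hF : Fintype.card F = 4)
    (h20 : Module.finrank (ZMod 2) (LinearMap.ker (ρ (gD h) - LinearMap.id) ⊓ LinearMap.ker (ρ (gP h) - LinearMap.id) ⊓
      LinearMap.ker (ρ (gZ h) - LinearMap.id) : Submodule (ZMod 2) V) = 20) :
    Module.finrank (ZMod 2) (LinearMap.ker (ρ (g1 (ω + 1) (om_w h)) - LinearMap.id) ⊓
      LinearMap.ker (ρ g2 - LinearMap.id) ⊓ LinearMap.ker
        (ρ (gi (ω + 1) (om_w h) hF * gi (ω + 1) (om_w h) hF) - LinearMap.id) : Submodule (ZMod 2) V) = 20 := by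
  suffices e : (LinearMap.ker (ρ (g1 (ω + 1) (om_w h)) - LinearMap.id) ⊓
      LinearMap.ker (ρ g2 - LinearMap.id) ⊓ LinearMap.ker
        (ρ (gi (ω + 1) (om_w h) hF * gi (ω + 1) (om_w h) hF) - LinearMap.id) : Submodule (ZMod 2) V) =
      LinearMap.ker (ρ (gD h) - LinearMap.id) ⊓ LinearMap.ker (ρ (gP h) - LinearMap.id) ⊓
      LinearMap.ker (ρ (gZ h) - LinearMap.id) by
    rw [e]
    exact h20
  ext v
  simp only [Submodule.mem_inf, LinearMap.mem_ker, LinearMap.sub_apply, LinearMap.id_apply, sub_eq_zero]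
  rw [fixD h, fixP h, eq_W h hF, W_W]

variable [Module.Finite (ZMod 2) V]

/-- **(S5)** for `gD gP gW gJ` -/
theorem facts (h : Om ω) (hF : Fintype.card F = 4) (hc : CT ρ) {n5 n7 : ℕ}
    (hn5 : n5 = 68 ∨ n5 = 48) (hn7 : n7 = 80 ∨ n7 = 38) (hd : Dims ρ (⊤ : Submodule (ZMod 2) V) 248 86 n5 n7)
    (h20 : Module.finrank (ZMod 2) (LinearMap.ker (ρ (gD h) - LinearMap.id) ⊓ LinearMap.ker (ρ (gP h) - LinearMap.id) ⊓
      LinearMap.ker (ρ (gZ h) - LinearMap.id) : Submodule (ZMod 2) V) = 20) :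
    finrank (ZMod 2) (MDP ρ h) = 32 ∧
    finrank (ZMod 2) ((MDP ρ h).map (ρ (gZ h) - LinearMap.id)) = 12 ∧
    finrank (ZMod 2) ((MDP ρ h).map (T8 ρ (gW h) (gJ h))) = 3 ∧
    ∀ X : Submodule (ZMod 2) V, _root_.Cfsg.Agent.H691.L34.Inv ρ X → finrank (ZMod 2) X < 64 → (MDP ρ h).map (T8 ρ (gW h) (gJ h)) ⊓ X = ⊥ := by
  have h1 := tr_facts (om_w h) hF hc hn5 hn7 hd (h20_of h hF h20)
  rw [VE_MDP h hc, eq_W h hF, eq_J h hF, W_W] at h1
  exact h1

/-- traces of `Q₈` on fixed vectors of `E` are fixed by the unitary group -/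
theorem T8_VR (h : Om ω) (hF : Fintype.card F = 4) (hc : CT ρ) : (MDP ρ h).map (T8 ρ (gW h) (gJ h)) ≤ VE ρ (RR hF) := by
  rintro _ ⟨y, hy, rfl⟩
  rw [mem_VE]
  intro g hg
  have hy' : y ∈ VE ρ (EE (ω + 1) (om_w h)) := by rw [VE_MDP h hc]; exact hy
  obtain ⟨m1, m2, m3⟩ := T8_mem (om_w h) hF hc hy'
  rw [eq_W h hF, eq_J h hF] at m1 m2 m3
  rw [VE_MDP h hc, mem_MDP] at m1
  exact Cfsg.Agent.H955.L34.Gen.fix_of550 hF h m1.1 m1.2 m2 m3 hg

end Cfsg.Agent.H904.L34.Uq
end

-- part: H904/L34/Low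
section
/-!
# S5917, part I (helper904): lower bounds for the ranks, without the dimension 20
-/

set_option autoImplicit false
set_option linter.unusedSectionVars false
set_option linter.unusedVariables false

namespace Cfsg.Agent.H904.L34.Uq

open Matrix Cfsg.Agent.H691.L34 Cfsg.Agent.H904.L34 Cfsg.Agent.H904.L34.Unit Module Cfsg.Agent.H550.L34
open Cfsg.Agent.H955.L34.Gen (om_w)

variable {F : Type} [Field F] [Fintype F] {ω : F} {V : Type} [AddCommGroup V] [Module (ZMod 2) V]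
  [Module.Finite (ZMod 2) V] {ρ : Representation (ZMod 2) (G3 F) V}

/-- **`3 ≤ rank Tr`, `12 ≤ rank (1 + z)`, `dim V^E = 32`** from the dimensions only -/
theorem low (h : Om ω) (hF : Fintype.card F = 4) (hc : CT ρ) {n5 n7 : ℕ}
    (hn5 : n5 = 68 ∨ n5 = 48) (hn7 : n7 = 80 ∨ n7 = 38) (hd : Dims ρ (⊤ : Submodule (ZMod 2) V) 248 86 n5 n7) :
    finrank (ZMod 2) (MDP ρ h) = 32 ∧
    12 ≤ finrank (ZMod 2) ((MDP ρ h).map (ρ (gZ h) - LinearMap.id)) ∧
    3 ≤ finrank (ZMod 2) ((MDP ρ h).map (T8 ρ (gW h) (gJ h))) := by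
  have : Fact (Nat.Prime 3) := ⟨Nat.prime_three⟩
  have : Fact (Nat.Prime 5) := ⟨Nat.prime_five⟩
  have : Fact (Nat.Prime 7) := ⟨by norm_num⟩
  have hw := om_w h
  have e1 : orderOf (g1 (ω + 1) hw) = 3 := by
    apply orderOf_eq_prime (g1_cube hw)
    intro h1
    have h2 := g12_ne hw hF
    rw [h1, one_mul, mul_one] at h2
    exact h2 rfl
  have c1 : g1 (ω + 1) hw ∉ Subgroup.center (G3 F) := fun h => g12_ne hw hF (Subgroup.mem_center_iff.1 h g2).symm
  obtain ⟨x5, hx5⟩ := exists_prime_orderOf_dvd_card' (G := G3 F) 5 (by rw [card_G3 hF]; norm_num)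
  obtain ⟨x7, hx7⟩ := exists_prime_orderOf_dvd_card' (G := G3 F) 7 (by rw [card_G3 hF]; norm_num)
  obtain ⟨a, b, c, d, hq, hr, hr2⟩ := main3 hw hF _ V ρ le_rfl hc
  have q0 := hd.1.symm.trans hq.1
  have q3 := (hd.2.1 _ e1 c1).symm.trans (hq.2.1 _ e1 c1)
  have q5 := (hd.2.2.1 _ hx5).symm.trans (hq.2.2.1 _ hx5)
  have q7 := (hd.2.2.2 _ hx7).symm.trans (hq.2.2.2 _ hx7)
  have h32 := dims_EE hw hF hc (W := ⊤) (fun _ _ _ => Submodule.mem_top) hd
  rw [inf_top_eq] at h32
  rw [VE_MDP h hc] at h32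
  rw [VE_MDP h hc, eq_W h hF, W_W] at hr
  rw [VE_MDP h hc, eq_W h hF, eq_J h hF] at hr2
  refine ⟨by omega, ?_, ?_⟩
  · refine le_trans ?_ hr
    (clear * - hn5 hn7 q3 q5 q7; omega)
  · refine le_trans ?_ hr2
    (clear * - hn5 hn7 q3 q5 q7; omega)

end Cfsg.Agent.H904.L34.Uq
end

-- part: H544/L34/Rat
section
/-!
# S5917: rational subspaces (helper544)

`I` finite, `K` a field over `F₂`; `upF v` : the inclusion `(I → F₂) → (I → K)`.
* `pr π x` : a functional `π : K → F₂` applied to the coordinates;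
* `UK U` : the `K`-span of a subspace `U` of `I → F₂`; `finrank_UK`, `mem_UK_of`, `up_mem_UK`.
-/

set_option autoImplicit false
set_option linter.unusedSectionVars false

namespace Cfsg.Agent.H544.L34.Rat

variable {I K : Type*} [Fintype I] [Field K] [Algebra (ZMod 2) K]

/-- the inclusion -/
def upF (v : I → ZMod 2) : I → K := fun i => algebraMap (ZMod 2) K (v i)

/-- the coordinates of a functional -/
def pr (π : K →ₗ[ZMod 2] ZMod 2) (x : I → K) : I → ZMod 2 := fun i => π (x i)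

theorem pr_smul_up (π : K →ₗ[ZMod 2] ZMod 2) (c : K) (v : I → ZMod 2) : pr π (c • upF v) = π c • v := by
  funext i
  show π (c * algebraMap (ZMod 2) K (v i)) = π c * v i
  rw [mul_comm, ← Algebra.smul_def, map_smul, smul_eq_mul, mul_comm]

theorem pr_sum {κ : Type*} (S : Finset κ) (π : K →ₗ[ZMod 2] ZMod 2) (x : κ → I → K) :
    pr π (∑ k ∈ S, x k) = ∑ k ∈ S, pr π (x k) := by
  funext i
  rw [Finset.sum_apply]
  show π ((∑ k ∈ S, x k) i) = _
  rw [Finset.sum_apply, map_sum]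
  rfl

/-- functionals separate points -/
theorem sep {c : K} (h : ∀ π : K →ₗ[ZMod 2] ZMod 2, π c = 0) : c = 0 :=
  (Module.forall_dual_apply_eq_zero_iff (ZMod 2) c).1 h

/-- the span -/
def UK (U : Submodule (ZMod 2) (I → ZMod 2)) : Submodule K (I → K) := Submodule.span K (upF '' (U : Set (I → ZMod 2)))

theorem linInd {n : Type*} [Fintype n] {b : n → I → ZMod 2} (hb : LinearIndependent (ZMod 2) b) :
    LinearIndependent K (fun a => (upF (b a) : I → K)) := by
  rw [Fintype.linearIndependent_iff] at hb ⊢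
  intro c hc a
  refine sep fun π => ?_
  have h1 : ∑ a, (π (c a)) • b a = 0 := by
    have h2 := congrArg (pr π) hc
    rw [pr_sum] at h2
    simp only [pr_smul_up] at h2
    rw [h2]
    funext i
    exact map_zero π
  exact hb _ h1 a

theorem finrank_UK (U : Submodule (ZMod 2) (I → ZMod 2)) : Module.finrank K (UK (K := K) U) = Module.finrank (ZMod 2) U := by
  classical
  let b := Module.finBasis (ZMod 2) U
  have h1 : LinearIndependent (ZMod 2) (fun a => (b a : I → ZMod 2)) :=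
    b.linearIndependent.map' U.subtype (Submodule.ker_subtype U)
  have h2 := linInd (K := K) h1
  have h3 : UK (K := K) U = Submodule.span K (Set.range fun a => (upF (b a : I → ZMod 2) : I → K)) := by
    apply le_antisymm
    · unfold UK
      rw [Submodule.span_le]
      rintro _ ⟨u, hu, rfl⟩
      have h4 := congrArg (fun w : U => (w : I → ZMod 2)) (b.sum_repr ⟨u, hu⟩)
      simp only at h4
      have h5 : (upF u : I → K) = ∑ a, (algebraMap (ZMod 2) K (b.repr ⟨u, hu⟩ a)) • upF (b a : I → ZMod 2) := by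
        funext i
        have h6 := congrFun h4 i
        rw [AddSubmonoidClass.coe_finset_sum, Finset.sum_apply] at h6
        rw [Finset.sum_apply]
        show algebraMap (ZMod 2) K (u i) = _
        rw [← h6, map_sum]
        refine Finset.sum_congr rfl fun a _ => ?_
        show algebraMap (ZMod 2) K (b.repr ⟨u, hu⟩ a * (b a : I → ZMod 2) i) = _
        rw [map_mul]
        rfl
      rw [h5]
      exact Submodule.sum_mem _ fun a _ => Submodule.smul_mem _ _ (Submodule.subset_span ⟨a, rfl⟩)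
    · rw [Submodule.span_le]
      rintro _ ⟨a, rfl⟩
      exact Submodule.subset_span ⟨_, (b a).2, rfl⟩
  rw [h3, finrank_span_eq_card h2, Fintype.card_fin]

end Cfsg.Agent.H544.L34.Rat
end

-- part: H968/L34/TrThree
section
/-!
# S5917, type D: the rank of the trace is at least 3 (helper968)
-/

set_option autoImplicit false
set_option linter.unusedSectionVars false
set_option maxRecDepth 100000

namespace Cfsg.Agent.H968.L34

open Matrix Cfsg Cfsg.Lie Cfsg.Lie.ChevalleyDatum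
open Cfsg.Agent.H691.L34
open Cfsg.Agent.H939.L64
open Cfsg.Agent.H251.L34 (V3)
open Cfsg.Agent.H437.L34 (fg rho up_add)
open Cfsg.Agent.H888.L34.Model (P3)
open Cfsg.Agent.H939.L34 (Fsit UQ DNIL TRZ)
open Cfsg.Agent.H544.L34 (DFr M0 trl trl_apply mem_M0)
open Cfsg.Agent.H544.L34.Rat (UK finrank_UK)
open Cfsg.Agent.H876.L64 (aK_add aK_smul aK_zero aK_brK)
open Cfsg.Agent.H942.DF (aK_mul' aK_one' aK_inv_r aK_inv_l)

variable {F : Type} [Field F] [Fintype F] {H : Subgroup E2} {f : P3 F →* E2} {z : ↥(chevE8.group KK)} {ζ : KK}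
  {g1 g2 qi qj : G3 F}

/-- the trace of a rational vector -/
theorem trl_up {t1 t2 i j : ↥(chevE8.group KK)} (D : DFr t1 t2 ζ i j) {e k : E2} (hi : z⁻¹ * H939.L64.em e * z = i)
    (hj : z⁻¹ * H939.L64.em k * z = j) (u : L2) : trl i j (aK z⁻¹ (up u)) =
      aK z⁻¹ (up ((u + a2 e u + a2 e (a2 e u) + a2 e (a2 e (a2 e u))) +
        a2 k (u + a2 e u + a2 e (a2 e u) + a2 e (a2 e (a2 e u))))) := by
  have ei : ∀ v : L2, aK i (aK z⁻¹ (up v)) = aK z⁻¹ (up (a2 e v)) := fun v => by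
    rw [← hi, aK_mul', aK_mul', aK_inv_r, aK_em_up]
  have ej : ∀ v : L2, aK j (aK z⁻¹ (up v)) = aK z⁻¹ (up (a2 k v)) := fun v => by
    rw [← hj, aK_mul', aK_mul', aK_inv_r, aK_em_up]
  have e1 : aK i (aK i (aK i (aK j (aK z⁻¹ (up u))))) = aK j (aK i (aK z⁻¹ (up u))) := (D.aji _).symm
  have e2 : aK i (aK i (aK j (aK z⁻¹ (up u)))) = aK j (aK i (aK i (aK z⁻¹ (up u)))) := by
    rw [D.aji, D.aji, D.a4]
  have e3 : aK i (aK j (aK z⁻¹ (up u))) = aK j (aK i (aK i (aK i (aK z⁻¹ (up u))))) := by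
    rw [D.aji, D.aji, D.aji, D.a4, D.a4]
  rw [trl_apply, e1, e2, e3, ei, ei, ei, ej, ej, ej, ej, up_add, up_add, up_add, up_add, aK_add, aK_add, aK_add, aK_add,
    Cfsg.Agent.H437.L34.a2_add, Cfsg.Agent.H437.L34.a2_add, Cfsg.Agent.H437.L34.a2_add, up_add, up_add, up_add, aK_add,
    aK_add, aK_add]
  abel

theorem tr_three (hF : Fintype.card F = 4) (S : Fsit V3 H f z ζ g1 g2 qi qj) :
    3 ≤ Module.finrank KK ((M0 (z⁻¹ * H939.L64.em (fg f g1) * z) (z⁻¹ * H939.L64.em (fg f g2) * z)).map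
      (trl (z⁻¹ * H939.L64.em (fg f qi) * z) (z⁻¹ * H939.L64.em (fg f qj) * z))) := by
  have D := dfr_of S
  obtain ⟨ω, h, e1, e2, e3, e4⟩ := S.uq
  obtain ⟨n5, n7, h5, h7, hd⟩ := Cfsg.Agent.H437.L34.dims_rho hF f S.sit.inj
  obtain ⟨-, -, h3⟩ := Cfsg.Agent.H904.L34.Uq.low h hF (Cfsg.Agent.H437.L34.ct_rho f) h5 h7 hd
  refine h3.trans ?_
  rw [← finrank_UK (K := KK)]
  have hinj : Function.Injective (Cfsg.Agent.H436.L34.ln z⁻¹) := fun u v huv => by
    have := congrArg (aK z) huv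
    rwa [Cfsg.Agent.H436.L34.ln_apply, Cfsg.Agent.H436.L34.ln_apply, aK_inv_r, aK_inv_r] at this
  refine (LinearEquiv.finrank_eq (Submodule.equivMapOfInjective _ hinj _)).trans_le (Submodule.finrank_mono ?_)
  rw [UK, Submodule.map_span, Submodule.span_le]
  rintro _ ⟨_, ⟨_, ⟨u, hu, rfl⟩, rfl⟩, rfl⟩
  rw [SetLike.mem_coe, Cfsg.Agent.H904.L34.Uq.mem_MDP] at hu
  have hu1 : a2 (fg f g1) u = u := by rw [e1]; exact hu.1
  have hu2 : a2 (fg f g2) u = u := by rw [e2]; exact hu.2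
  refine ⟨aK z⁻¹ (up u), ?_, ?_⟩
  · refine mem_M0.2 ⟨?_, ?_⟩
    · rw [aK_mul', aK_mul', aK_inv_r, aK_em_up, hu1]
    · rw [aK_mul', aK_mul', aK_inv_r, aK_em_up, hu2]
  · rw [trl_up D rfl rfl u, Cfsg.Agent.H904.L34.Unit.T8_apply, e3, e4]
    have r1 : ∀ g v, rho f g v = a2 (fg f g) v := fun g v => rfl
    simp only [r1, map_mul]
    rfl

end Cfsg.Agent.H968.L34
end

private theorem dce_e5b234ab918a : _root_.True := by
  try have : _root_.True := by simp only [_root_.Cfsg.Agent.H904.L34.Uq.MDP.eq_1]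
  try have : _root_.True := by simp only [_root_.Cfsg.Agent.H550.L34.gZ.congr_simp]
  try have : _root_.True := by simp only [_root_.Cfsg.Agent.H904.L34.av.congr_simp]
  try have : _root_.True := by simp only [_root_.Cfsg.Agent.H904.L34.Unit.EE.congr_simp]
  try have : _root_.True := by simp only [_root_.Cfsg.Agent.H550.L34.gJ.congr_simp]
  try have : _root_.True := by simp only [_root_.Cfsg.Agent.H550.L34.gW.congr_simp]
  try have : _root_.True := by simp only [_root_.Cfsg.Agent.H544.L34.Rat.UK.eq_1]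
  exact _root_.True.intro
end

-- part: H968/L34/HTwenty
section
set_option linter.all false
open scoped Cfsg.Agent.FastGrp

/-!
# S5917, type D: the ranks over the big field and the dimension 20 (helper968, from helper198's `twenty`)
-/

set_option autoImplicit false
set_option linter.unusedSectionVars false
set_option maxRecDepth 100000

namespace Cfsg.Agent.H968.L34

open Matrix Cfsg Cfsg.Lie Cfsg.Lie.ChevalleyDatum
open Cfsg.Agent.H691.L34
open Cfsg.Agent.H939.L64
open Cfsg.Agent.H251.L34 (V3)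
open Cfsg.Agent.H437.L34 (fg rho up_add)
open Cfsg.Agent.H888.L34.Model (P3)
open Cfsg.Agent.H939.L34 (Fsit UQ)
open Cfsg.Agent.H544.L34 (DFr M0 trl trl_apply mem_M0)
open Cfsg.Agent.H544.L34.Rat (UK finrank_UK)
open Cfsg.Agent.H876.L64 (aK_add aK_smul aK_zero aK_brK)
open Cfsg.Agent.H942.DF (aK_mul' aK_one' aK_inv_r aK_inv_l)
open Cfsg.Agent.H198.L34 (lna lna_apply twenty finrank_z)
open Cfsg.Agent.H436.L34 (F2 FK mem_F2 mem_FK finrank_fix)

variable {F : Type} [Field F] [Fintype F] {H : Subgroup E2} {f : P3 F →* E2} {z : ↥(chevE8.group KK)} {ζ : KK}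
  {g1 g2 qi qj : G3 F}

theorem cj_mul {G K : Type*} [Group G] [Group K] (φ : G →* K) (z : K) (a : G) :
    z⁻¹ * φ (a * a) * z = (z⁻¹ * φ a * z) * (z⁻¹ * φ a * z) := by
  rw [map_mul]
  group

theorem sub_two (x y : L2) : x - y = x + y := by
  funext k
  exact CharTwo.sub_eq_add (x k) (y k)

theorem add_two (x : LK) : x + x = 0 := by
  funext k
  exact CharTwo.add_self_eq_zero (x k)

theorem tr_twelve (hF : Fintype.card F = 4) (S : Fsit V3 H f z ζ g1 g2 qi qj) :
    12 ≤ Module.finrank KK ((M0 (z⁻¹ * H939.L64.em (fg f g1) * z) (z⁻¹ * H939.L64.em (fg f g2) * z)).map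
      (lna (z⁻¹ * H939.L64.em (fg f qi) * z) ∘ₗ lna (z⁻¹ * H939.L64.em (fg f qi) * z) + 1)) := by
  obtain ⟨ω, h, e1, e2, e3, e4⟩ := S.uq
  obtain ⟨n5, n7, h5, h7, hd⟩ := Cfsg.Agent.H437.L34.dims_rho hF f S.sit.inj
  obtain ⟨-, h3, -⟩ := Cfsg.Agent.H904.L34.Uq.low h hF (Cfsg.Agent.H437.L34.ct_rho f) h5 h7 hd
  refine h3.trans ?_
  rw [← finrank_UK (K := KK)]
  have hinj : Function.Injective (Cfsg.Agent.H436.L34.ln z⁻¹) := fun u v huv => by
    have := congrArg (aK z) huv
    rwa [Cfsg.Agent.H436.L34.ln_apply, Cfsg.Agent.H436.L34.ln_apply, aK_inv_r, aK_inv_r] at this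
  refine (LinearEquiv.finrank_eq (Submodule.equivMapOfInjective _ hinj _)).trans_le (Submodule.finrank_mono ?_)
  rw [UK, Submodule.map_span, Submodule.span_le]
  rintro _ ⟨_, ⟨_, ⟨u, hu, rfl⟩, rfl⟩, rfl⟩
  rw [SetLike.mem_coe, Cfsg.Agent.H904.L34.Uq.mem_MDP] at hu
  have hu1 : a2 (fg f g1) u = u := by rw [e1]; exact hu.1
  have hu2 : a2 (fg f g2) u = u := by rw [e2]; exact hu.2
  have ei : ∀ v : L2, aK (z⁻¹ * H939.L64.em (fg f qi) * z) (aK z⁻¹ (up v)) = aK z⁻¹ (up (a2 (fg f qi) v)) := fun v => by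
    rw [aK_mul', aK_mul', aK_inv_r, aK_em_up]
  refine ⟨aK z⁻¹ (up u), ?_, ?_⟩
  · refine mem_M0.2 ⟨?_, ?_⟩
    · rw [aK_mul', aK_mul', aK_inv_r, aK_em_up, hu1]
    · rw [aK_mul', aK_mul', aK_inv_r, aK_em_up, hu2]
  · have e5 : (rho f (H550.L34.gZ h)) u - u = a2 (fg f qi) (a2 (fg f qi) u) + u := by
      have r1 : ∀ g v, rho f g v = a2 (fg f g) v := fun g v => rfl
      have k2 : ∀ g : G3 F, rho f (g * g) u = rho f g (rho f g u) := fun g => by
        rw [map_mul]
        rfl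
      have k3 : rho f (H550.L34.gZ h) u = a2 (fg f qi) (a2 (fg f qi) u) := by
        rw [← Cfsg.Agent.H550.L34.W_W h, k2, r1, r1, ← e3]
      rw [k3]
      exact sub_two _ _
    show aK _ (aK _ (aK z⁻¹ (up u))) + aK z⁻¹ (up u) = aK z⁻¹ (up ((rho f (H550.L34.gZ h)) u - u))
    rw [e5, ei, ei, up_add, aK_add]

theorem m0_dim (hF : Fintype.card F = 4) (S : Fsit V3 H f z ζ g1 g2 qi qj) :
    Module.finrank KK (M0 (z⁻¹ * H939.L64.em (fg f g1) * z) (z⁻¹ * H939.L64.em (fg f g2) * z)) = 32 := by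
  obtain ⟨ω, h, e1, e2, e3, e4⟩ := S.uq
  obtain ⟨n5, n7, h5, h7, hd⟩ := Cfsg.Agent.H437.L34.dims_rho hF f S.sit.inj
  obtain ⟨h32, -, -⟩ := Cfsg.Agent.H904.L34.Uq.low h hF (Cfsg.Agent.H437.L34.ct_rho f) h5 h7 hd
  rw [finrank_z z {fg f g1, fg f g2} _ fun v => by
    rw [mem_M0]
    constructor
    · rintro ⟨k1, k2⟩ g (rfl | rfl)
      exacts [k1, k2]
    · intro k
      exact ⟨k _ (Or.inl rfl), k _ (Or.inr rfl)⟩]
  rw [← h32]
  have : F2 {fg f g1, fg f g2} = Cfsg.Agent.H904.L34.Uq.MDP (rho f) h := by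
    ext v
    rw [mem_F2, Cfsg.Agent.H904.L34.Uq.mem_MDP]
    constructor
    · intro k
      exact ⟨by rw [← e1]; exact k _ (Or.inl rfl), by rw [← e2]; exact k _ (Or.inr rfl)⟩
    · rintro ⟨k1, k2⟩ g (rfl | rfl)
      · rw [e1]; exact k1
      · rw [e2]; exact k2
  rw [this]

/-- **the dimension 20** -/
theorem h20_fsit (hF : Fintype.card F = 4) (S : Fsit V3 H f z ζ g1 g2 qi qj) :
    Module.finrank KK (FK {fg f g1, fg f g2, fg f qi * fg f qi}) = 20 := by
  rw [← finrank_fix]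
  rw [← finrank_z z {fg f g1, fg f g2, fg f qi * fg f qi}
    (M0 (z⁻¹ * H939.L64.em (fg f g1) * z) (z⁻¹ * H939.L64.em (fg f g2) * z) ⊓
      LinearMap.ker (lna (z⁻¹ * H939.L64.em (fg f qi) * z) ∘ₗ lna (z⁻¹ * H939.L64.em (fg f qi) * z) + 1)) fun v => ?_]
  · exact twenty (dfr_of S) (tr_three hF S) (tr_twelve hF S) (m0_dim hF S)
  · have e : aK (z⁻¹ * H939.L64.em (fg f qi * fg f qi) * z) v =
        aK (z⁻¹ * H939.L64.em (fg f qi) * z) (aK (z⁻¹ * H939.L64.em (fg f qi) * z) v) := by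
      rw [← aK_mul', cj_mul H939.L64.em z (fg f qi)]
    have e2 : v ∈ LinearMap.ker (lna (z⁻¹ * H939.L64.em (fg f qi) * z) ∘ₗ lna (z⁻¹ * H939.L64.em (fg f qi) * z) + 1) ↔
        aK (z⁻¹ * H939.L64.em (fg f qi * fg f qi) * z) v = v := by
      rw [e, LinearMap.mem_ker]
      show aK _ (aK _ v) + v = 0 ↔ _
      constructor
      · intro k
        exact Cfsg.Agent.H201.L34.eq_of_add_zero k
      · intro k
        rw [k]
        exact add_two v
    rw [Submodule.mem_inf, mem_M0, e2]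
    constructor
    · rintro ⟨⟨k1, k2⟩, k3⟩ g (rfl | rfl | rfl)
      exacts [k1, k2, k3]
    · intro k
      exact ⟨⟨k _ (Or.inl rfl), k _ (Or.inr (Or.inl rfl))⟩, k _ (Or.inr (Or.inr rfl))⟩

end Cfsg.Agent.H968.L34
end
end
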